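import Groth.Agent.QCohMod.SubMod

/-!
# Products of modules, sectionwise
-/

universe u

open CategoryTheory Limits AlgebraicGeometry Opposite TopologicalSpace

namespace Groth.RelTw

open Groth.QCohMod (res res_self res_res res_smul)

variable {X : Scheme.{u}} {ι : Type u} (M : ι → X.Modules)

/-- The presheaf of the product. -/
noncomputable def piAb : (Opens X)ᵒᵖ ⥤ AddCommGrpCat.{u} where
  obj W := AddCommGrpCat.of (∀ i, Γ(M i, W.unop))
  map {W W'} f := AddCommGrpCat.ofHom
    (AddMonoidHom.mk' (fun s i => res (M i) (leOfHom f.unop) (s i))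
      (fun _ _ => funext fun _ => map_add _ _ _))
  map_id W := by
    ext s i
    exact res_self (M i) (U := W.unop) _
  map_comp f g := by
    ext s i
    exact (res_res (M i) (leOfHom f.unop) (leOfHom g.unop) _).symm

noncomputable instance (W : (Opens X)ᵒᵖ) :
    Module (X.ringCatSheaf.obj.obj W) ((piAb M).obj W) :=
  inferInstanceAs (Module Γ(X, W.unop) (∀ i, Γ(M i, W.unop)))

/-- The product module. -/
noncomputable def piMod : X.Modules where
  val := PresheafOfModules.ofPresheaf (piAb M) fun W W' f r s =>
    funext fun i => res_smul (M i) (leOfHom f.unop) r (s i)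
  isSheaf := by
    change TopCat.Presheaf.IsSheaf (X := X.toPresheafedSpace) (piAb M)
    rw [TopCat.Presheaf.isSheaf_iff_isSheafUniqueGluing]
    intro κ U sf hsf
    choose s hs using fun i => Groth.CohTwo.exists_glue (M i) U (fun a => le_iSup U a)
      (fun x hx => Opens.mem_iSup.1 hx) (fun a => sf a i)
      (fun a b => congrFun (hsf a b) i)
    refine ⟨s, fun a => funext fun i => hs i a, fun t ht => funext fun i => ?_⟩
    refine Groth.CohTwo.eq_of_local (M i) _ _ fun x hx => ?_
    obtain ⟨a, ha⟩ := Opens.mem_iSup.1 hx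
    exact ⟨U a, le_iSup U a, ha, (congrFun (ht a) i).trans (hs i a).symm⟩

/-- The projections. -/
noncomputable def piProj (i : ι) : piMod M ⟶ M i :=
  ⟨PresheafOfModules.homMk
    { app := fun W => AddCommGrpCat.ofHom (AddMonoidHom.mk' (fun s => s i) fun _ _ => rfl)
      naturality := fun _ _ _ => rfl }
    (fun _ _ _ => rfl)⟩

/-- Sections of the product as families. -/
noncomputable def piSec {W : X.Opens} (s : Γ(piMod M, W)) : ∀ i, Γ(M i, W) := s

@[simp] theorem piProj_app {W : X.Opens} (i : ι) (s : Γ(piMod M, W)) :
    (piProj M i).app W s = piSec M s i := rfl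

end Groth.RelTw
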