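import Groth.Agent.RelTwist.Trans
import Groth.Agent.RelTwist.PiMod

/-!
# Existence of the relative twisting sheaves
-/

universe u

open CategoryTheory CategoryTheory.Limits AlgebraicGeometry Opposite TopologicalSpace
open scoped HomogeneousIdeal

set_option backward.isDefEq.respectTransparency.types false

namespace Groth.RelTw

open Groth.QCohMod (res res_smul SubMod)

variable {S P : Scheme.{u}} (𝒮 : RelProj.QCGrAlg S) (p : P ⟶ S)
  (chart : ∀ (U : S.Opens) (hU : IsAffineOpen U), (((p ⁻¹ᵁ U : P.Opens) : Scheme.{u}) ≅ Proj (𝒮.deg U hU)))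
  (n : ℤ)

/-- The twisting sheaves of the charts, pushed forward. -/
noncomputable def locTw (i : {U : S.Opens // IsAffineOpen U}) : P.Modules :=
  (Scheme.Modules.pushforward (RelProj.emb p chart i.1 i.2)).obj (GrTwist.twist (𝒮.deg i.1 i.2) n)

variable {𝒮 p chart n}

/-- The components of a family. -/
noncomputable def comp {W : P.Opens} (s : Γ(piMod (locTw 𝒮 p chart n), W)) (U : S.Opens) (hU : IsAffineOpen U) :
    Γ(GrTwist.twist (𝒮.deg U hU) n, RelProj.emb p chart U hU ⁻¹ᵁ W) :=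
  piSec _ s ⟨U, hU⟩

/-- The value of a component. -/
noncomputable def cval {W : P.Opens} (s : Γ(piMod (locTw 𝒮 p chart n), W)) (U : S.Opens) (hU : IsAffineOpen U)
    (y : ProjectiveSpectrum (𝒮.deg U hU)) (hy : RelProj.emb p chart U hU y ∈ W) : GrTwist.Loc (𝒮.deg U hU) y :=
  gval (comp s U hU) y hy

theorem cval_add {W : P.Opens} (s t : Γ(piMod (locTw 𝒮 p chart n), W)) (U : S.Opens) (hU : IsAffineOpen U)
    (y : ProjectiveSpectrum (𝒮.deg U hU)) (hy : RelProj.emb p chart U hU y ∈ W) :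
    cval (s + t) U hU y hy = cval s U hU y hy + cval t U hU y hy := rfl

theorem cval_zero {W : P.Opens} (U : S.Opens) (hU : IsAffineOpen U)
    (y : ProjectiveSpectrum (𝒮.deg U hU)) (hy : RelProj.emb p chart U hU y ∈ W) :
    cval (0 : Γ(piMod (locTw 𝒮 p chart n), W)) U hU y hy = 0 := rfl

theorem cval_smul {W : P.Opens} (r : Γ(P, W)) (s : Γ(piMod (locTw 𝒮 p chart n), W)) (U : S.Opens)
    (hU : IsAffineOpen U) (y : ProjectiveSpectrum (𝒮.deg U hU)) (hy : RelProj.emb p chart U hU y ∈ W) :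
    cval (r • s) U hU y hy =
      (((RelProj.emb p chart U hU).app W r).1 ⟨y, hy⟩).val * cval s U hU y hy :=
  gval_smul (U := RelProj.emb p chart U hU ⁻¹ᵁ W) ((RelProj.emb p chart U hU).app W r) (comp s U hU) y hy

theorem cval_res {W W' : P.Opens} (h : W' ≤ W) (s : Γ(piMod (locTw 𝒮 p chart n), W)) (U : S.Opens)
    (hU : IsAffineOpen U) (y : ProjectiveSpectrum (𝒮.deg U hU)) (hy : RelProj.emb p chart U hU y ∈ W') :
    cval (res _ h s) U hU y hy = cval s U hU y (h hy) := rfl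

section app

variable {A σ : Type u} [CommRing A] [SetLike σ A] [AddSubgroupClass σ A] {𝒜 : ℕ → σ} [GradedRing 𝒜]
  {B τ : Type u} [CommRing B] [SetLike τ B] [AddSubgroupClass τ B] {ℬ : ℕ → τ} [GradedRing ℬ]

/-- The functions along a morphism factoring through `Proj.map`. -/
theorem app_val_of_eq (ψ : 𝒜 →+*ᵍ ℬ) (hψ : HomogeneousIdeal.irrelevant ℬ ≤ (HomogeneousIdeal.irrelevant 𝒜).map ψ)
    {e : Proj ℬ ⟶ P} {e' : Proj 𝒜 ⟶ P} (h : Proj.map ψ hψ ≫ e' = e) {W : P.Opens} (r : Γ(P, W))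
    (y : ProjectiveSpectrum ℬ) (hy : y ∈ e ⁻¹ᵁ W) (hy' : ProjectiveSpectrum.comap ψ hψ y ∈ e' ⁻¹ᵁ W) :
    ((e.app W r).1 ⟨y, hy⟩).val =
      GrTwist.locMap ψ hψ y ((e'.app W r).1 ⟨ProjectiveSpectrum.comap ψ hψ y, hy'⟩).val := by
  subst h
  exact map_app_val ψ hψ (e'.app W r) y hy

end app

/-- The compatibility of a family along basic opens. -/
def Compat {W : P.Opens} (s : Γ(piMod (locTw 𝒮 p chart n), W)) : Prop :=
  ∀ (U : S.Opens) (hU : IsAffineOpen U) (r : Γ(S, U))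
    (y : ProjectiveSpectrum (𝒮.deg (S.basicOpen r) (hU.basicOpen r)))
    (hy : RelProj.emb p chart (S.basicOpen r) (hU.basicOpen r) y ∈ W)
    (hy' : RelProj.emb p chart U hU (ProjectiveSpectrum.comap
      (𝒮.res hU (hU.basicOpen r) (S.basicOpen_le r)) (𝒮.irrelevant_le_map U hU r) y) ∈ W),
    cval s (S.basicOpen r) (hU.basicOpen r) y hy =
      GrTwist.locMap (𝒮.res hU (hU.basicOpen r) (S.basicOpen_le r)) (𝒮.irrelevant_le_map U hU r) y
        (cval s U hU _ hy')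

variable (hP : RelProj.IsRelProj 𝒮 p chart)

include hP in
theorem Compat.smul {W : P.Opens} (c : Γ(P, W)) {s : Γ(piMod (locTw 𝒮 p chart n), W)} (hs : Compat s) :
    Compat (c • s) := by
  intro U hU r y hy hy'
  rw [cval_smul, cval_smul, map_mul, hs U hU r y hy hy',
    app_val_of_eq _ _ (RelProj.map_res_emb hP U hU r) c y hy hy']

/-- The compatible families. -/
noncomputable def relSub (n : ℤ) : SubMod (piMod (locTw 𝒮 p chart n)) where
  mem W :=
    { carrier := {s | Compat s}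
      zero_mem' := fun U hU r y hy hy' => by rw [cval_zero, cval_zero, map_zero]
      add_mem' := fun {s t} hs ht U hU r y hy hy' => by
        rw [cval_add, cval_add, map_add, hs U hU r y hy hy', ht U hU r y hy hy']
      smul_mem' := fun c s hs => Compat.smul hP c hs }
  res_mem {W W'} h s hs U hU r y hy hy' := by
    rw [cval_res, cval_res]
    exact hs U hU r y (h hy) (h hy')
  local_mem {W} s hs U hU r y hy hy' := by
    obtain ⟨W', h, hW', hs'⟩ := hs _ hy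
    have hW'' : RelProj.emb p chart U hU (ProjectiveSpectrum.comap
        (𝒮.res hU (hU.basicOpen r) (S.basicOpen_le r)) (𝒮.irrelevant_le_map U hU r) y) ∈ W' := by
      rwa [← congr($(RelProj.map_res_emb hP U hU r) y)] at hW'
    exact hs' U hU r y hW' hW''

/-- The relative twisting sheaf. -/
noncomputable def relTwist (n : ℤ) : P.Modules := (relSub hP n).toMod

/-- The identifications. -/
noncomputable def relLam (n : ℤ) (U : S.Opens) (hU : IsAffineOpen U) :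
    relTwist hP n ⟶ (Scheme.Modules.pushforward (RelProj.emb p chart U hU)).obj (GrTwist.twist (𝒮.deg U hU) n) :=
  (relSub hP n).ι ≫ piProj (locTw 𝒮 p chart n) ⟨U, hU⟩

theorem Compat.eq_T {W : P.Opens} {s : Γ(piMod (locTw 𝒮 p chart n), W)} (hs : Compat s) {V D : S.Opens}
    {hV : IsAffineOpen V} {hD : IsAffineOpen D} {hle : D ≤ V} (hr : ∃ r : Γ(S, V), S.basicOpen r = D)
    {x : ProjectiveSpectrum (𝒮.deg V hV)} {y : ProjectiveSpectrum (𝒮.deg D hD)}
    (h : Over hV hD hle x y) (hx : RelProj.emb p chart V hV x ∈ W) (hy : RelProj.emb p chart D hD y ∈ W) :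
    cval s D hD y hy = T h (cval s V hV x hx) := by
  obtain ⟨r, rfl⟩ := hr
  obtain rfl : x = ProjectiveSpectrum.comap (𝒮.res hV hD hle) (𝒮.irrelevant_le_map V hV r) y :=
    Over.eq h rfl
  exact hs V hV r y hy hx

theorem basic_of_le {V D D' : S.Opens} (h : D ≤ V) {f : Γ(S, V)} (e : S.basicOpen f = D') (h' : D' ≤ D) :
    ∃ r : Γ(S, D), S.basicOpen r = D' :=
  ⟨S.presheaf.map (homOfLE h).op f, by rw [S.basicOpen_res, e, inf_eq_right.mpr h']⟩

/-! ### Transporting a section of one chart to the others -/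

variable {U : S.Opens} {hU : IsAffineOpen U} {W : P.Opens}
  (q : Γ(GrTwist.twist (𝒮.deg U hU) n, RelProj.emb p chart U hU ⁻¹ᵁ W))

/-- `v` is the value at `y` of `q` seen in the chart `V`. -/
def IsVal {V : S.Opens} (hV : IsAffineOpen V) (y : ProjectiveSpectrum (𝒮.deg V hV))
    (v : GrTwist.Loc (𝒮.deg V hV) y) : Prop :=
  ∀ (D : S.Opens) (hD : IsAffineOpen D) (hleV : D ≤ V) (hleU : D ≤ U),
    (∃ r : Γ(S, V), S.basicOpen r = D) → (∃ r : Γ(S, U), S.basicOpen r = D) →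
    ∀ (y' : ProjectiveSpectrum (𝒮.deg D hD)) (x : ProjectiveSpectrum (𝒮.deg U hU))
      (h1 : Over hV hD hleV y y') (h2 : Over hU hD hleU x y') (hx : RelProj.emb p chart U hU x ∈ W),
      T h1 v = T h2 (gval q x hx)

include hP in
theorem exists_local (hW : W ≤ p ⁻¹ᵁ U) {V : S.Opens} (hV : IsAffineOpen V)
    (y : ProjectiveSpectrum (𝒮.deg V hV)) (hy : RelProj.emb p chart V hV y ∈ W) :
    ∃ (D : S.Opens) (hD : IsAffineOpen D) (hleV : D ≤ V) (hleU : D ≤ U),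
      (∃ r : Γ(S, V), S.basicOpen r = D) ∧ (∃ r : Γ(S, U), S.basicOpen r = D) ∧
      ∃ (y' : ProjectiveSpectrum (𝒮.deg D hD)) (x : ProjectiveSpectrum (𝒮.deg U hU)),
        Over hV hD hleV y y' ∧ Over hU hD hleU x y' ∧ RelProj.emb p chart U hU x = RelProj.emb p chart V hV y := by
  obtain ⟨D, hD, hz, hrV, hrU⟩ := exists_common hV hU (p_emb_mem V hV y) (hW hy)
  obtain ⟨y', hy'⟩ := exists_emb_eq (chart := chart) D hD hz
  obtain ⟨x, hx⟩ := exists_emb_eq (chart := chart) U hU (hW hy)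
  exact ⟨D, hD, by obtain ⟨r, rfl⟩ := hrV; exact S.basicOpen_le r, by obtain ⟨r, rfl⟩ := hrU; exact S.basicOpen_le r,
    hrV, hrU, y', x, over_of_emb_eq hP hrV hy'.symm, over_of_emb_eq hP hrU (hx.trans hy'.symm), hx⟩

include hP in
theorem IsVal.unique (hW : W ≤ p ⁻¹ᵁ U) {V : S.Opens} {hV : IsAffineOpen V}
    {y : ProjectiveSpectrum (𝒮.deg V hV)} (hy : RelProj.emb p chart V hV y ∈ W)
    {v v' : GrTwist.Loc (𝒮.deg V hV) y} (h : IsVal q hV y v) (h' : IsVal q hV y v') : v = v' := by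
  obtain ⟨D, hD, hleV, hleU, hrV, hrU, y', x, h1, h2, hx⟩ := exists_local hP hW hV y hy
  have hxW : RelProj.emb p chart U hU x ∈ W := hx.symm ▸ hy
  exact (T_bijective hrV h1).1 ((h D hD hleV hleU hrV hrU y' x h1 h2 hxW).trans
    (h' D hD hleV hleU hrV hrU y' x h1 h2 hxW).symm)

include hP in
theorem exists_isVal (hW : W ≤ p ⁻¹ᵁ U) {V : S.Opens} (hV : IsAffineOpen V)
    (y : ProjectiveSpectrum (𝒮.deg V hV)) (hy : RelProj.emb p chart V hV y ∈ W) :
    ∃ v, IsVal q hV y v := by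
  obtain ⟨D, hD, hleV, hleU, hrV, hrU, y', x, h1, h2, hx⟩ := exists_local hP hW hV y hy
  have hxW : RelProj.emb p chart U hU x ∈ W := hx.symm ▸ hy
  obtain ⟨v, hv⟩ := (T_bijective hrV h1).2 (T h2 (gval q x hxW))
  refine ⟨v, fun D2 hD2 hleV2 hleU2 hrV2 hrU2 y2 x2 h12 h22 hx2 => ?_⟩
  have e2 : RelProj.emb p chart D2 hD2 y2 = RelProj.emb p chart V hV y := (emb_eq_of_over hP hrV2 h12).symm
  have e1 : RelProj.emb p chart D hD y' = RelProj.emb p chart V hV y := (emb_eq_of_over hP hrV h1).symm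
  obtain rfl : x2 = x := (RelProj.emb p chart U hU).isOpenEmbedding.injective
    (((emb_eq_of_over hP hrU2 h22).trans e2).trans hx.symm)
  have hz1 : p (RelProj.emb p chart V hV y) ∈ D := e1 ▸ p_emb_mem D hD y'
  have hz2 : p (RelProj.emb p chart V hV y) ∈ D2 := e2 ▸ p_emb_mem D2 hD2 y2
  obtain ⟨f, hf, hzf⟩ := hV.exists_basicOpen_le (V := D ⊓ D2) ⟨_, hz1, hz2⟩ (p_emb_mem V hV y)
  obtain ⟨y3, hy3⟩ := exists_emb_eq (chart := chart) (S.basicOpen f) (hV.basicOpen f) hzf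
  have hle1 : S.basicOpen f ≤ D := hf.trans inf_le_left
  have hle2 : S.basicOpen f ≤ D2 := hf.trans inf_le_right
  have o1 : Over hD (hV.basicOpen f) hle1 y' y3 :=
    over_of_emb_eq hP (basic_of_le hleV rfl hle1) (e1.trans hy3.symm)
  have o2 : Over hD2 (hV.basicOpen f) hle2 y2 y3 :=
    over_of_emb_eq hP (basic_of_le hleV2 rfl hle2) (e2.trans hy3.symm)
  have oV := h1.trans o1
  have oU := h2.trans o1
  refine (T_bijective (basic_of_le hleV2 rfl hle2) o2).1 ?_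
  rw [T_trans h12 o2 oV, T_trans h22 o2 oU, ← T_trans h1 o1 oV, ← T_trans h2 o1 oU, hv]

/-- The value of `q` in the chart `V`. -/
noncomputable def tval (hW : W ≤ p ⁻¹ᵁ U) (V : S.Opens) (hV : IsAffineOpen V)
    (y : ProjectiveSpectrum (𝒮.deg V hV)) (hy : RelProj.emb p chart V hV y ∈ W) : GrTwist.Loc (𝒮.deg V hV) y :=
  (exists_isVal hP q hW hV y hy).choose

theorem tval_spec (hW : W ≤ p ⁻¹ᵁ U) (V : S.Opens) (hV : IsAffineOpen V)
    (y : ProjectiveSpectrum (𝒮.deg V hV)) (hy : RelProj.emb p chart V hV y ∈ W) :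
    IsVal q hV y (tval hP q hW V hV y hy) :=
  (exists_isVal hP q hW hV y hy).choose_spec

include hP in
/-- The values of `q` in another chart are locally given by one fraction. -/
theorem tval_frac (hW : W ≤ p ⁻¹ᵁ U) (V : S.Opens) (hV : IsAffineOpen V)
    (y : ProjectiveSpectrum (𝒮.deg V hV)) (hy : RelProj.emb p chart V hV y ∈ W) :
    ∃ (W' : (Proj (𝒮.deg V hV)).Opens) (_ : y ∈ W') (hle : W' ≤ RelProj.emb p chart V hV ⁻¹ᵁ W)
      (i j : ℕ) (a : 𝒮.deg V hV i) (b : 𝒮.deg V hV j)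
      (hb : ∀ y2 : W', (b : 𝒮.presheaf.obj (op V)) ∉ y2.1.asHomogeneousIdeal),
      ((i : ℤ) = j + n ∨ (a : 𝒮.presheaf.obj (op V)) = 0) ∧
      ∀ y2 : W', tval hP q hW V hV y2.1 (hle y2.2) = Localization.mk (a : 𝒮.presheaf.obj (op V)) ⟨b, hb y2⟩ := by
  obtain ⟨D, hD, hleV, hleU, hrV, hrU, y', x, h1, h2, hx⟩ := exists_local hP hW hV y hy
  have hxW : RelProj.emb p chart U hU x ∈ W := hx.symm ▸ hy
  obtain ⟨W1, hxW1, ι1, i, j, ⟨a, ha⟩, ⟨b, hb⟩, hnin, hdeg, hval⟩ :=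
    (q : GrTwist.sectN (𝒜 := 𝒮.deg U hU) n (op (RelProj.emb p chart U hU ⁻¹ᵁ W))).2 ⟨x, hxW⟩
  replace hdeg : (i : ℤ) = j + n ∨ a = 0 := hdeg
  obtain ⟨c, hc0, hcu, -, -, hsd⟩ := exists_num (hU := hV) (hD := hD) (hle := hleV) hrV
  obtain ⟨b', l, hb'd, hb'⟩ := hsd j (𝒮.res hU hD hleU b) ((𝒮.res hU hD hleU).map_mem hb)
  obtain ⟨a', m, ha'd, ha', hdeg'⟩ : ∃ (a' : 𝒮.presheaf.obj (op V)) (m : ℕ), a' ∈ 𝒮.deg V hV i ∧
      𝒮.res hV hD hleV a' = 𝒮.res hU hD hleU a * 𝒮.res hV hD hleV c ^ m ∧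
      ((i : ℤ) = j + n ∨ a' = 0) := by
    rcases hdeg with hd | hd
    · obtain ⟨a', m, h, h'⟩ := hsd i (𝒮.res hU hD hleU a) ((𝒮.res hU hD hleU).map_mem ha)
      exact ⟨a', m, h, h', Or.inl hd⟩
    · exact ⟨0, 0, zero_mem _, by rw [hd, map_zero, map_zero, zero_mul], Or.inr rfl⟩
  have hz : p (RelProj.emb p chart V hV y) ∈ D := (emb_eq_of_over hP hrV h1) ▸ p_emb_mem D hD y'
  let W' : (Proj (𝒮.deg V hV)).Opens :=
    RelProj.emb p chart V hV ⁻¹ᵁ (RelProj.emb p chart U hU ''ᵁ W1 ⊓ p ⁻¹ᵁ D)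
  have hyW' : y ∈ W' := ⟨⟨x, hxW1, hx⟩, hz⟩
  have key : ∀ y2 : W', ∃ (y2' : ProjectiveSpectrum (𝒮.deg D hD)) (x2 : ProjectiveSpectrum (𝒮.deg U hU))
      (hx2 : x2 ∈ W1), Over hV hD hleV y2.1 y2' ∧ Over hU hD hleU x2 y2' ∧
        RelProj.emb p chart U hU x2 = RelProj.emb p chart V hV y2.1 := by
    rintro ⟨y2, ⟨x2, hx2, e⟩, hz2⟩
    obtain ⟨y2', hy2'⟩ := exists_emb_eq (chart := chart) D hD hz2
    exact ⟨y2', x2, hx2, over_of_emb_eq hP hrV hy2'.symm, over_of_emb_eq hP hrU (e.trans hy2'.symm), e⟩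
  have hb_mem : ∀ y2 : W', b' * c ^ m ∉ y2.1.asHomogeneousIdeal := by
    intro y2 hc'
    obtain ⟨y2', x2, hx2, o1, o2, -⟩ := key y2
    have hu := y2'.isPrime
    have hnu : 𝒮.res hV hD hleV c ∉ y2'.asHomogeneousIdeal := fun hm =>
      hu.ne_top (Ideal.eq_top_of_isUnit_mem _ hm hcu)
    have hm : 𝒮.res hV hD hleV (b' * c ^ m) ∈ y2'.asHomogeneousIdeal.toIdeal := o1.le hc'
    rw [map_mul, map_pow, hb'] at hm
    rcases hu.mem_or_mem hm with hm | hm
    · rcases hu.mem_or_mem hm with hm | hm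
      · exact o2.notMem (hnin ⟨x2, hx2⟩) hm
      · exact hnu (hu.mem_of_pow_mem l hm)
    · exact hnu (hu.mem_of_pow_mem m hm)
  refine ⟨W', hyW', ?_, i, j, ⟨a' * c ^ l, ?_⟩, ⟨b' * c ^ m, ?_⟩, hb_mem, ?_, fun y2 => ?_⟩
  · rintro y2 hy2
    obtain ⟨y2', x2, hx2, -, -, e⟩ := key ⟨y2, hy2⟩
    exact show RelProj.emb p chart V hV y2 ∈ W from e ▸ ι1.le hx2
  · simpa using SetLike.mul_mem_graded ha'd (SetLike.pow_mem_graded l hc0)
  · simpa using SetLike.mul_mem_graded hb'd (SetLike.pow_mem_graded m hc0)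
  · exact hdeg'.imp id fun h => show a' * c ^ l = 0 by rw [h, zero_mul]
  · obtain ⟨y2', x2, hx2, o1, o2, e⟩ := key y2
    refine (T_bijective hrV o1).1 ?_
    rw [tval_spec hP q hW V hV y2.1 _ D hD hleV hleU hrV hrU y2' x2 o1 o2 (ι1.le hx2), T_mk]
    rw [show gval q x2 (ι1.le hx2) = Localization.mk a ⟨b, hnin ⟨x2, hx2⟩⟩ from hval ⟨x2, hx2⟩, T_mk]
    refine (loc_mk_eq).mpr ⟨1, ?_⟩
    simp only [one_smul, Submonoid.smul_def, smul_eq_mul, map_mul, map_pow, ha', hb']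
    ring

/-- The component in the chart `V` of the extension of `q`. -/
noncomputable def tsect (hW : W ≤ p ⁻¹ᵁ U) (V : S.Opens) (hV : IsAffineOpen V) :
    GrTwist.sectN (𝒜 := 𝒮.deg V hV) n (op (RelProj.emb p chart V hV ⁻¹ᵁ W)) :=
  ⟨fun y => ⟨tval hP q hW V hV y.1 y.2, by
      obtain ⟨W', hy, hle, i, j, a, b, hb, hdeg, hv⟩ := tval_frac hP q hW V hV y.1 y.2
      exact (hv ⟨y.1, hy⟩) ▸ mk_mem_twistAt _ a.2 b.2 _ hdeg⟩,
    fun y => by
      obtain ⟨W', hy, hle, i, j, a, b, hb, hdeg, hv⟩ := tval_frac hP q hW V hV y.1 y.2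
      exact ⟨W', hy, homOfLE hle, i, j, a, b, hb, hdeg, hv⟩⟩

/-- The extension of `q` to all charts. -/
noncomputable def tfam (hW : W ≤ p ⁻¹ᵁ U) : Γ(piMod (locTw 𝒮 p chart n), W) :=
  fun i => tsect hP q hW i.1 i.2

theorem cval_tfam (hW : W ≤ p ⁻¹ᵁ U) (V : S.Opens) (hV : IsAffineOpen V)
    (y : ProjectiveSpectrum (𝒮.deg V hV)) (hy : RelProj.emb p chart V hV y ∈ W) :
    cval (tfam hP q hW) V hV y hy = tval hP q hW V hV y hy := rfl

theorem compat_tfam (hW : W ≤ p ⁻¹ᵁ U) : Compat (tfam hP q hW) := by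
  intro V hV r y hy hy'
  rw [cval_tfam, cval_tfam]
  refine IsVal.unique hP q hW hy (tval_spec hP q hW _ _ y hy) ?_
  intro D hD hleV hleU hrV hrU y' x h1 h2 hx
  have h0 : Over hV (hV.basicOpen r) (S.basicOpen_le r)
      (ProjectiveSpectrum.comap (𝒮.res hV (hV.basicOpen r) (S.basicOpen_le r))
        (𝒮.irrelevant_le_map V hV r) y) y := rfl
  have h01 := h0.trans h1
  have hrV' : ∃ f : Γ(S, V), S.basicOpen f = D := by
    obtain ⟨g, hg⟩ := hrV
    obtain ⟨f, hf⟩ := hV.basicOpen_basicOpen_is_basicOpen r g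
    exact ⟨f, hf.trans hg⟩
  exact (T_trans h0 h1 h01 _).trans
    (tval_spec hP q hW V hV _ hy' D hD _ hleU hrV' hrU y' x h01 h2 hx)

theorem tval_self (hW : W ≤ p ⁻¹ᵁ U) (y : ProjectiveSpectrum (𝒮.deg U hU))
    (hy : RelProj.emb p chart U hU y ∈ W) : tval hP q hW U hU y hy = gval q y hy := by
  refine IsVal.unique hP q hW hy (tval_spec hP q hW U hU y hy) ?_
  intro D hD hleV hleU hrV hrU y' x h1 h2 hx
  obtain rfl : y = x := Over.eq h1 h2
  rfl

theorem relLam_bijective (n : ℤ) (U : S.Opens) (hU : IsAffineOpen U) (W : P.Opens) (hW : W ≤ p ⁻¹ᵁ U) :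
    Function.Bijective ((relLam hP n U hU).app W) := by
  constructor
  · intro s t hst
    have hs : Compat ((relSub hP n).ι.app W s) := (relSub hP n).ι_app_mem s
    have ht : Compat ((relSub hP n).ι.app W t) := (relSub hP n).ι_app_mem t
    have hU' : comp ((relSub hP n).ι.app W s) U hU = comp ((relSub hP n).ι.app W t) U hU := hst
    refine (relSub hP n).ι_app_injective W (funext fun i => ?_)
    refine gval_ext (U := RelProj.emb p chart i.1 i.2 ⁻¹ᵁ W) fun y hy => ?_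
    change cval ((relSub hP n).ι.app W s) i.1 i.2 y hy = cval ((relSub hP n).ι.app W t) i.1 i.2 y hy
    obtain ⟨D, hD, hleV, hleU, hrV, hrU, y', x, h1, h2, hx⟩ := exists_local hP hW i.2 y hy
    have hxW : RelProj.emb p chart U hU x ∈ W := hx.symm ▸ hy
    have hy' : RelProj.emb p chart D hD y' ∈ W := (emb_eq_of_over hP hrV h1) ▸ hy
    refine (T_bijective hrV h1).1 ?_
    rw [← hs.eq_T hrV h1 hy hy', ← ht.eq_T hrV h1 hy hy', hs.eq_T hrU h2 hxW hy', ht.eq_T hrU h2 hxW hy',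
      cval, cval, hU']
  · intro q
    obtain ⟨s, hs⟩ := (relSub hP n).exists_ι_app_eq (tfam (n := n) hP (hU := hU) q hW) (compat_tfam hP q hW)
    refine ⟨s, ?_⟩
    change comp ((relSub hP n).ι.app W s) U hU = q
    rw [hs]
    exact gval_ext (U := RelProj.emb p chart U hU ⁻¹ᵁ W) fun y hy => tval_self hP q hW y hy

theorem isRelTwist_relTwist (n : ℤ) :
    RelProj.IsRelTwist 𝒮 p chart n (relTwist hP n) (relLam hP n) :=
  ⟨relLam_bijective hP n, fun U hU r W s y hy hy' => (relSub hP n).ι_app_mem s U hU r y hy hy'⟩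

end Groth.RelTw
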