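import Groth.Agent.RelTwist.ProjUnivB

/-!
# Morphisms into a projective bundle: existence and uniqueness
-/

universe u

open CategoryTheory CategoryTheory.Limits AlgebraicGeometry Opposite TopologicalSpace
open scoped HomogeneousIdeal

set_option backward.isDefEq.respectTransparency.types false

noncomputable section

namespace Groth.RelTw

open Groth.PicAux

/-! ### Morphisms into an affine open -/

theorem appLE_toAffine {Z P : Scheme.{u}} {D : P.Opens} (hD : IsAffineOpen D) (q : Z ⟶ Spec Γ(P, D))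
    (h : (⊤ : Z.Opens) ≤ (q ≫ hD.fromSpec) ⁻¹ᵁ D) :
    (q ≫ hD.fromSpec).appLE D ⊤ h = (Scheme.ΓSpecIso Γ(P, D)).inv ≫ q.appTop := by
  have e : q ≫ hD.fromSpec = q ≫ Spec.map (𝟙 Γ(P, D)) ≫ hD.fromSpec := by rw [Spec.map_id, Category.id_comp]
  have key : ∀ (f : Z ⟶ P) (_ : f = q ≫ Spec.map (𝟙 Γ(P, D)) ≫ hD.fromSpec) (hf : (⊤ : Z.Opens) ≤ f ⁻¹ᵁ D),
      f.appLE D ⊤ hf = (Scheme.ΓSpecIso Γ(P, D)).inv ≫ q.appTop := by
    rintro f rfl hf
    rw [Scheme.Hom.appLE, app_comp_fromSpec, Category.id_comp, Category.assoc, ← Functor.map_comp]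
    exact (congrArg (_ ≫ ·) ((congrArg _ (Subsingleton.elim _ (𝟙 _))).trans (Z.presheaf.map_id _))).trans
      (Category.comp_id _)
  exact key _ e h

theorem exists_toAffine {Z P : Scheme.{u}} {D : P.Opens} (hD : IsAffineOpen D) (r : Z ⟶ P)
    (h : (⊤ : Z.Opens) ≤ r ⁻¹ᵁ D) :
    ∃ q : Z ⟶ Spec Γ(P, D), q ≫ hD.fromSpec = r :=
  ⟨IsOpenImmersion.lift hD.fromSpec r (by
    rw [hD.range_fromSpec]
    rintro _ ⟨z, rfl⟩
    exact h trivial), IsOpenImmersion.lift_fac _ _ _⟩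

theorem ext_affine {Z P : Scheme.{u}} {D : P.Opens} (hD : IsAffineOpen D) {r r' : Z ⟶ P}
    (h : (⊤ : Z.Opens) ≤ r ⁻¹ᵁ D) (h' : (⊤ : Z.Opens) ≤ r' ⁻¹ᵁ D)
    (e : r.appLE D ⊤ h = r'.appLE D ⊤ h') : r = r' := by
  obtain ⟨q, rfl⟩ := exists_toAffine hD r h
  obtain ⟨q', rfl⟩ := exists_toAffine hD r' h'
  rw [appLE_toAffine hD q h, appLE_toAffine hD q' h', cancel_epi] at e
  rw [ext_of_isAffine e]

theorem exists_hom_toAffine {Z P : Scheme.{u}} {D : P.Opens} (hD : IsAffineOpen D) (φ : Γ(P, D) ⟶ Γ(Z, ⊤)) :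
    ∃ (r : Z ⟶ P) (h : (⊤ : Z.Opens) ≤ r ⁻¹ᵁ D), r.appLE D ⊤ h = φ := by
  refine ⟨(Z.toSpecΓ ≫ Spec.map φ) ≫ hD.fromSpec, fun z _ => ?_, ?_⟩
  · exact hD.range_fromSpec.le ⟨(Z.toSpecΓ ≫ Spec.map φ) z, rfl⟩
  · rw [appLE_toAffine hD, Scheme.Hom.comp_appTop, Scheme.toSpecΓ_appTop, ← Scheme.ΓSpecIso_inv_naturality_assoc]
    exact (congrArg _ (Iso.inv_hom_id _)).trans (Category.comp_id _)

/-! ### Restriction to an open -/

theorem gen_image_of_restrict {X : Scheme.{u}} {M : X.Modules} (W : X.Opens)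
    {Z : (W : Scheme.{u}).Opens} {s : Γ(M, W.ι ''ᵁ Z)} (hs : Gen (M.restrict W.ι) Z s) :
    Gen M (W.ι ''ᵁ Z) s := by
  intro V hV
  obtain ⟨Z', rfl⟩ : ∃ Z', W.ι ''ᵁ Z' = V :=
    ⟨W.ι ⁻¹ᵁ V, by
      rw [Scheme.Hom.image_preimage_eq_opensRange_inf, Scheme.Opens.opensRange_ι, inf_eq_right]
      exact hV.trans (Scheme.Opens.ι_image_le W Z)⟩
  have hZ : Z' ≤ Z := fun z hz => by
    obtain ⟨z', hz', e⟩ := hV ⟨z, hz, rfl⟩
    exact W.ι.isOpenEmbedding.injective e ▸ hz'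
  exact (congrArg Function.Bijective (funext fun r => restrict_smul W Z' r _)).mp (hs Z' hZ)

variable {S X P : Scheme.{u}} {g : X ⟶ S} {E : S.Modules} {L : X.Modules} (σ : LinData g E L)

theorem image_pre_le (W : X.Opens) (U : S.Opens) : W.ι ''ᵁ ((W.ι ≫ g) ⁻¹ᵁ U) ≤ g ⁻¹ᵁ U :=
  fun _ ⟨_, hz, e⟩ => e ▸ hz

/-- The data on an open subscheme. -/
def LinData.restr (W : X.Opens) : LinData (W.ι ≫ g) E (L.restrict W.ι) where
  app U := AddMonoidHom.mk' (fun e => (res L (image_pre_le W U) (σ.app U e) : Γ(L, W.ι ''ᵁ ((W.ι ≫ g) ⁻¹ᵁ U))))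
    fun a b => by rw [map_add, res_add]; rfl
  app_smul U a e := by
    change (res L (image_pre_le W U) (σ.app U (a • e)) : Γ(L, W.ι ''ᵁ ((W.ι ≫ g) ⁻¹ᵁ U))) = _
    rw [σ.app_smul, PicAux.res_smul]
    exact (restrict_smul W _ _ _).symm
  app_res U V h e := by
    change res L (W.ι.image_mono ((W.ι ≫ g).preimage_mono h)) (res L (image_pre_le W U) (σ.app U e)) =
      res L (image_pre_le W V) (σ.app V _)
    rw [← σ.app_res U V h, PicAux.res_res, PicAux.res_res]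

theorem restr_app (W : X.Opens) (U : S.Opens) (e : Γ(E, U)) {V : (W : Scheme.{u}).Opens}
    (hV : V ≤ (W.ι ≫ g) ⁻¹ᵁ U) :
    res (L.restrict W.ι) hV ((σ.restr W).app U e) =
      (res L ((W.ι.image_mono hV).trans (image_pre_le W U)) (σ.app U e) : Γ(L, W.ι ''ᵁ V)) :=
  PicAux.res_res (M := L) (image_pre_le W U) (W.ι.image_mono hV) _

theorem genLoc_restr (W : X.Opens) (U : S.Opens) (e : Γ(E, U)) :
    (σ.restr W).genLoc U e = W.ι ⁻¹ᵁ σ.genLoc U e := by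
  refine le_antisymm ?_ ?_
  · intro z hz
    have h := gen_image_of_restrict W ((σ.restr W).gen_genLoc U e)
    refine σ.le_genLoc ((W.ι.image_mono ((σ.restr W).genLoc_le U e)).trans (image_pre_le W U)) ?_ ⟨z, hz, rfl⟩
    refine Eq.mp ?_ h
    exact congrArg (Gen L _) (PicAux.res_res (M := L) _ (W.ι.image_mono ((σ.restr W).genLoc_le U e)) _)
  · have hle : W.ι ⁻¹ᵁ σ.genLoc U e ≤ (W.ι ≫ g) ⁻¹ᵁ U := fun z hz => σ.genLoc_le U e hz
    refine (σ.restr W).le_genLoc hle (gen_restrict_image' W ?_)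
    have := (σ.gen_genLoc U e).res (W.ι.image_preimage_le (σ.genLoc U e))
    refine Eq.mp ?_ this
    exact congrArg (Gen L _) ((PicAux.res_res (M := L) _ _ _).trans
      (PicAux.res_res (M := L) (image_pre_le W U) (W.ι.image_mono hle) _).symm)
where
  gen_restrict_image' {M : X.Modules} (U : X.Opens) {W : (U : Scheme.{u}).Opens} {s : Γ(M, U.ι ''ᵁ W)}
      (hs : Gen M (U.ι ''ᵁ W) s) : Gen (M.restrict U.ι) W s := fun W' hW' =>
    (congrArg Function.Bijective (funext fun r => restrict_smul U W' r _)).mpr (hs _ (U.ι.image_mono hW'))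

variable [E.IsQuasicoherent] {𝒮 : RelProj.QCGrAlg S} {j : E ⟶ 𝒮.toModule}
  (hj : RelProj.IsGrSymAlg E 𝒮 j) {p : P ⟶ S}
  {chart : ∀ (U : S.Opens) (hU : IsAffineOpen U), (((p ⁻¹ᵁ U : P.Opens) : Scheme.{u}) ≅ Proj (𝒮.deg U hU))}
  (hP : RelProj.IsRelProj 𝒮 p chart)

include hP in
theorem rho_restr (W : X.Opens) (U : S.Opens) (hU : IsAffineOpen U) (e : Γ(E, U))
    (h : (σ.restr W).genLoc U e ≤ W.ι ⁻¹ᵁ σ.genLoc U e) :
    (σ.restr W).rho hj p chart hU e = σ.rho hj p chart hU e ≫ W.ι.appLE (σ.genLoc U e) ((σ.restr W).genLoc U e) h := by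
  refine CommRingCat.hom_ext (hom_ext_dPlus hj hP U hU e _ _ (fun a => ?_) fun e' => ?_)
  · have hc : resX P (dPlus_le U hU e) (p.app U a) =
        (coord hj chart U hU e).hom (jfrac hj U hU e 0 (𝒮.str_mem U hU a)) := (coord_str hj hP U hU e a).symm
    rw [hc, CommRingCat.comp_apply, LinData.rho_coord, LinData.rho_coord, LinData.fracHom_jfrac,
      LinData.fracHom_jfrac, LinData.algHom_str, LinData.algHom_str]
    rw [← CommRingCat.comp_apply, Scheme.Hom.appLE_comp_appLE]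
  · rw [CommRingCat.comp_apply, LinData.rho_coord, LinData.rho_coord, LinData.fracHom_jfrac,
      LinData.fracHom_jfrac, LinData.algHom_j, LinData.algHom_j]
    refine ((σ.restr W).eq_ratio ?_).symm
    refine (restrict_smul W _ _ _).trans ?_
    have hle : W.ι ''ᵁ (σ.restr W).genLoc U e ≤ σ.genLoc U e := (W.ι.image_mono h).trans (W.ι.image_preimage_le _)
    have := congrArg (res L hle) (σ.ratio_smul U e e')
    rw [PicAux.res_smul, PicAux.res_res, PicAux.res_res] at this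
    rw [restr_app σ W, restr_app σ W, Scheme.Opens.ι_appLE]
    exact this

/-! ### Uniqueness -/

variable {r : X ⟶ P}

theorem fits_hom_ext (hepi : ∀ z : X, ∃ (U : S.Opens) (_ : IsAffineOpen U)
      (e : Γ(E, U)), z ∈ σ.genLoc U e) {r' : X ⟶ P} (h : Fits σ hj chart r) (h' : Fits σ hj chart r') :
    r = r' := by
  choose U hU e he using hepi
  refine (X.openCoverOfIsOpenCover (fun z => σ.genLoc (U z) (e z))
    (eq_top_iff.2 fun z _ => Opens.mem_iSup.2 ⟨z, he z⟩)).hom_ext _ _ fun z => ?_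
  change (σ.genLoc (U z) (e z)).ι ≫ r = (σ.genLoc (U z) (e z)).ι ≫ r'
  set G := σ.genLoc (U z) (e z)
  have h1 : G ≤ r ⁻¹ᵁ dPlus p chart j (U z) (hU z) (e z) := (h.pre _ _ _).ge
  have h2 : G ≤ r' ⁻¹ᵁ dPlus p chart j (U z) (hU z) (e z) := (h'.pre _ _ _).ge
  refine ext_affine (isAffineOpen_dPlus hj (U z) (hU z) (e z)) (fun w _ => h1 w.2) (fun w _ => h2 w.2) ?_
  rw [← Scheme.Hom.appLE_comp_appLE G.ι r _ G ⊤ h1 (fun w _ => w.2),
    ← Scheme.Hom.appLE_comp_appLE G.ι r' _ G ⊤ h2 (fun w _ => w.2), h.fn _ _ _ h1, h'.fn _ _ _ h2]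

/-! ### Existence -/

variable {O1 : P.Modules}
  {lam : ∀ (U : S.Opens) (hU : IsAffineOpen U),
    O1 ⟶ (Scheme.Modules.pushforward (RelProj.emb p chart U hU)).obj (GrTwist.twist (𝒮.deg U hU) 1)}
  (hO1 : RelProj.IsRelTwist 𝒮 p chart 1 O1 lam)
  {φ : E ⟶ (Scheme.Modules.pushforward p).obj O1}
  (hφ : ∀ (U : S.Opens) (hU : IsAffineOpen U) (e : Γ(E, U))
    (y : ↥(RelProj.emb p chart U hU ⁻¹ᵁ (p ⁻¹ᵁ U))),
    GrTwist.val (V := RelProj.emb p chart U hU ⁻¹ᵁ (p ⁻¹ᵁ U))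
        ((lam U hU).app (p ⁻¹ᵁ U) ((φ.app U) e)) y =
      algebraMap (𝒮.presheaf.obj (op U)) (GrTwist.Loc (𝒮.deg U hU) y.1)
        ((j.app U) e : 𝒮.presheaf.obj (op U)))

include hj hP hO1 hφ in
theorem exists_fits_local (U : S.Opens) (hU : IsAffineOpen U) (e : Γ(E, U)) (htop : σ.genLoc U e = ⊤) :
    ∃ r : X ⟶ P, Fits σ hj chart r := by
  set D := dPlus p chart j U hU e
  have hD : IsAffineOpen D := isAffineOpen_dPlus hj U hU e
  obtain ⟨r, hr, happ⟩ := exists_hom_toAffine hD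
    (σ.rho hj p chart hU e ≫ X.presheaf.map (homOfLE htop.ge).op)
  have hrho : ∀ q : HomogeneousLocalization.Away (𝒮.deg U hU) (jel 𝒮 j U e),
      rAp r hr ((coord hj chart U hU e).hom q) = resX X htop.ge (σ.fracHom hj hU e q) := fun q => by
    rw [rAp, happ, CommRingCat.comp_apply, σ.rho_coord]
    rfl
  have hgU : (⊤ : X.Opens) ≤ g ⁻¹ᵁ U := htop.ge.trans (σ.genLoc_le U e)
  have hrU : (⊤ : X.Opens) ≤ (r ≫ p) ⁻¹ᵁ U := hr.trans (r.preimage_mono (dPlus_le U hU e))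
  have hc : r ≫ p = g := by
    refine ext_affine hU hrU hgU ?_
    refine CommRingCat.hom_ext (RingHom.ext fun a => ?_)
    rw [← Scheme.Hom.appLE_comp_appLE r p U D ⊤ (dPlus_le U hU e) hr, CommRingCat.comp_apply]
    have e1 : (p.appLE U D (dPlus_le U hU e)).hom a =
        (coord hj chart U hU e).hom (jfrac hj U hU e 0 (𝒮.str_mem U hU a)) :=
      (coord_str hj hP U hU e a).symm
    refine (congrArg (rAp r hr) e1).trans ?_
    rw [hrho, σ.fracHom_jfrac, σ.algHom_str]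
    exact resX_rAp g (σ.genLoc_le U e) htop.ge a
  have hgen0 : Gen L ⊤ (res L hgU (σ.app U e)) := by
    have := (σ.gen_genLoc U e).res htop.ge
    rwa [PicAux.res_res] at this
  have hbase : ∀ (e' : Γ(E, U)) (W : X.Opens) (hW : W ≤ r ⁻¹ᵁ D) (h : W ≤ g ⁻¹ᵁ U),
      res L h (σ.app U e') =
        rAp r hW ((coord hj chart U hU e).hom (jfrac hj U hU e 1 (hj.2 U hU e'))) • res L h (σ.app U e) := by
    intro e' W hW h
    have h1 := congrArg (res L ((le_top : W ≤ ⊤).trans htop.ge)) (σ.ratio_smul U e e')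
    rw [PicAux.res_smul, PicAux.res_res, PicAux.res_res] at h1
    refine h1.symm.trans (congrArg (· • res L h (σ.app U e)) ?_)
    rw [← resX_rAp r hr (le_top : W ≤ ⊤), hrho, σ.fracHom_jfrac, σ.algHom_j, resX_resX]
  have star := rel_of_base σ hj hO1 hφ hc U hU e hbase
  -- coefficients against `φ e` on the opens of `D`
  have hcoef : ∀ (U₂ : S.Opens) (e₂ : Γ(E, U₂)) (V : P.Opens) (hV : V ≤ D) (hV₂ : V ≤ p ⁻¹ᵁ U₂),
      ∃ R : Γ(P, V), res O1 hV₂ (phiSec φ U₂ e₂) = R • res O1 (hV.trans (dPlus_le U hU e)) (phiSec φ U e) := by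
    intro U₂ e₂ V hV hV₂
    obtain ⟨R, hR⟩ := (gen_app hj hO1 hφ U hU e).exists_coeff hV (res O1 hV₂ (phiSec φ U₂ e₂))
    exact ⟨R, hR.trans (congrArg (R • ·) (PicAux.res_res (M := O1) _ _ _))⟩
  refine ⟨r, fits_of_gen_rel σ hj hP hO1 hφ hc (fun U₁ hU₁ e₁ h => ?_) ?_⟩
  · let V := dPlus p chart j U₁ hU₁ e₁ ⊓ D
    have hpre : r ⁻¹ᵁ dPlus p chart j U₁ hU₁ e₁ ≤ r ⁻¹ᵁ V := fun z hz => ⟨hz, hr trivial⟩
    obtain ⟨R, hR⟩ := hcoef U₁ e₁ V inf_le_right (inf_le_left.trans (dPlus_le U₁ hU₁ e₁))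
    have hu : IsUnit R := by
      have hg1 := (gen_app hj hO1 hφ U₁ hU₁ e₁).res (inf_le_left : V ≤ _)
      have hg0 := (gen_app hj hO1 hφ U hU e).res (inf_le_right : V ≤ D)
      rw [PicAux.res_res] at hg1 hg0
      exact hg0.isUnit_of_smul (hR ▸ hg1)
    rw [star U₁ e₁ V inf_le_right (inf_le_left.trans (dPlus_le U₁ hU₁ e₁)) R hR _ hpre (le_top.trans hgU) h]
    have := (hgen0.res (le_top : r ⁻¹ᵁ dPlus p chart j U₁ hU₁ e₁ ≤ ⊤)).smul_unit (hu.map (rAp r hpre))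
    rwa [PicAux.res_res] at this
  · intro U₁ hU₁ e₁ U₂ hU₂ e₂ V hV hV' R hR W hW h h'
    let V' := V ⊓ D
    have hW' : W ≤ r ⁻¹ᵁ V' := fun z hz => ⟨hW hz, hr trivial⟩
    have hV1 : V' ≤ p ⁻¹ᵁ U₁ := (inf_le_left.trans hV).trans (dPlus_le U₁ hU₁ e₁)
    obtain ⟨R₁, hR₁⟩ := hcoef U₁ e₁ V' inf_le_right hV1
    obtain ⟨R₂, hR₂⟩ := hcoef U₂ e₂ V' inf_le_right (inf_le_left.trans hV')
    have e12 : R₂ = resX P (inf_le_left : V' ≤ V) R * R₁ := by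
      refine (gen_app hj hO1 hφ U hU e).smul_inj (inf_le_right : V' ≤ D) ?_
      rw [PicAux.res_res, mul_smul, ← hR₁, ← hR₂]
      have := congrArg (res O1 (inf_le_left : V' ≤ V)) hR
      rwa [PicAux.res_smul, PicAux.res_res, PicAux.res_res] at this
    rw [star U₂ e₂ V' inf_le_right (inf_le_left.trans hV') R₂ hR₂ W hW' (le_top.trans hgU) h',
      star U₁ e₁ V' inf_le_right hV1 R₁ hR₁ W hW' (le_top.trans hgU) h, e12, map_mul, mul_smul, rAp_resX]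

include hj hP hO1 hφ in
theorem exists_fits (hepi : ∀ z : X, ∃ (U : S.Opens) (_ : IsAffineOpen U)
      (e : Γ(E, U)), z ∈ σ.genLoc U e) :
    ∃ r : X ⟶ P, Fits σ hj chart r := by
  choose U hU e he using hepi
  let G : X → X.Opens := fun z => σ.genLoc (U z) (e z)
  have htop : ∀ z, (σ.restr (G z)).genLoc (U z) (e z) = ⊤ := fun z => by
    rw [genLoc_restr, Scheme.Opens.ι_preimage_self]
  choose rl hrl using fun z => exists_fits_local (σ.restr (G z)) hj hP hO1 hφ (U z) (hU z) (e z) (htop z)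
  -- functions on the pieces
  have key : ∀ (z : X) (U₁ : S.Opens) (hU₁ : IsAffineOpen U₁) (e₁ : Γ(E, U₁)) {Z : Scheme.{u}}
      (k : Z ⟶ G z) (hk : (⊤ : Z.Opens) ≤ (k ≫ (G z).ι) ⁻¹ᵁ σ.genLoc U₁ e₁),
      ∃ h : (⊤ : Z.Opens) ≤ (k ≫ rl z) ⁻¹ᵁ dPlus p chart j U₁ hU₁ e₁,
        (k ≫ rl z).appLE (dPlus p chart j U₁ hU₁ e₁) ⊤ h =
          σ.rho hj p chart hU₁ e₁ ≫ (k ≫ (G z).ι).appLE (σ.genLoc U₁ e₁) ⊤ hk := by
    intro z U₁ hU₁ e₁ Z k hk
    have hG : (σ.restr (G z)).genLoc U₁ e₁ ≤ (G z).ι ⁻¹ᵁ σ.genLoc U₁ e₁ := (genLoc_restr σ _ _ _).le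
    have hk' : (⊤ : Z.Opens) ≤ k ⁻¹ᵁ (σ.restr (G z)).genLoc U₁ e₁ :=
      hk.trans (k.preimage_mono (genLoc_restr σ _ _ _).ge)
    have hrz := ((hrl z).pre U₁ hU₁ e₁).ge
    refine ⟨hk'.trans (k.preimage_mono hrz), ?_⟩
    rw [← Scheme.Hom.appLE_comp_appLE k (rl z) _ _ ⊤ hrz hk', (hrl z).fn U₁ hU₁ e₁ hrz,
      rho_restr σ hj hP (G z) U₁ hU₁ e₁ hG, Category.assoc, Scheme.Hom.appLE_comp_appLE k (G z).ι]
  let 𝒰 := X.openCoverOfIsOpenCover G (eq_top_iff.2 fun z _ => Opens.mem_iSup.2 ⟨z, he z⟩)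
  have hagree : ∀ a b : X, pullback.fst (G a).ι (G b).ι ≫ rl a = pullback.snd (G a).ι (G b).ι ≫ rl b := by
    intro a b
    have h1 : (⊤ : (pullback (G a).ι (G b).ι).Opens) ≤
        (pullback.fst (G a).ι (G b).ι ≫ (G a).ι) ⁻¹ᵁ σ.genLoc (U a) (e a) := fun w _ =>
      (pullback.fst (G a).ι (G b).ι w).2
    have h2 : (⊤ : (pullback (G a).ι (G b).ι).Opens) ≤
        (pullback.snd (G a).ι (G b).ι ≫ (G b).ι) ⁻¹ᵁ σ.genLoc (U a) (e a) := by
      rwa [← pullback.condition]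
    obtain ⟨ha, ea⟩ := key a (U a) (hU a) (e a) _ h1
    obtain ⟨hb, eb⟩ := key b (U a) (hU a) (e a) _ h2
    refine ext_affine (isAffineOpen_dPlus hj (U a) (hU a) (e a)) ha hb (ea.trans (Eq.trans ?_ eb.symm))
    congr 1
    exact appLE_congr_hom pullback.condition _ _
  let r := 𝒰.glueMorphisms rl hagree
  have hr : ∀ z, (G z).ι ≫ r = rl z := fun z => 𝒰.ι_glueMorphisms rl hagree z
  have hpre : ∀ (U₁ : S.Opens) (hU₁ : IsAffineOpen U₁) (e₁ : Γ(E, U₁)),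
      r ⁻¹ᵁ dPlus p chart j U₁ hU₁ e₁ = σ.genLoc U₁ e₁ := by
    intro U₁ hU₁ e₁
    ext w
    have h1 := congrArg (fun V => (⟨w, he w⟩ : G w) ∈ V)
      (((hrl w).pre U₁ hU₁ e₁).trans (genLoc_restr σ (G w) U₁ e₁))
    rw [← hr w] at h1
    exact Iff.of_eq h1
  refine ⟨r, ?_, hpre, fun U₁ hU₁ e₁ h => CommRingCat.hom_ext (RingHom.ext fun F => ?_)⟩
  · refine 𝒰.hom_ext _ _ fun z => ?_
    change (G z).ι ≫ r ≫ p = (G z).ι ≫ g
    rw [reassoc_of% (hr z)]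
    exact (hrl z).comp
  · refine resX_ext (fun z => σ.genLoc U₁ e₁ ⊓ G z) (fun _ => inf_le_left)
      (fun w hw => Opens.mem_iSup.2 ⟨w, hw, he w⟩) fun z => ?_
    let W := σ.genLoc U₁ e₁ ⊓ G z
    let k : (W : Scheme.{u}) ⟶ G z := X.homOfLE inf_le_right
    have hkι : k ≫ (G z).ι = W.ι := X.homOfLE_ι _
    have hk : (⊤ : (W : Scheme.{u}).Opens) ≤ (k ≫ (G z).ι) ⁻¹ᵁ σ.genLoc U₁ e₁ := by
      rw [hkι]; exact fun w _ => w.2.1
    obtain ⟨hh, ek⟩ := key z U₁ hU₁ e₁ k hk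
    have ekr : k ≫ rl z = W.ι ≫ r := by rw [← hr z, reassoc_of% hkι]
    have hh' : (⊤ : (W : Scheme.{u}).Opens) ≤ (W.ι ≫ r) ⁻¹ᵁ dPlus p chart j U₁ hU₁ e₁ := ekr ▸ hh
    have hW' : (⊤ : (W : Scheme.{u}).Opens) ≤ W.ι ⁻¹ᵁ σ.genLoc U₁ e₁ := fun w _ => w.2.1
    rw [appLE_congr_hom ekr hh hh', appLE_congr_hom hkι hk hW',
      ← Scheme.Hom.appLE_comp_appLE W.ι r _ (σ.genLoc U₁ e₁) ⊤ h hW'] at ek
    have e2 := congr(($ek).hom F)
    rw [Scheme.Opens.ι_appLE] at e2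
    have e3 := congrArg (resX X (Scheme.Opens.ι_image_top W).ge) e2
    change resX X _ (resX X _ _) = resX X _ (resX X _ _) at e3
    rw [resX_resX, resX_resX] at e3
    exact e3
where
  appLE_congr_hom {Z Y : Scheme.{u}} {f f' : Z ⟶ Y} (e : f = f') {V : Y.Opens} {W : Z.Opens}
      (h : W ≤ f ⁻¹ᵁ V) (h' : W ≤ f' ⁻¹ᵁ V) : f.appLE V W h = f'.appLE V W h' := by
    subst e; rfl

end Groth.RelTw
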