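import Groth.Agent.RelTwist.Basic
import Groth.Agent.Ega2Proj2.RelProjBasic

/-!
# Functions of the base on the charts of a relative Proj
-/

universe u

open CategoryTheory CategoryTheory.Limits AlgebraicGeometry Opposite TopologicalSpace
open scoped HomogeneousIdeal

set_option backward.isDefEq.respectTransparency.types false

noncomputable section

namespace Groth.RelTw

section const

variable {A σ : Type u} [CommRing A] [SetLike σ A] [AddSubgroupClass σ A] (𝒜 : ℕ → σ) [GradedRing 𝒜]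

theorem appTop_topIso_inv {X : Scheme.{u}} (U : X.Opens) (hU : U = ⊤) (j : X ⟶ U.toScheme) (hj : j ≫ U.ι = 𝟙 X) :
    U.topIso.inv ≫ j.appTop = X.presheaf.map (homOfLE hU.ge).op := by
  have h1 : U.ι.appTop = X.presheaf.map (homOfLE (le_top : U ≤ ⊤)).op ≫ U.topIso.inv := by
    simp [Scheme.Hom.appTop, Scheme.Opens.ι_app, Scheme.Opens.topIso]
    exact (X.presheaf.map_comp _ _).symm.trans rfl |>.symm
  have he : X.presheaf.map (homOfLE hU.ge).op ≫ X.presheaf.map (homOfLE (le_top : U ≤ ⊤)).op = 𝟙 _ := by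
    rw [← Functor.map_comp, ← X.presheaf.map_id]; rfl
  calc U.topIso.inv ≫ j.appTop
      = X.presheaf.map (homOfLE hU.ge).op ≫ X.presheaf.map (homOfLE (le_top : U ≤ ⊤)).op ≫
          U.topIso.inv ≫ j.appTop := by
        rw [← Category.assoc (X.presheaf.map (homOfLE hU.ge).op), he, Category.id_comp]
    _ = X.presheaf.map (homOfLE hU.ge).op ≫ (j ≫ U.ι).appTop := by
        rw [Scheme.Hom.comp_appTop, h1, Category.assoc]
    _ = X.presheaf.map (homOfLE hU.ge).op := by rw [hj]; simp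

/-- The value of a constant function. -/
theorem toSpecZero_appTop_val (c : 𝒜 0) (x : ProjectiveSpectrum 𝒜) :
    ((((Scheme.ΓSpecIso (CommRingCat.of (𝒜 0))).inv ≫ (Proj.toSpecZero 𝒜).appTop).hom c).1 ⟨x, trivial⟩).val =
      (Localization.mk (c : A) 1 : GrTwist.Loc 𝒜 x) := by
  have hj : ((Scheme.topIso (Proj 𝒜)).inv ≫ ((Proj 𝒜).isoOfEq (Proj.basicOpen_one 𝒜)).inv) ≫
      (Proj.basicOpen 𝒜 1).ι = 𝟙 _ := by
    simp [Scheme.isoOfEq_inv_ι]
  have h : (Scheme.ΓSpecIso (CommRingCat.of (𝒜 0))).inv ≫ (Proj.toSpecZero 𝒜).appTop =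
      CommRingCat.ofHom (HomogeneousLocalization.fromZeroRingHom 𝒜 (Submonoid.powers (1 : A))) ≫
        Proj.awayToSection 𝒜 1 ≫ (Proj 𝒜).presheaf.map (homOfLE (Proj.basicOpen_one 𝒜).ge).op := by
    rw [← appTop_topIso_inv _ (Proj.basicOpen_one 𝒜) _ hj]
    rw [Proj.toSpecZero]
    simp only [Scheme.Hom.comp_appTop, Category.assoc]
    rw [← Scheme.ΓSpecIso_inv_naturality_assoc]
    simp only [Scheme.Hom.appTop, Proj.basicOpenToSpec_app_top, Category.assoc, Iso.inv_hom_id_assoc]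
  rw [h]
  rfl

end const

variable {S P : Scheme.{u}} {𝒮 : RelProj.QCGrAlg S} {p : P ⟶ S}
  {chart : ∀ (U : S.Opens) (hU : IsAffineOpen U), (((p ⁻¹ᵁ U : P.Opens) : Scheme.{u}) ≅ Proj (𝒮.deg U hU))}
  (hP : RelProj.IsRelProj 𝒮 p chart)

theorem app_comp_fromSpec {U : S.Opens} (hU : IsAffineOpen U) {R : CommRingCat.{u}} {X : Scheme.{u}}
    (G : X ⟶ Spec R) (φ : Γ(S, U) ⟶ R) :
    (G ≫ Spec.map φ ≫ hU.fromSpec).app U =
      (φ ≫ (Scheme.ΓSpecIso R).inv ≫ G.appTop) ≫ X.presheaf.map (homOfLE le_top).op := by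
  have h1 : ∀ {Y Z : Scheme.{u}} (f : Z ⟶ Y) (V : Y.Opens) (i : V ⟶ ⊤) (x : Γ(Y, ⊤)),
      f.app V (Y.presheaf.map i.op x) = Z.presheaf.map (homOfLE le_top).op (f.appTop x) := by
    intro Y Z f V i x
    exact congr(($(f.naturality i.op)).hom x)
  have h2 : ∀ (x : Γ(S, U)), (Spec.map φ).appTop ((Scheme.ΓSpecIso Γ(S, U)).inv x) =
      (Scheme.ΓSpecIso R).inv (φ x) := fun x =>
    congr(($(Scheme.ΓSpecIso_inv_naturality φ)).hom x).symm
  rw [Scheme.Hom.comp_app, Scheme.Hom.comp_app, hU.fromSpec_app_self]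
  refine CommRingCat.hom_ext (RingHom.ext fun x => ?_)
  change G.app (Spec.map φ ⁻¹ᵁ (hU.fromSpec ⁻¹ᵁ U)) ((Spec.map φ).app (hU.fromSpec ⁻¹ᵁ U)
      ((Spec Γ(S, U)).presheaf.map (eqToHom hU.fromSpec_preimage_self).op ((Scheme.ΓSpecIso Γ(S, U)).inv x))) =
    X.presheaf.map (homOfLE le_top).op (G.appTop ((Scheme.ΓSpecIso R).inv (φ x)))
  rw [h1, h2]
  exact h1 G _ (homOfLE le_top) _

theorem val_app_congr {X : Scheme.{u}} {A σ : Type u} [CommRing A] [SetLike σ A] [AddSubgroupClass σ A]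
    {𝒜 : ℕ → σ} [GradedRing 𝒜] {f g : Proj 𝒜 ⟶ X} (h : f = g) {U : X.Opens} (r : Γ(X, U))
    (y : ProjectiveSpectrum 𝒜) (hy : y ∈ f ⁻¹ᵁ U) :
    ((f.app U r).1 ⟨y, hy⟩).val = ((g.app U r).1 ⟨y, h ▸ hy⟩).val := by
  subst h; rfl

include hP in
/-- The value in a chart of a function of the base. -/
theorem val_app_base (U : S.Opens) (hU : IsAffineOpen U) (r : Γ(S, U)) (y : ProjectiveSpectrum (𝒮.deg U hU))
    (hy : RelProj.emb p chart U hU y ∈ p ⁻¹ᵁ U) :
    (((RelProj.emb p chart U hU).app (p ⁻¹ᵁ U) (p.app U r)).1 ⟨y, hy⟩).val =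
      algebraMap (𝒮.presheaf.obj (op U)) (GrTwist.Loc (𝒮.deg U hU) y) ((𝒮.str.app (op U)).hom r) := by
  refine (val_app_congr (Groth.Ega2P2.emb_p hP U hU) r y hy).trans ?_
  rw [← Localization.mk_one_eq_algebraMap]
  refine Eq.trans ?_ (toSpecZero_appTop_val (𝒮.deg U hU) ((𝒮.strZero U hU).hom r) y)
  rw [app_comp_fromSpec hU]
  rfl

end Groth.RelTw
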