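import Groth.Agent.RelTwist.ProjBdl
import Groth.Agent.RelTwist.BaseFun
import Groth.Agent.LocFree.AffineHom

/-!
# The canonical map `E ⟶ p_* O(1)`
-/

universe u

open CategoryTheory CategoryTheory.Limits AlgebraicGeometry Opposite TopologicalSpace
open scoped HomogeneousIdeal

set_option backward.isDefEq.respectTransparency.types false

noncomputable section

namespace Groth.RelTw

open Groth.PicAux

variable {S P : Scheme.{u}} {E : S.Modules} {𝒮 : RelProj.QCGrAlg S} {j : E ⟶ 𝒮.toModule}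
  (hj : RelProj.IsGrSymAlg E 𝒮 j) {p : P ⟶ S}
  {chart : ∀ (U : S.Opens) (hU : IsAffineOpen U), (((p ⁻¹ᵁ U : P.Opens) : Scheme.{u}) ≅ Proj (𝒮.deg U hU))}
  (hP : RelProj.IsRelProj 𝒮 p chart)
  {O1 : P.Modules}
  {lam : ∀ (U : S.Opens) (hU : IsAffineOpen U),
    O1 ⟶ (Scheme.Modules.pushforward (RelProj.emb p chart U hU)).obj (GrTwist.twist (𝒮.deg U hU) 1)}
  (hO1 : RelProj.IsRelTwist 𝒮 p chart 1 O1 lam)

theorem gval_global {A σ : Type u} [CommRing A] [SetLike σ A] [AddSubgroupClass σ A] {𝒜 : ℕ → σ}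
    [GradedRing 𝒜] {e : ℕ} {a : A} (ha : a ∈ 𝒜 e) (V : (Proj 𝒜).Opens) (y : ProjectiveSpectrum 𝒜) (hy : y ∈ V) :
    gval (frac (n := (e : ℤ)) (e' := 0) ha SetLike.GradedOne.one_mem (by simp) V
      (fun x _ h => x.isPrime.ne_top ((Ideal.eq_top_iff_one _).mpr h))) y hy = algebraMap A (GrTwist.Loc 𝒜 y) a := by
  rw [gval_frac, ← Localization.mk_one_eq_algebraMap]
  rfl

include hj hO1 in
theorem exists_phi_sec (U : S.Opens) (hU : IsAffineOpen U) (e : Γ(E, U)) :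
    ∃ s : Γ(O1, p ⁻¹ᵁ U), ∀ (y : ProjectiveSpectrum (𝒮.deg U hU))
      (hy : RelProj.emb p chart U hU y ∈ p ⁻¹ᵁ U),
      pv lam U hU s y hy = algebraMap _ (GrTwist.Loc (𝒮.deg U hU) y) (jel 𝒮 j U e) := by
  have he : jel 𝒮 j U e ∈ 𝒮.deg U hU 1 := hj.2 U hU e
  obtain ⟨s, hs⟩ := (hO1.bijective U hU _ le_rfl).2
    (frac (n := ((1 : ℕ) : ℤ)) (e' := 0) he SetLike.GradedOne.one_mem (by simp)
      (RelProj.emb p chart U hU ⁻¹ᵁ (p ⁻¹ᵁ U))
      (fun x _ h => x.isPrime.ne_top ((Ideal.eq_top_iff_one _).mpr h)))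
  refine ⟨s, fun y hy => ?_⟩
  rw [pv, hs]
  exact gval_global he _ y hy

include hP hj hO1 in
theorem phi_compat {U V : S.Opens} (hU : IsAffineOpen U) (hV : IsAffineOpen V) (h : V ≤ U) (e : Γ(E, U))
    {s : Γ(O1, p ⁻¹ᵁ U)} (hs : ∀ (y : ProjectiveSpectrum (𝒮.deg U hU))
      (hy : RelProj.emb p chart U hU y ∈ p ⁻¹ᵁ U),
      pv lam U hU s y hy = algebraMap _ (GrTwist.Loc (𝒮.deg U hU) y) (jel 𝒮 j U e))
    {t : Γ(O1, p ⁻¹ᵁ V)} (ht : ∀ (y : ProjectiveSpectrum (𝒮.deg V hV))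
      (hy : RelProj.emb p chart V hV y ∈ p ⁻¹ᵁ V),
      pv lam V hV t y hy = algebraMap _ (GrTwist.Loc (𝒮.deg V hV) y) (jel 𝒮 j V (Groth.QCohMod.res E h e))) :
    res O1 (p.preimage_mono h) s = t := by
  refine sec_ext_cover lam hO1 fun z hz => ?_
  obtain ⟨D, hD, hDU, hDV, iU, iV, hzD, hrU, hrV, hpt⟩ :=
    exists_chart_overlap hP hU hV (z := z) (h hz) hz
  refine ⟨D, hD, hzD, fun y hy => ?_⟩
  obtain ⟨hy1, e1⟩ := pv_transfer hP hO1 hV hD hrV hDV iV t y hy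
  rw [e1, ht _ hy1, pv_res]
  obtain ⟨hy2, e2⟩ := pv_transfer hP hO1 hU hD hrU hDU iU s y (h hy)
  rw [e2, hs _ hy2]
  have key : ∀ {W : S.Opens} (hW : IsAffineOpen W) (hle : D ≤ W)
      (iW : (𝒮.deg D hD)₊ ≤ ((𝒮.deg W hW)₊).map (𝒮.res hW hD hle)) (x : Γ(E, W)),
      GrTwist.locMap (𝒮.res hW hD hle) iW y (algebraMap _ _ (jel 𝒮 j W x)) =
        algebraMap _ (GrTwist.Loc (𝒮.deg D hD) y) (jel 𝒮 j D (Groth.QCohMod.res E hle x)) := by
    intro W hW hle iW x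
    rw [GrTwist.locMap]
    refine (Localization.localRingHom_to_map _ _ _ rfl _).trans ?_
    exact congrArg (algebraMap _ _) (Groth.QCohMod.res_app j hle x)
  rw [key hU hDU iU e, key hV hDV iV (Groth.QCohMod.res E h e), Groth.QCohMod.res_res]

include hP hj hO1 in
theorem exists_phi : ∃ φ : E ⟶ (Scheme.Modules.pushforward p).obj O1,
    ∀ (U : S.Opens) (hU : IsAffineOpen U) (e : Γ(E, U))
      (y : ↥(RelProj.emb p chart U hU ⁻¹ᵁ (p ⁻¹ᵁ U))),
      GrTwist.val (V := RelProj.emb p chart U hU ⁻¹ᵁ (p ⁻¹ᵁ U))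
          ((lam U hU).app (p ⁻¹ᵁ U) ((φ.app U) e)) y =
        algebraMap (𝒮.presheaf.obj (op U)) (GrTwist.Loc (𝒮.deg U hU) y.1)
          ((j.app U) e : 𝒮.presheaf.obj (op U)) := by
  choose f hf using fun U hU e => exists_phi_sec (chart := chart) hj hO1 U hU e
  have hadd : ∀ U hU a b, f U hU (a + b) = f U hU a + f U hU b := fun U hU a b => by
    refine sec_ext lam hO1 hU le_rfl fun y hy => ?_
    have : pv lam U hU (f U hU a + f U hU b) y hy = pv lam U hU (f U hU a) y hy + pv lam U hU (f U hU b) y hy := by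
      rw [pv, map_add]; rfl
    rw [this, hf, hf, hf, ← map_add]
    exact congrArg _ (map_add (j.app U).hom a b)
  have hsmul : ∀ U hU (r : Γ(S, U)) a, f U hU (r • a) = p.app U r • f U hU a := fun U hU r a => by
    refine sec_ext lam hO1 hU le_rfl fun y hy => ?_
    rw [pv_smul, val_app_base hP U hU r y hy, hf, hf, ← map_mul]
    exact congrArg _ (j.app_smul r a)
  obtain ⟨φ, hφ⟩ := Groth.LocFree.exists_hom_of_affine (L := E) (M := (Scheme.Modules.pushforward p).obj O1)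
    (fun U hU => { toFun := f U hU, map_add' := hadd U hU, map_smul' := hsmul U hU })
    fun U V hU hV h e => phi_compat hj hP hO1 hU hV h e (hf U hU e) (hf V hV _)
  refine ⟨φ, fun U hU e y => ?_⟩
  rw [hφ U hU e]
  exact hf U hU e y.1 y.2

end Groth.RelTw
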