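import Groth.Agent.RelTwist.Gen
import Groth.Agent.Ega2Proj2.GenDeg
import Groth.Prelude.Def_RelProj2

/-!
# Values and construction of sections of a relative twisting sheaf
-/

universe u

open CategoryTheory CategoryTheory.Limits AlgebraicGeometry Opposite TopologicalSpace
open scoped HomogeneousIdeal

set_option backward.isDefEq.respectTransparency.types false

namespace Groth.RelTw

open Groth.PicAux

variable {S P : Scheme.{u}} {𝒮 : RelProj.QCGrAlg S} {p : P ⟶ S}
  {chart : ∀ (U : S.Opens) (hU : IsAffineOpen U), (((p ⁻¹ᵁ U : P.Opens) : Scheme.{u}) ≅ Proj (𝒮.deg U hU))}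

theorem opensRange_emb (U : S.Opens) (hU : IsAffineOpen U) : (RelProj.emb p chart U hU).opensRange = p ⁻¹ᵁ U := by
  change ((chart U hU).inv ≫ (p ⁻¹ᵁ U).ι).opensRange = _
  rw [Scheme.Hom.opensRange_comp_of_isIso, Scheme.Opens.opensRange_ι]

theorem p_emb_mem (U : S.Opens) (hU : IsAffineOpen U) (y : Proj (𝒮.deg U hU)) :
    p (RelProj.emb p chart U hU y) ∈ U :=
  (opensRange_emb U hU).le ⟨y, rfl⟩

theorem exists_emb_eq (U : S.Opens) (hU : IsAffineOpen U) {z : P} (hz : p z ∈ U) :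
    ∃ y, RelProj.emb p chart U hU y = z :=
  (opensRange_emb (chart := chart) U hU).ge hz

theorem image_le (U : S.Opens) (hU : IsAffineOpen U) (V : (Proj (𝒮.deg U hU)).Opens) :
    RelProj.emb p chart U hU ''ᵁ V ≤ p ⁻¹ᵁ U :=
  ((RelProj.emb p chart U hU).image_le_opensRange V).trans (opensRange_emb U hU).le

variable {n : ℤ} {L : P.Modules}
  (lam : ∀ (U : S.Opens) (hU : IsAffineOpen U),
    L ⟶ (Scheme.Modules.pushforward (RelProj.emb p chart U hU)).obj (GrTwist.twist (𝒮.deg U hU) n))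

/-- The value of a section in a chart. -/
noncomputable def pv (U : S.Opens) (hU : IsAffineOpen U) {W : P.Opens} (s : Γ(L, W))
    (y : ProjectiveSpectrum (𝒮.deg U hU)) (hy : RelProj.emb p chart U hU y ∈ W) : GrTwist.Loc (𝒮.deg U hU) y :=
  gval (U := RelProj.emb p chart U hU ⁻¹ᵁ W) ((lam U hU).app W s) y hy

theorem pv_res (U : S.Opens) (hU : IsAffineOpen U) {W W' : P.Opens} (h : W' ≤ W) (s : Γ(L, W))
    (y : ProjectiveSpectrum (𝒮.deg U hU)) (hy : RelProj.emb p chart U hU y ∈ W') :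
    pv lam U hU (res L h s) y hy = pv lam U hU s y (h hy) := by
  rw [pv, app_res]
  rfl

theorem pv_smul (U : S.Opens) (hU : IsAffineOpen U) {W : P.Opens} (r : Γ(P, W)) (s : Γ(L, W))
    (y : ProjectiveSpectrum (𝒮.deg U hU)) (hy : RelProj.emb p chart U hU y ∈ W) :
    pv lam U hU (r • s) y hy = (((RelProj.emb p chart U hU).app W r).1 ⟨y, hy⟩).val * pv lam U hU s y hy := by
  rw [pv, (lam U hU).app_smul r s]
  exact gval_smul (U := RelProj.emb p chart U hU ⁻¹ᵁ W) ((RelProj.emb p chart U hU).app W r) _ y hy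

variable (hP : RelProj.IsRelProj 𝒮 p chart) (hL : RelProj.IsRelTwist 𝒮 p chart n L lam)

theorem pv_zero (U : S.Opens) (hU : IsAffineOpen U) {W : P.Opens}
    (y : ProjectiveSpectrum (𝒮.deg U hU)) (hy : RelProj.emb p chart U hU y ∈ W) :
    pv lam U hU (0 : Γ(L, W)) y hy = 0 := by
  rw [pv, map_zero]
  rfl

include hP hL in
/-- A chart over a smaller basic open. -/
theorem exists_basic (U : S.Opens) (hU : IsAffineOpen U) (D : S.Opens) (hD : IsAffineOpen D)
    (h : ∃ r : Γ(S, U), S.basicOpen r = D) :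
    ∃ (hle : D ≤ U) (irr : (𝒮.deg D hD)₊ ≤ ((𝒮.deg U hU)₊).map (𝒮.res hU hD hle)),
      (∀ y, RelProj.emb p chart U hU (ProjectiveSpectrum.comap (𝒮.res hU hD hle) irr y) = RelProj.emb p chart D hD y) ∧
      ∀ (W : P.Opens) (s : Γ(L, W)) (y : ProjectiveSpectrum (𝒮.deg D hD)) (hy : RelProj.emb p chart D hD y ∈ W)
        (hy' : RelProj.emb p chart U hU (ProjectiveSpectrum.comap (𝒮.res hU hD hle) irr y) ∈ W),
        pv lam D hD s y hy = GrTwist.locMap (𝒮.res hU hD hle) irr y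
          (pv lam U hU s (ProjectiveSpectrum.comap (𝒮.res hU hD hle) irr y) hy') := by
  obtain ⟨r, rfl⟩ := h
  refine ⟨S.basicOpen_le r, 𝒮.irrelevant_le_map U hU r, fun y => ?_, fun W s y hy hy' => ?_⟩
  · exact congr($(RelProj.map_res_emb hP U hU r) y)
  · exact hL.compat U hU r W s y hy hy'

theorem exists_common {U V : S.Opens} (hU : IsAffineOpen U) (hV : IsAffineOpen V) {z : S}
    (hzU : z ∈ U) (hzV : z ∈ V) : ∃ (D : S.Opens) (_ : IsAffineOpen D), z ∈ D ∧
      (∃ r : Γ(S, U), S.basicOpen r = D) ∧ (∃ r : Γ(S, V), S.basicOpen r = D) := by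
  obtain ⟨f, g, e, hz⟩ := exists_basicOpen_le_affine_inter hU hV z ⟨hzU, hzV⟩
  exact ⟨_, hU.basicOpen f, hz, ⟨f, rfl⟩, ⟨g, e.symm⟩⟩

include hL in
theorem sec_ext {U : S.Opens} (hU : IsAffineOpen U) {W : P.Opens} (hW : W ≤ p ⁻¹ᵁ U)
    {s t : Γ(L, W)} (h : ∀ (y : ProjectiveSpectrum (𝒮.deg U hU)) (hy : RelProj.emb p chart U hU y ∈ W),
      pv lam U hU s y hy = pv lam U hU t y hy) : s = t :=
  (hL.bijective U hU W hW).1 (gval_ext (U := RelProj.emb p chart U hU ⁻¹ᵁ W) fun y hy => h y hy)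

include hL in
/-- Sections are determined by their values, in charts around each point. -/
theorem sec_ext_cover {W : P.Opens} {s t : Γ(L, W)}
    (h : ∀ z ∈ W, ∃ (D : S.Opens) (hD : IsAffineOpen D), p z ∈ D ∧
      ∀ (y : ProjectiveSpectrum (𝒮.deg D hD)) (hy : RelProj.emb p chart D hD y ∈ W),
        pv lam D hD s y hy = pv lam D hD t y hy) : s = t := by
  choose D hD hzD hpv using h
  refine res_ext (fun z : W => W ⊓ p ⁻¹ᵁ D z.1 z.2) (fun _ => inf_le_left)
    (fun z hz => Opens.mem_iSup.2 ⟨⟨z, hz⟩, hz, hzD z hz⟩) fun z => ?_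
  refine sec_ext lam hL (hD z.1 z.2) inf_le_right fun y hy => ?_
  rw [pv_res, pv_res]
  exact hpv z.1 z.2 y hy.1

include hL in
/-- A section of `O(n)` in a chart gives a section of the twisting sheaf. -/
theorem exists_sec (U : S.Opens) (hU : IsAffineOpen U) (V : (Proj (𝒮.deg U hU)).Opens)
    (q : Γ(GrTwist.twist (𝒮.deg U hU) n, V)) :
    ∃ s : Γ(L, RelProj.emb p chart U hU ''ᵁ V),
      (∀ (y : ProjectiveSpectrum (𝒮.deg U hU)) (hy : RelProj.emb p chart U hU y ∈ RelProj.emb p chart U hU ''ᵁ V) (hy' : y ∈ V),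
        pv lam U hU s y hy = gval q y hy') ∧
      (Gen (GrTwist.twist (𝒮.deg U hU) n) V q → Gen L (RelProj.emb p chart U hU ''ᵁ V) s) := by
  have hle : RelProj.emb p chart U hU ⁻¹ᵁ (RelProj.emb p chart U hU ''ᵁ V) ≤ V := ((RelProj.emb p chart U hU).preimage_image_eq V).le
  obtain ⟨s, hs⟩ := (hL.bijective U hU _ (image_le U hU V)).2
    (res (GrTwist.twist (𝒮.deg U hU) n) hle q)
  refine ⟨s, fun y hy hy' => ?_, fun hq W hW => ?_⟩
  · rw [pv]
    exact congrArg (fun t => gval t y hy) hs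
  · have hWV : RelProj.emb p chart U hU ⁻¹ᵁ W ≤ V := ((RelProj.emb p chart U hU).preimage_mono hW).trans hle
    haveI := (RelProj.emb p chart U hU).isIso_app W (hW.trans ((RelProj.emb p chart U hU).image_le_opensRange V))
    have e : ((lam U hU).app W : Γ(L, W) → _) ∘ (fun r : Γ(P, W) => r • res L hW s) =
        (fun r' : Γ(Proj (𝒮.deg U hU), RelProj.emb p chart U hU ⁻¹ᵁ W) =>
          r' • res (GrTwist.twist (𝒮.deg U hU) n) hWV q) ∘ ((RelProj.emb p chart U hU).app W) := by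
      funext r
      refine ((lam U hU).app_smul r _).trans ?_
      have e1 : (lam U hU).app W (res L hW s) = res (GrTwist.twist (𝒮.deg U hU) n) hWV q := by
        refine (app_res (lam U hU) hW s).trans ?_
        refine (congrArg (res ((Scheme.Modules.pushforward (RelProj.emb p chart U hU)).obj
          (GrTwist.twist (𝒮.deg U hU) n)) hW) hs).trans ?_
        exact res_res (M := GrTwist.twist (𝒮.deg U hU) n) hle ((RelProj.emb p chart U hU).preimage_mono hW) q
      rw [e1]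
      rfl
    have h2 := (hq _ hWV).comp (ConcreteCategory.bijective_of_isIso ((RelProj.emb p chart U hU).app W))
    rw [← e] at h2
    exact (Function.Bijective.of_comp_iff' (hL.bijective U hU W (hW.trans (image_le U hU V))) _).1 h2

theorem irrelevant_le_span_one (hgen : 𝒮.IsGenDegOne) (U : S.Opens) (hU : IsAffineOpen U) :
    (HomogeneousIdeal.irrelevant (𝒮.deg U hU)).toIdeal ≤
      Ideal.span (𝒮.deg U hU 1 : Set (𝒮.presheaf.obj (op U))) := by
  refine (HomogeneousIdeal.toIdeal_irrelevant_le _).mpr fun d hd a ha => ?_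
  have ha' : a ∈ 𝒮.deg U hU d := ha
  have hx : a ∈ Subring.closure
      ((𝒮.deg U hU 0 : Set (𝒮.presheaf.obj (op U))) ∪ (𝒮.deg U hU 1 : Set _)) := by
    rw [hgen U hU]; exact Subring.mem_top a
  exact Groth.Ega2P2.mem_span_of_mem_closure (𝒜 := 𝒮.deg U hU) (fun _ h => h) (fun _ h => h) hx hd ha'

theorem nonempty_restrict_iso {X Y : Scheme.{u}} (f : X ⟶ Y) [IsOpenImmersion f] {M : Y.Modules}
    {N : X.Modules} (φ : M ⟶ (Scheme.Modules.pushforward f).obj N)
    (h : ∀ V : X.Opens, Function.Bijective (φ.app (f ''ᵁ V))) : Nonempty (M.restrict f ≅ N) := by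
  have h1 : IsIso ((Scheme.Modules.restrictFunctor f).map φ) := by
    refine Scheme.Modules.Hom.isIso_iff_isIso_app.2 fun V => ?_
    rw [ConcreteCategory.isIso_iff_bijective]
    exact h V
  exact ⟨asIso ((Scheme.Modules.restrictFunctor f).map φ) ≪≫
    (asIso (Scheme.Modules.restrictAdjunction f).counit).app N⟩

include lam hL in
theorem isQCoh : Coh.IsQCoh L := by
  refine Groth.QCohMod.isQCoh_of_forall_exists L fun z => ?_
  obtain ⟨U, hU, hzU, -⟩ := exists_isAffineOpen_mem_and_subset (x := p z) (U := (⊤ : S.Opens)) trivial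
  obtain ⟨y, rfl⟩ := exists_emb_eq (chart := chart) U hU hzU
  refine ⟨p ⁻¹ᵁ U, hzU, ?_⟩
  obtain ⟨φ⟩ := nonempty_restrict_iso (RelProj.emb p chart U hU) (lam U hU)
    (fun V => hL.bijective U hU _ (image_le U hU V))
  have hq : (L.restrict (RelProj.emb p chart U hU)).IsQuasicoherent :=
    (Groth.QCohMod.isQCoh_iff_of_iso φ).2 (isQuasicoherent (𝒮.deg U hU) n)
  let e := (chart U hU).hom
  have he : e ≫ RelProj.emb p chart U hU = (p ⁻¹ᵁ U).ι := Iso.hom_inv_id_assoc _ _
  refine (Groth.QCohMod.isQCoh_iff_of_iso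
    ((Scheme.Modules.restrictFunctorCongr he.symm).app L ≪≫
      (Scheme.Modules.restrictFunctorComp _ _).app L)).mpr ?_
  exact Scheme.Modules.isQuasicoherent_restrictFunctor e (L.restrict (RelProj.emb p chart U hU))

include hL in
/-- Near every point there is a basis given by a power of a degree-one element. -/
theorem exists_gen_pow_one (hgen : 𝒮.IsGenDegOne) (z : P) :
    ∃ (U : S.Opens) (hU : IsAffineOpen U) (f : 𝒮.presheaf.obj (op U)) (hf : f ∈ 𝒮.deg U hU 1)
      (s : Γ(L, RelProj.emb p chart U hU ''ᵁ Proj.basicOpen (𝒮.deg U hU) f)),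
      z ∈ RelProj.emb p chart U hU ''ᵁ Proj.basicOpen (𝒮.deg U hU) f ∧
      Gen L (RelProj.emb p chart U hU ''ᵁ Proj.basicOpen (𝒮.deg U hU) f) s ∧
      ∀ (y : ProjectiveSpectrum (𝒮.deg U hU)) (hy : RelProj.emb p chart U hU y ∈ RelProj.emb p chart U hU ''ᵁ Proj.basicOpen (𝒮.deg U hU) f)
        (hfy : f ∉ y.asHomogeneousIdeal),
        pv lam U hU s y hy = (Localization.mk (f ^ n.toNat)
          ⟨f ^ (-n).toNat, fun h => hfy (y.isPrime.mem_of_pow_mem _ h)⟩ : GrTwist.Loc (𝒮.deg U hU) y) := by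
  obtain ⟨U, hU, hzU, -⟩ := exists_isAffineOpen_mem_and_subset (x := p z) (U := (⊤ : S.Opens)) trivial
  obtain ⟨y, rfl⟩ := exists_emb_eq (chart := chart) U hU hzU
  obtain ⟨f, hf, hfy⟩ := exists_frac_cover (irrelevant_le_span_one hgen U hU) y
  have h1 : f ^ n.toNat ∈ 𝒮.deg U hU n.toNat := by simpa using SetLike.pow_mem_graded n.toNat hf
  have h2 : f ^ (-n).toNat ∈ 𝒮.deg U hU (-n).toNat := by simpa using SetLike.pow_mem_graded (-n).toNat hf
  have hne : ∀ (m : ℕ) (x : ProjectiveSpectrum (𝒮.deg U hU)), x ∈ Proj.basicOpen (𝒮.deg U hU) f →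
      f ^ m ∉ x.asHomogeneousIdeal := fun m x hx h => hx (x.isPrime.mem_of_pow_mem _ h)
  obtain ⟨s, hs, hsg⟩ := exists_sec lam hL U hU (Proj.basicOpen (𝒮.deg U hU) f)
    (frac h1 h2 (by omega) _ (hne _))
  refine ⟨U, hU, f, hf, s, ⟨y, hfy, rfl⟩, hsg (gen_frac h1 h2 _ _ (hne _) (hne _)), fun x hx hfx => ?_⟩
  exact hs x hx hfx

include lam hL in
theorem isInvertible (hgen : 𝒮.IsGenDegOne) : PicF.IsInvertible L := by
  rw [isInvertible_iff_exists_gen]
  intro z
  obtain ⟨U, hU, f, hf, s, hz, hs, -⟩ := exists_gen_pow_one lam hL hgen z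
  exact ⟨_, s, hz, hs⟩

end Groth.RelTw
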