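import Groth.Agent.RelTwist.Taut

/-!
# The standard affine pieces of a projective bundle
-/

universe u

open CategoryTheory CategoryTheory.Limits AlgebraicGeometry Opposite TopologicalSpace
open scoped HomogeneousIdeal

set_option backward.isDefEq.respectTransparency.types false

noncomputable section

namespace Groth.RelTw

open Groth.PicAux

section proj

variable {A σ : Type u} [CommRing A] [SetLike σ A] [AddSubgroupClass σ A] {𝒜 : ℕ → σ} [GradedRing 𝒜]

theorem awayToSection_mk_val {f : A} {d : ℕ} (hf : f ∈ 𝒜 d) (k : ℕ) {x : A} (hx : x ∈ 𝒜 (k • d))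
    (y : ProjectiveSpectrum 𝒜) (hy : y ∈ Proj.basicOpen 𝒜 f) :
    (((Proj.awayToSection 𝒜 f).hom (HomogeneousLocalization.Away.mk 𝒜 hf k x hx)).1 ⟨y, hy⟩).val =
      (Localization.mk x ⟨f ^ k, fun h => hy (y.isPrime.mem_of_pow_mem _ h)⟩ : GrTwist.Loc 𝒜 y) := by
  rfl

end proj

variable {S P : Scheme.{u}} {E : S.Modules} {𝒮 : RelProj.QCGrAlg S} {j : E ⟶ 𝒮.toModule}
  (hj : RelProj.IsGrSymAlg E 𝒮 j) {p : P ⟶ S}
  {chart : ∀ (U : S.Opens) (hU : IsAffineOpen U), (((p ⁻¹ᵁ U : P.Opens) : Scheme.{u}) ≅ Proj (𝒮.deg U hU))}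
  {O1 : P.Modules}
  {lam : ∀ (U : S.Opens) (hU : IsAffineOpen U),
    O1 ⟶ (Scheme.Modules.pushforward (RelProj.emb p chart U hU)).obj (GrTwist.twist (𝒮.deg U hU) 1)}
  (hO1 : RelProj.IsRelTwist 𝒮 p chart 1 O1 lam)
  {φ : E ⟶ (Scheme.Modules.pushforward p).obj O1}
  (hφ : ∀ (U : S.Opens) (hU : IsAffineOpen U) (e : Γ(E, U))
    (y : ↥(RelProj.emb p chart U hU ⁻¹ᵁ (p ⁻¹ᵁ U))),
    GrTwist.val (V := RelProj.emb p chart U hU ⁻¹ᵁ (p ⁻¹ᵁ U))
        ((lam U hU).app (p ⁻¹ᵁ U) ((φ.app U) e)) y =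
      algebraMap (𝒮.presheaf.obj (op U)) (GrTwist.Loc (𝒮.deg U hU) y.1)
        ((j.app U) e : 𝒮.presheaf.obj (op U)))

variable (chart) in
/-- The functions on `D₊(j e)` as degree-zero fractions. -/
def coord (U : S.Opens) (hU : IsAffineOpen U) (e : Γ(E, U)) :
    CommRingCat.of (HomogeneousLocalization.Away (𝒮.deg U hU) (jel 𝒮 j U e)) ≅
      Γ(P, dPlus p chart j U hU e) :=
  Proj.basicOpenIsoAway (𝒮.deg U hU) (jel 𝒮 j U e) (hj.2 U hU e) one_pos ≪≫
    ((RelProj.emb p chart U hU).appIso (Proj.basicOpen (𝒮.deg U hU) (jel 𝒮 j U e))).symm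

theorem mk_mem_deg {U : S.Opens} {hU : IsAffineOpen U} {k : ℕ} {x : 𝒮.presheaf.obj (op U)}
    (hx : x ∈ 𝒮.deg U hU k) : x ∈ 𝒮.deg U hU (k • 1) := by
  rwa [smul_eq_mul, mul_one]

/-- The fraction `x / (j e)^k`. -/
abbrev jfrac (U : S.Opens) (hU : IsAffineOpen U) (e : Γ(E, U)) (k : ℕ) {x : 𝒮.presheaf.obj (op U)}
    (hx : x ∈ 𝒮.deg U hU k) : HomogeneousLocalization.Away (𝒮.deg U hU) (jel 𝒮 j U e) :=
  HomogeneousLocalization.Away.mk (𝒮.deg U hU) (show jel 𝒮 j U e ∈ 𝒮.deg U hU 1 from hj.2 U hU e) k x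
    (mk_mem_deg hx)

theorem val_coord (U : S.Opens) (hU : IsAffineOpen U) (e : Γ(E, U)) (k : ℕ) {x : 𝒮.presheaf.obj (op U)}
    (hx : x ∈ 𝒮.deg U hU k) (y : ProjectiveSpectrum (𝒮.deg U hU))
    (hy : RelProj.emb p chart U hU y ∈ dPlus p chart j U hU e) :
    (((RelProj.emb p chart U hU).app (dPlus p chart j U hU e)
        ((coord hj chart U hU e).hom (jfrac hj U hU e k hx))).1 ⟨y, hy⟩).val =
      (Localization.mk x ⟨jel 𝒮 j U e ^ k,
          fun h => (mem_image_iff (chart := chart) U hU _ y).1 hy (y.isPrime.mem_of_pow_mem _ h)⟩ :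
        GrTwist.Loc (𝒮.deg U hU) y) := by
  refine Eq.trans ?_ (awayToSection_mk_val (show jel 𝒮 j U e ∈ 𝒮.deg U hU 1 from hj.2 U hU e) k
    (mk_mem_deg hx) y ((mem_image_iff (chart := chart) U hU _ y).1 hy))
  rw [show (coord hj chart U hU e).hom (jfrac hj U hU e k hx) =
      ((RelProj.emb p chart U hU).appIso _).inv ((Proj.awayToSection (𝒮.deg U hU) (jel 𝒮 j U e))
        (jfrac hj U hU e k hx)) from rfl, ← CommRingCat.comp_apply, Scheme.Hom.appIso_inv_app]
  rfl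

theorem exists_eq_coord (U : S.Opens) (hU : IsAffineOpen U) (e : Γ(E, U)) (F : Γ(P, dPlus p chart j U hU e)) :
    ∃ (k : ℕ) (x : 𝒮.presheaf.obj (op U)) (hx : x ∈ 𝒮.deg U hU k),
      (coord hj chart U hU e).hom (jfrac hj U hU e k hx) = F := by
  obtain ⟨q, rfl⟩ := (ConcreteCategory.bijective_of_isIso (coord hj chart U hU e).hom).2 F
  obtain ⟨k, x, hx, rfl⟩ := HomogeneousLocalization.Away.mk_surjective (𝒮.deg U hU)
    (show jel 𝒮 j U e ∈ 𝒮.deg U hU 1 from hj.2 U hU e) q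
  exact ⟨k, x, by rwa [smul_eq_mul, mul_one] at hx, rfl⟩

theorem dPlus_le (U : S.Opens) (hU : IsAffineOpen U) (e : Γ(E, U)) : dPlus p chart j U hU e ≤ p ⁻¹ᵁ U :=
  image_le U hU _

include hj in
theorem isAffineOpen_dPlus (U : S.Opens) (hU : IsAffineOpen U) (e : Γ(E, U)) :
    IsAffineOpen (dPlus p chart j U hU e) :=
  (Proj.isAffineOpen_basicOpen (𝒮.deg U hU) (jel 𝒮 j U e) (hj.2 U hU e) one_pos).image_of_isOpenImmersion _

include hφ hO1 in
/-- The ratio of two sections of `E`. -/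
theorem res_phi_eq_smul (U : S.Opens) (hU : IsAffineOpen U) (e e' : Γ(E, U)) :
    res O1 (dPlus_le (chart := chart) (j := j) U hU e) (φ.app U e') =
      ((coord hj chart U hU e).hom (jfrac hj U hU e 1 (hj.2 U hU e')) : Γ(P, dPlus p chart j U hU e)) •
        res O1 (dPlus_le (chart := chart) (j := j) U hU e) (φ.app U e) := by
  refine sec_ext lam hO1 hU (dPlus_le (chart := chart) (j := j) U hU e) fun y hy => ?_
  rw [pv_smul, val_coord hj U hU e 1 (hj.2 U hU e') y hy, pv_res, pv_res]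
  have h1 : ∀ e₁, pv lam U hU (φ.app U e₁) y (dPlus_le (chart := chart) (j := j) U hU e hy) =
      algebraMap _ (GrTwist.Loc (𝒮.deg U hU) y) (jel 𝒮 j U e₁) := fun e₁ =>
    hφ U hU e₁ ⟨y, image_le U hU _ hy⟩
  rw [h1, h1, ← Localization.mk_one_eq_algebraMap, ← Localization.mk_one_eq_algebraMap, Localization.mk_mul]
  refine (loc_mk_eq).mpr ⟨1, ?_⟩
  simp only [one_smul, Submonoid.smul_def, smul_eq_mul, Submonoid.coe_mul, Submonoid.coe_one, pow_one]
  ring

variable (hP : RelProj.IsRelProj 𝒮 p chart)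

include hP in
/-- The functions of the base. -/
theorem coord_str (U : S.Opens) (hU : IsAffineOpen U) (e : Γ(E, U)) (a : Γ(S, U)) :
    (coord hj chart U hU e).hom (jfrac hj U hU e 0 (𝒮.str_mem U hU a)) =
      P.presheaf.map (homOfLE (dPlus_le (chart := chart) (j := j) U hU e)).op (p.app U a) := by
  refine ((RelProj.emb p chart U hU).appIso (Proj.basicOpen (𝒮.deg U hU) (jel 𝒮 j U e))).commRingCatIsoToRingEquiv.injective ?_
  refine fun_ext fun y hy => ?_
  have hy' : RelProj.emb p chart U hU y ∈ dPlus p chart j U hU e :=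
    (mem_image_iff (chart := chart) U hU _ y).2 hy
  have e1 : ∀ F : Γ(P, dPlus p chart j U hU e),
      (((RelProj.emb p chart U hU).appIso (Proj.basicOpen (𝒮.deg U hU) (jel 𝒮 j U e))).hom F).1 ⟨y, hy⟩ =
        ((RelProj.emb p chart U hU).app (dPlus p chart j U hU e) F).1 ⟨y, hy'⟩ := fun F => by
    rw [Scheme.Hom.appIso_hom]
    rfl
  refine (congrArg HomogeneousLocalization.val (e1 _)).trans
    (Eq.trans ?_ (congrArg HomogeneousLocalization.val (e1 _)).symm)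
  rw [val_coord hj U hU e 0 (𝒮.str_mem U hU a) y hy']
  refine Eq.trans ?_ ((val_app_base hP U hU a y (dPlus_le (chart := chart) (j := j) U hU e hy')).symm.trans ?_)
  · rw [← Localization.mk_one_eq_algebraMap]
    exact congrArg₂ Localization.mk rfl (Subtype.ext (pow_zero _))
  · exact congrArg (fun F => (F.1 ⟨y, hy'⟩).val)
      (congr(($((RelProj.emb p chart U hU).naturality (homOfLE (dPlus_le (chart := chart) (j := j) U hU e)).op)).hom (p.app U a))).symm

end Groth.RelTw
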