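import Groth.Prelude.Def_GrTwist
import Groth.Agent.Ega2Proj.GradedBasic
import Groth.Agent.QCohMod.Local

/-!
# Sections of `O(n)` on basic opens, gradings by additive subgroups; quasi-coherence
-/

universe u

open CategoryTheory AlgebraicGeometry Opposite TopologicalSpace DirectSum
open Groth.QCohMod (res resFun)

set_option backward.isDefEq.respectTransparency.types false

namespace Groth.RelTw

open Groth.Ega2Proj (exists_point_of_notMem_radical mem_radical_iff_forall_point irrelevant_le_ideal)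

variable {A σ : Type u} [CommRing A] [SetLike σ A] [AddSubgroupClass σ A] (𝒜 : ℕ → σ) [GradedRing 𝒜]

theorem smul_mem {a : A} {m : A} {e i k : ℕ} (ha : a ∈ 𝒜 e) (hm : m ∈ 𝒜 i) (hk : e + i = k) :
    a • m ∈ 𝒜 k :=
  hk ▸ SetLike.mul_mem_graded ha hm

theorem loc_mk_eq {S : Submonoid A} {a b : A} {s t : S} :
    (Localization.mk a s : Localization S) = Localization.mk b t ↔ ∃ u : S, u • t • a = u • s • b :=
  LocalizedModule.mk_eq (M := A)

theorem mk_mem_twistAt {n : ℤ} {x : ProjectiveSpectrum 𝒜} {i j : ℕ} {a s : A} (ha : a ∈ 𝒜 i)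
    (hs : s ∈ 𝒜 j) (hx : s ∉ x.asHomogeneousIdeal) (hdeg : (i : ℤ) = j + n ∨ a = 0) :
    (Localization.mk a ⟨s, hx⟩ : GrTwist.Loc 𝒜 x) ∈ GrTwist.twistAt 𝒜 n x := by
  rcases hdeg with h | h
  · exact Submodule.subset_span ⟨i, j, ⟨a, ha⟩, ⟨s, hs⟩, hx, h, rfl⟩
  · rw [h, Localization.mk_zero]
    exact zero_mem _

/-- The section of `O(n)` given by one fraction. -/
def fracSect (n : ℤ) (U : Opens (ProjectiveSpectrum.top 𝒜)) {i j : ℕ} (m : A) (hm : m ∈ 𝒜 i)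
    (s : A) (hs : s ∈ 𝒜 j) (hU : ∀ x : U, s ∉ x.1.asHomogeneousIdeal)
    (hdeg : (i : ℤ) = j + n ∨ m = 0) : GrTwist.sectN (𝒜 := 𝒜) n (op U) :=
  ⟨fun x => ⟨Localization.mk m ⟨s, hU x⟩, mk_mem_twistAt 𝒜 hm hs (hU x) hdeg⟩,
    fun x => ⟨U, x.2, 𝟙 U, i, j, ⟨m, hm⟩, ⟨s, hs⟩, hU, hdeg, fun _ => rfl⟩⟩

theorem sect_ext (n : ℤ) {U : Opens (ProjectiveSpectrum.top 𝒜)}
    {s t : GrTwist.sectN (𝒜 := 𝒜) n (op U)} (h : ∀ x : U, (s.1 x).1 = (t.1 x).1) : s = t :=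
  Subtype.ext (funext fun x => Subtype.ext (h x))

/-- Components of `g • x` for homogeneous `g`. -/
theorem decompose_smul_of_mem_left {e : ℕ} {g : A} (hg : g ∈ 𝒜 e) (x : A) (k : ℕ) :
    (decompose 𝒜 (g • x) (e + k) : A) = g • (decompose 𝒜 x k : A) := by
  induction x using DirectSum.Decomposition.inductionOn 𝒜 with
  | zero => simp
  | homogeneous m =>
    rename_i i
    by_cases h : i = k
    · subst h
      rw [decompose_of_mem_same 𝒜 m.2,
        decompose_of_mem_same 𝒜 (smul_mem 𝒜 hg m.2 rfl)]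
    · rw [decompose_of_mem_ne 𝒜 m.2 h, smul_zero,
        decompose_of_mem_ne 𝒜 (smul_mem 𝒜 hg m.2 rfl)]
      exact fun hc => h (Nat.add_left_cancel hc)
  | add x y hx hy => rw [smul_add, decompose_add, DirectSum.add_apply, AddMemClass.coe_add, hx, hy, decompose_add,
      DirectSum.add_apply, AddMemClass.coe_add, smul_add]

/-- Components of `c • m` for homogeneous `m`. -/
theorem decompose_smul_of_mem_right {i : ℕ} {m : A} (hm : m ∈ 𝒜 i) (c : A) (j : ℕ) :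
    (decompose 𝒜 (c • m) (j + i) : A) = (decompose 𝒜 c j : A) • m := by
  induction c using DirectSum.Decomposition.inductionOn 𝒜 with
  | zero => simp
  | homogeneous a =>
    rename_i k
    by_cases h : k = j
    · subst h
      rw [decompose_of_mem_same 𝒜 a.2,
        decompose_of_mem_same 𝒜 (smul_mem 𝒜 a.2 hm rfl)]
    · rw [decompose_of_mem_ne 𝒜 a.2 h, zero_smul,
        decompose_of_mem_ne 𝒜 (smul_mem 𝒜 a.2 hm rfl)]
      exact fun hc => h (Nat.add_right_cancel hc)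
  | add x y hx hy => rw [add_smul, decompose_add, DirectSum.add_apply, AddMemClass.coe_add, hx, hy, decompose_add,
      DirectSum.add_apply, AddMemClass.coe_add, add_smul]

/-- The annihilator of a homogeneous element is a homogeneous ideal. -/
theorem ker_toSpanSingleton_isHomogeneous {i : ℕ} {m : A} (hm : m ∈ 𝒜 i) :
    Ideal.IsHomogeneous 𝒜 (LinearMap.ker (LinearMap.toSpanSingleton A A m)) := by
  intro j c hc
  rw [LinearMap.mem_ker, LinearMap.toSpanSingleton_apply] at hc ⊢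
  rw [← decompose_smul_of_mem_right 𝒜 hm c j, hc]
  simp

theorem mk_eq_zero_iff {x : ProjectiveSpectrum 𝒜} {m : A}
    {s : x.asHomogeneousIdeal.toIdeal.primeCompl} :
    (Localization.mk m s : GrTwist.Loc 𝒜 x) = 0 ↔
      ∃ u : A, u ∉ x.asHomogeneousIdeal ∧ u • m = 0 := by
  rw [← Localization.mk_zero s, loc_mk_eq]
  constructor
  · rintro ⟨u, hu⟩
    refine ⟨u * s, x.asHomogeneousIdeal.toIdeal.primeCompl.mul_mem u.2 s.2, ?_⟩
    simpa [Submonoid.smul_def, mul_smul, mul_assoc] using hu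
  · rintro ⟨u, hu, hum⟩
    exact ⟨⟨u, hu⟩, by simp [Submonoid.smul_def, show u * ((s : A) * m) = s * (u * m) by ring, show u * m = 0 from hum]⟩

/-- A homogeneous element whose fractions vanish on all of `D₊(f)` is killed by a power of `f`. -/
theorem exists_pow_smul_eq_zero {d : ℕ} (hd : 0 < d) {f : A} (hf : f ∈ 𝒜 d) {i : ℕ} {m : A}
    (hm : m ∈ 𝒜 i)
    (h : ∀ x : ProjectiveSpectrum 𝒜, f ∉ x.asHomogeneousIdeal →
      ∃ u : A, u ∉ x.asHomogeneousIdeal ∧ u • m = 0) :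
    ∃ N : ℕ, f ^ N • m = 0 := by
  by_contra hN
  push Not at hN
  obtain ⟨x, hx, hfx⟩ := exists_point_of_notMem_radical 𝒜 hd hf
    (ker_toSpanSingleton_isHomogeneous 𝒜 hm) (fun ⟨N, hmem⟩ => hN N (by simpa using hmem))
  obtain ⟨u, hu, hum⟩ := h x hfx
  exact hu (hx (by simpa using hum))

/-- Two fractions that agree where both are defined satisfy the cross relation up to a power of the
product of the denominators. -/
theorem exists_pow_smul_sub_eq_zero {e e' i i' : ℕ} (he : 0 < e) {g g' : A} (hg : g ∈ 𝒜 e)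
    (hg' : g' ∈ 𝒜 e') {m m' : A} (hm : m ∈ 𝒜 i) (hm' : m' ∈ 𝒜 i') (hi : e' + i = e + i')
    (h : ∀ (x : ProjectiveSpectrum 𝒜) (hx : g ∉ x.asHomogeneousIdeal)
      (hx' : g' ∉ x.asHomogeneousIdeal),
      (Localization.mk m ⟨g, hx⟩ : GrTwist.Loc 𝒜 x) =
        Localization.mk m' ⟨g', hx'⟩) :
    ∃ N : ℕ, (g * g') ^ N • (g' • m - g • m') = 0 := by
  refine exists_pow_smul_eq_zero 𝒜 (Nat.add_pos_left he e') (SetLike.mul_mem_graded hg hg')
    (sub_mem (smul_mem 𝒜 hg' hm rfl) (smul_mem 𝒜 hg hm' hi.symm)) fun x hx => ?_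
  obtain ⟨u, hu⟩ := (loc_mk_eq).mp
    (h x (fun h => hx (x.asHomogeneousIdeal.toIdeal.mul_mem_right _ h))
      (fun h => hx (x.asHomogeneousIdeal.toIdeal.mul_mem_left _ h)))
  exact ⟨u, u.2, by simpa [Submonoid.smul_def, smul_sub, mul_sub, sub_eq_zero] using hu⟩

/-- Near each point a section is one fraction on a basic open inside the given one, with a
denominator of positive degree. -/
theorem exists_local_frac (n : ℤ) {d : ℕ} (hd : 0 < d) {f : A} (hf : f ∈ 𝒜 d)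
    (s : GrTwist.sectN (𝒜 := 𝒜) n (op (ProjectiveSpectrum.basicOpen 𝒜 f)))
    (x : ProjectiveSpectrum.basicOpen 𝒜 f) :
    ∃ (e i : ℕ) (g : A) (m : A), 0 < e ∧ g ∈ 𝒜 e ∧ m ∈ 𝒜 i ∧ (i : ℤ) = e + n ∧
      g ∉ x.1.asHomogeneousIdeal ∧
      ∀ (y : ProjectiveSpectrum 𝒜) (hy : g ∉ y.asHomogeneousIdeal),
        ∃ hyf : y ∈ ProjectiveSpectrum.basicOpen 𝒜 f,
          (s.1 ⟨y, hyf⟩).1 = Localization.mk m ⟨g, hy⟩ := by
  classical
  obtain ⟨V, hxV, ι, i, j, ⟨a, ha⟩, ⟨t, ht⟩, hnin, hdeg, hval⟩ := s.2 x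
  replace hdeg : (i : ℤ) = j + n ∨ a = 0 := hdeg
  obtain ⟨_, ⟨g₀, rfl⟩, hxg₀, hg₀V⟩ :=
    (ProjectiveSpectrum.isTopologicalBasis_basic_opens 𝒜).exists_subset_of_mem_open hxV V.2
  -- a homogeneous component of the denominator of the basic open
  obtain ⟨k, hk⟩ : ∃ k, (decompose 𝒜 g₀ k : A) ∉ x.1.asHomogeneousIdeal := by
    by_contra hc
    push Not at hc
    refine hxg₀ (?_ : g₀ ∈ x.1.asHomogeneousIdeal.toIdeal)
    rw [← sum_support_decompose 𝒜 g₀]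
    exact Ideal.sum_mem _ fun k _ => hc k
  set h := (decompose 𝒜 g₀ k : A)
  have hh : h ∈ 𝒜 k := SetLike.coe_mem _
  have hmem : ∀ (y : ProjectiveSpectrum 𝒜), f * h ∉ y.asHomogeneousIdeal → y ∈ V := fun y hy => by
    refine hg₀V fun hg₀ => hy ?_
    exact y.asHomogeneousIdeal.toIdeal.mul_mem_left _
      (y.asHomogeneousIdeal.isHomogeneous k hg₀)
  -- raise the power of `f` until the degree of the numerator is nonnegative
  obtain ⟨L, hL, hL'⟩ : ∃ L : ℕ, 0 < L ∧ 0 ≤ ((L * (d + k) + j : ℕ) : ℤ) + n :=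
    ⟨n.natAbs + 1, Nat.succ_pos _, by
      have : n.natAbs + 1 ≤ (n.natAbs + 1) * (d + k) := Nat.le_mul_of_pos_right _ (by omega)
      omega⟩
  set c := (f * h) ^ L
  have hc : c ∈ 𝒜 (L * (d + k)) := by
    simpa using SetLike.pow_mem_graded L (SetLike.mul_mem_graded hf hh)
  have hcy : ∀ (y : ProjectiveSpectrum 𝒜), c * t ∉ y.asHomogeneousIdeal →
      f * h ∉ y.asHomogeneousIdeal := fun y hy h' => hy
    (y.asHomogeneousIdeal.toIdeal.mul_mem_right _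
      (y.asHomogeneousIdeal.toIdeal.pow_mem_of_mem h' L hL))
  refine ⟨L * (d + k) + j, (((L * (d + k) + j : ℕ) : ℤ) + n).toNat, c * t, c • a, ?_,
    SetLike.mul_mem_graded hc ht, ?_, Int.toNat_of_nonneg hL', ?_, fun y hy => ?_⟩
  · have : 0 < L * (d + k) := Nat.mul_pos hL (by omega)
    omega
  · rcases hdeg with h' | h'
    · exact smul_mem 𝒜 hc ha (by omega)
    · rw [h', smul_zero]; exact zero_mem _
  · refine x.1.asHomogeneousIdeal.toIdeal.primeCompl.mul_mem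
      (pow_mem (x.1.asHomogeneousIdeal.toIdeal.primeCompl.mul_mem
        (show f ∈ x.1.asHomogeneousIdeal.toIdeal.primeCompl from x.2) hk) L) (hnin ⟨x.1, hxV⟩)
  · have hyV := hmem y (hcy y hy)
    refine ⟨(ι ⟨y, hyV⟩).2, (hval ⟨y, hyV⟩).trans ?_⟩
    refine (loc_mk_eq).mpr ⟨1, ?_⟩
    simp only [one_smul, Submonoid.smul_def]
    rw [smul_smul, mul_comm c t]

/-- Every section of `M(n)~` over `D₊(f)` is one fraction `m / f ^ k`. -/
theorem exists_frac (n : ℤ) {d : ℕ} (hd : 0 < d) {f : A} (hf : f ∈ 𝒜 d)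
    (s : GrTwist.sectN (𝒜 := 𝒜) n (op (ProjectiveSpectrum.basicOpen 𝒜 f))) :
    ∃ (k i : ℕ) (m : 𝒜 i), (i : ℤ) = k * d + n ∧
      ∀ x : ProjectiveSpectrum.basicOpen 𝒜 f,
        (s.1 x).1 =
          (Localization.mk m.1 ⟨f ^ k, fun h => (ProjectiveSpectrum.mem_basicOpen 𝒜 f x.1).mp x.2
            (x.1.isPrime.mem_of_pow_mem k h)⟩ : GrTwist.Loc 𝒜 x.1) := by
  classical
  -- the denominators of all local fractions
  let G : Set A := {g | ∃ (e i : ℕ) (m : A), 0 < e ∧ g ∈ 𝒜 e ∧ m ∈ 𝒜 i ∧ (i : ℤ) = e + n ∧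
    ∀ (y : ProjectiveSpectrum 𝒜) (hy : g ∉ y.asHomogeneousIdeal),
      ∃ hyf : y ∈ ProjectiveSpectrum.basicOpen 𝒜 f,
        (s.1 ⟨y, hyf⟩).1 = Localization.mk m ⟨g, hy⟩}
  have hG : f ∈ (Ideal.span G).radical := by
    refine (mem_radical_iff_forall_point 𝒜 (HomogeneousIdeal.mem_irrelevant_of_mem 𝒜 hd hf)
      (Ideal.homogeneous_span 𝒜 _ fun g hg => ⟨_, hg.choose_spec.choose_spec.choose_spec.2.1⟩)).mpr fun x hx => ?_
    by_contra hxf
    obtain ⟨e, i, g, m, he, hg, hm, hi, hgx, hs⟩ := exists_local_frac 𝒜 n hd hf s ⟨x, hxf⟩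
    exact hgx (hx (Ideal.subset_span ⟨e, i, m, he, hg, hm, hi, hs⟩))
  obtain ⟨N₀, hN₀⟩ := hG
  obtain ⟨F, hFG, hfF⟩ := Submodule.mem_span_finite_of_mem_span hN₀
  choose e i m he hg hm hi hs using fun g : {g // g ∈ F} => hFG g.2
  -- cross relations
  have hpair : ∀ p q : {g // g ∈ F},
      ∃ N : ℕ, ((p : A) * q) ^ N • ((q : A) • m p - (p : A) • m q) = 0 := fun p q => by
    refine exists_pow_smul_sub_eq_zero 𝒜 (he p) (hg p) (hg q) (hm p) (hm q) ?_ fun x hx hx' => ?_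
    · have := hi p; have := hi q; omega
    · obtain ⟨_, h₁⟩ := hs p x hx
      obtain ⟨_, h₂⟩ := hs q x hx'
      exact h₁.symm.trans h₂
  choose Np hNp using hpair
  obtain ⟨K, hK⟩ : ∃ K, ∀ p q, Np p q ≤ K :=
    ⟨(Finset.univ : Finset ({g // g ∈ F} × {g // g ∈ F})).sup fun r => Np r.1 r.2, fun p q =>
      Finset.le_sup (f := fun r : {g // g ∈ F} × {g // g ∈ F} => Np r.1 r.2)
        (Finset.mem_univ (p, q))⟩
  let g' : {g // g ∈ F} → A := fun p => (p : A) ^ (K + 1)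
  let m' : {g // g ∈ F} → A := fun p => (p : A) ^ K • m p
  have hcross : ∀ p q, g' q • m' p = g' p • m' q := fun p q => by
    have h₀ : ((p : A) * q) ^ K • ((q : A) • m p - (p : A) • m q) = 0 := by
      rw [← Nat.sub_add_cancel (hK p q), pow_add, mul_smul, hNp, smul_zero]
    rw [smul_sub, sub_eq_zero, smul_smul, smul_smul] at h₀
    simp only [g', m', smul_smul]
    calc ((q : A) ^ (K + 1) * (p : A) ^ K) • m p = (((p : A) * q) ^ K * q) • m p := by ring_nf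
      _ = (((p : A) * q) ^ K * p) • m q := h₀
      _ = ((p : A) ^ (K + 1) * (q : A) ^ K) • m q := by ring_nf
  -- a power of `f` in the ideal of the new denominators
  have hfrad : f ∈ (Ideal.span (Set.range g')).radical := by
    rw [← Ideal.radical_idem]
    refine ⟨N₀, ?_⟩
    refine (Ideal.span_le.mpr ?_) hfF
    intro a ha
    exact ⟨K + 1, Ideal.subset_span ⟨⟨a, ha⟩, rfl⟩⟩
  obtain ⟨N₁, hN₁⟩ := hfrad
  set N := N₁ + n.natAbs with hN
  have hfN : f ^ N ∈ Ideal.span (Set.range g') := by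
    rw [hN, pow_add]; exact Ideal.mul_mem_right _ _ hN₁
  obtain ⟨c, hc⟩ := (Submodule.mem_span_range_iff_exists_fun A).mp hfN
  simp only [smul_eq_mul] at hc
  have hnum : ∀ q, g' q • (∑ p, c p • m' p) = f ^ N • m' q := fun q => by
    rw [Finset.smul_sum, ← hc, Finset.sum_smul]
    refine Finset.sum_congr rfl fun p _ => ?_
    rw [smul_comm, hcross p q, smul_smul]
  obtain ⟨i₀, hi₀⟩ : ∃ i₀ : ℕ, (i₀ : ℤ) = (N : ℤ) * d + n := by
    refine ⟨((N : ℤ) * d + n).toNat, Int.toNat_of_nonneg ?_⟩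
    have : N ≤ N * d := Nat.le_mul_of_pos_right _ hd
    have : (N : ℤ) ≤ (N : ℤ) * d := by exact_mod_cast this
    omega
  refine ⟨N, i₀, ⟨(decompose 𝒜 (∑ p, c p • m' p) i₀ : A), SetLike.coe_mem _⟩, hi₀, fun x => ?_⟩
  -- some denominator does not vanish at `x`
  obtain ⟨q, hq⟩ : ∃ q : {g // g ∈ F}, (q : A) ∉ x.1.asHomogeneousIdeal := by
    by_contra hc'
    push Not at hc'
    exact (ProjectiveSpectrum.mem_basicOpen 𝒜 f x.1).mp x.2 (x.1.isPrime.mem_of_pow_mem N₀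
      ((Ideal.span_le.mpr fun a ha => hc' ⟨a, ha⟩) hfF))
  obtain ⟨_, hsx⟩ := hs q x.1 hq
  refine hsx.trans ?_
  have hq' : g' q • (decompose 𝒜 (∑ p, c p • m' p) i₀ : A) = f ^ N • m' q := by
    have hgq : g' q ∈ 𝒜 ((K + 1) * e q) := by
      simpa using SetLike.pow_mem_graded (K + 1) (hg q)
    rw [← decompose_smul_of_mem_left 𝒜 hgq _ i₀, hnum q]
    refine decompose_of_mem_same 𝒜 (smul_mem 𝒜 (e := N * d) (i := K * e q + i q)
      (by simpa using SetLike.pow_mem_graded N hf)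
      (smul_mem 𝒜 (by simpa using SetLike.pow_mem_graded K (hg q)) (hm q) rfl) ?_)
    have := hi q
    zify
    linarith
  refine (loc_mk_eq).mpr
    ⟨⟨(q : A) ^ K, fun h => hq (x.1.isPrime.mem_of_pow_mem K h)⟩, ?_⟩
  simp only [Submonoid.smul_def]
  rw [smul_smul, smul_smul, ← pow_succ]
  exact (mul_smul _ _ _).trans ((smul_comm _ _ _).trans hq'.symm)


theorem exists_pos_notMem (x : ProjectiveSpectrum 𝒜) :
    ∃ (d : ℕ) (g : A), 0 < d ∧ g ∈ 𝒜 d ∧ g ∉ x.asHomogeneousIdeal := by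
  by_contra hc
  push Not at hc
  exact x.not_irrelevant_le (irrelevant_le_ideal 𝒜 fun d hd a ha => hc d a hd ha)

/-- A function on `D₊(f)` is one fraction `a / f ^ k`. -/
theorem exists_fun_eq_frac {d : ℕ} (hd : 0 < d) {f : A} (hf : f ∈ 𝒜 d)
    (φ : Γ(Proj 𝒜, Proj.basicOpen 𝒜 f)) :
    ∃ (k : ℕ) (a : A), a ∈ 𝒜 (k * d) ∧ ∀ (x : ProjectiveSpectrum 𝒜) (hx : f ∉ x.asHomogeneousIdeal),
      (φ.1 ⟨x, hx⟩).val = Localization.mk a
        (⟨f ^ k, fun h => hx (x.isPrime.mem_of_pow_mem k h)⟩ :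
          x.asHomogeneousIdeal.toIdeal.primeCompl) := by
  obtain ⟨z, rfl⟩ := (ConcreteCategory.bijective_of_isIso
    (Proj.basicOpenIsoAway 𝒜 f hf hd).hom).2 φ
  obtain ⟨k, a, ha, rfl⟩ := HomogeneousLocalization.Away.mk_surjective (𝒜 := 𝒜) hf z
  refine ⟨k, a, by simpa using ha, fun x hx => ?_⟩
  rw [Proj.basicOpenIsoAway_hom]
  refine (ProjectiveSpectrum.Proj.awayToSection_apply 𝒜 f _ ⟨x, hx⟩).trans ?_
  rw [HomogeneousLocalization.Away.val_mk, Localization.mk_eq_mk', IsLocalization.map_mk',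
    Localization.mk_eq_mk']
  rfl

/-- The non-vanishing locus of a function given by a fraction. -/
theorem mem_basicOpen_iff_of_frac {U : (Proj 𝒜).Opens} (φ : Γ(Proj 𝒜, U)) {x : ProjectiveSpectrum 𝒜}
    (hx : x ∈ U) {a b : A} {hb : b ∈ x.asHomogeneousIdeal.toIdeal.primeCompl}
    (h : (φ.1 ⟨x, hx⟩).val = Localization.mk a ⟨b, hb⟩) :
    x ∈ (Proj 𝒜).basicOpen φ ↔ a ∉ x.asHomogeneousIdeal := by
  refine ((Proj 𝒜).mem_basicOpen φ x hx).trans ?_
  refine (isUnit_map_iff (Proj.stalkIso' 𝒜 x) _).symm.trans ?_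
  refine (Iff.of_eq (congrArg IsUnit (Proj.stalkIso'_germ 𝒜 U x hx φ))).trans ?_
  rw [← HomogeneousLocalization.isUnit_iff_isUnit_val, h, Localization.mk_eq_mk',
    IsLocalization.AtPrime.isUnit_mk'_iff]
  rfl

variable (n : ℤ)

theorem pow_smul_val {U : (Proj 𝒜).Opens} (φ : Γ(Proj 𝒜, U))
    (s : Γ(GrTwist.twist 𝒜 n, U)) {x : ProjectiveSpectrum 𝒜} (hx : x ∈ U) {a : A} {m : A}
    {b c : x.asHomogeneousIdeal.toIdeal.primeCompl}
    (hφ : (φ.1 ⟨x, hx⟩).val = Localization.mk a b)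
    (hs : (s.1 ⟨x, hx⟩).1 = Localization.mk m c) (K : ℕ) :
    ((φ ^ K • s : Γ(GrTwist.twist 𝒜 n, U)).1 ⟨x, hx⟩).1 =
      Localization.mk (a ^ K • m) (b ^ K * c) := by
  change ((φ ^ K).1 ⟨x, hx⟩ • s.1 ⟨x, hx⟩).1 = _
  rw [GrTwist.coe_smul_val, hs]
  change ((φ.1 ⟨x, hx⟩ ^ K).val) • Localization.mk m c = _
  rw [HomogeneousLocalization.val_pow, hφ, Localization.mk_pow, smul_eq_mul, Localization.mk_mul]
  rfl


/-- `M(n)~` is quasi-coherent. -/
theorem isQuasicoherent : (GrTwist.twist 𝒜 n).IsQuasicoherent := by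
  refine QCohMod.isQCoh_of_affine_cover _ fun x => ?_
  obtain ⟨d, f, hd, hf, hfx⟩ := exists_pos_notMem 𝒜 x
  refine ⟨Proj.basicOpen 𝒜 f, Proj.isAffineOpen_basicOpen 𝒜 f hf hd, hfx, fun φ s => ?_,
    fun φ t ht => ?_⟩
  · obtain ⟨k, a, ha, hφ⟩ := exists_fun_eq_frac 𝒜 hd hf φ
    have hO : ∀ y : ProjectiveSpectrum 𝒜, f ∉ y.asHomogeneousIdeal →
        a ∉ y.asHomogeneousIdeal → y ∈ (Proj 𝒜).basicOpen φ := fun y hy hay =>
      (mem_basicOpen_iff_of_frac 𝒜 φ hy (hφ y hy)).mpr hay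
    have hle : Proj.basicOpen 𝒜 (a * f) ≤ (Proj 𝒜).basicOpen φ := fun y hy =>
      hO y (fun h => hy (y.asHomogeneousIdeal.toIdeal.mul_mem_left _ h))
        (fun h => hy (y.asHomogeneousIdeal.toIdeal.mul_mem_right _ h))
    obtain ⟨K, i, m, hi, hm⟩ := exists_frac 𝒜 n (Nat.add_pos_right (k * d) hd)
      (SetLike.mul_mem_graded ha hf) (res (GrTwist.twist 𝒜 n) hle s)
    refine ⟨K, fracSect 𝒜 n (Proj.basicOpen 𝒜 f) (j := (k * K + K) * d) m.1 m.2
      (f ^ (k * K + K)) (by simpa using SetLike.pow_mem_graded (k * K + K) hf)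
      (fun y h => y.2 (y.1.isPrime.mem_of_pow_mem _ h))
      (Or.inl (by rw [hi]; push_cast; ring)), ?_⟩
    refine sect_ext 𝒜 n fun y => ?_
    obtain ⟨y, hy⟩ := y
    have hyf : f ∉ y.asHomogeneousIdeal := (Proj 𝒜).basicOpen_le φ hy
    have hya : a ∉ y.asHomogeneousIdeal := (mem_basicOpen_iff_of_frac 𝒜 φ hyf (hφ y hyf)).mp hy
    haveI : y.asHomogeneousIdeal.toIdeal.IsPrime := y.isPrime
    have hyaf : a * f ∉ y.asHomogeneousIdeal :=
      y.asHomogeneousIdeal.toIdeal.primeCompl.mul_mem hya hyf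
    refine Eq.trans ?_
      (pow_smul_val 𝒜 n (resFun _ ((Proj 𝒜).basicOpen_le φ) φ) s hy (hφ y hyf)
        (hm ⟨y, hyaf⟩) K).symm
    refine ((loc_mk_eq).mpr ⟨1, ?_⟩)
    simp only [one_smul, Submonoid.smul_def, Submonoid.coe_mul, SubmonoidClass.coe_pow, smul_smul]
    congr 1
    ring
  · obtain ⟨k, a, ha, hφ⟩ := exists_fun_eq_frac 𝒜 hd hf φ
    obtain ⟨p, i, m, hi, hm⟩ := exists_frac 𝒜 n hd hf t
    obtain ⟨N, hN⟩ := exists_pow_smul_eq_zero 𝒜 (Nat.add_pos_right (k * d) hd)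
      (SetLike.mul_mem_graded ha hf) m.2 fun y hy => by
        have hyf : f ∉ y.asHomogeneousIdeal := fun h =>
          hy (y.asHomogeneousIdeal.toIdeal.mul_mem_left _ h)
        have hya : a ∉ y.asHomogeneousIdeal := fun h =>
          hy (y.asHomogeneousIdeal.toIdeal.mul_mem_right _ h)
        have hyO := (mem_basicOpen_iff_of_frac 𝒜 φ hyf (hφ y hyf)).mpr hya
        refine (mk_eq_zero_iff 𝒜).mp ((hm ⟨y, hyf⟩).symm.trans ?_)
        exact congrArg (fun r : GrTwist.sectN (𝒜 := 𝒜) n (op ((Proj 𝒜).basicOpen φ)) =>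
          (r.1 ⟨y, hyO⟩).1) ht
    refine ⟨N, sect_ext 𝒜 n fun y => ?_⟩
    obtain ⟨y, hy⟩ := y
    refine (pow_smul_val 𝒜 n φ t hy (hφ y hy) (hm ⟨y, hy⟩) N).trans ?_
    refine (mk_eq_zero_iff 𝒜).mpr ⟨f ^ N, fun h => hy (y.isPrime.mem_of_pow_mem N h), ?_⟩
    rw [smul_smul, ← mul_pow, mul_comm f a]
    exact hN

end Groth.RelTw
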