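import Groth.Agent.RelTwist.PowFrac

/-!
# The maps of local rings between the charts of a relative Proj
-/

universe u

open CategoryTheory CategoryTheory.Limits AlgebraicGeometry Opposite TopologicalSpace
open scoped HomogeneousIdeal

set_option backward.isDefEq.respectTransparency.types false

namespace Groth.RelTw

variable {S : Scheme.{u}} {𝒮 : RelProj.QCGrAlg S}

/-- `y` lies over `x` for the restriction of `𝒮` from `U` to `D`. -/
def Over {U D : S.Opens} (hU : IsAffineOpen U) (hD : IsAffineOpen D) (hle : D ≤ U)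
    (x : ProjectiveSpectrum (𝒮.deg U hU)) (y : ProjectiveSpectrum (𝒮.deg D hD)) : Prop :=
  x.asHomogeneousIdeal.toIdeal = y.asHomogeneousIdeal.toIdeal.comap (𝒮.res hU hD hle).toRingHom

variable {U D D' : S.Opens} {hU : IsAffineOpen U} {hD : IsAffineOpen D} {hD' : IsAffineOpen D'}
  {hle : D ≤ U} {hle' : D' ≤ D} {x : ProjectiveSpectrum (𝒮.deg U hU)}
  {y : ProjectiveSpectrum (𝒮.deg D hD)} {z : ProjectiveSpectrum (𝒮.deg D' hD')}

/-- The map of local rings. -/
noncomputable def T (h : Over hU hD hle x y) :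
    GrTwist.Loc (𝒮.deg U hU) x →+* GrTwist.Loc (𝒮.deg D hD) y :=
  haveI := x.isPrime
  haveI := y.isPrime
  Localization.localRingHom _ _ (𝒮.res hU hD hle).toRingHom h

theorem Over.notMem (h : Over hU hD hle x y) {a : 𝒮.presheaf.obj (op U)}
    (ha : a ∉ x.asHomogeneousIdeal) : 𝒮.res hU hD hle a ∉ y.asHomogeneousIdeal :=
  fun hc => ha (h.ge hc)

theorem T_mk (h : Over hU hD hle x y) (a : 𝒮.presheaf.obj (op U))
    (s : x.asHomogeneousIdeal.toIdeal.primeCompl) :
    T h (Localization.mk a s) =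
      Localization.mk (𝒮.res hU hD hle a) ⟨𝒮.res hU hD hle (s : 𝒮.presheaf.obj (op U)), h.notMem s.2⟩ := by
  haveI := x.isPrime
  haveI := y.isPrime
  rw [T, Localization.mk_eq_mk', Localization.mk_eq_mk']
  exact Localization.localRingHom_mk' _ _ _ h a s

theorem res_res_apply (a : 𝒮.presheaf.obj (op U)) :
    𝒮.res hD hD' hle' (𝒮.res hU hD hle a) = 𝒮.res hU hD' (hle'.trans hle) a :=
  presheaf_map_map hle hle' a

theorem Over.trans (h : Over hU hD hle x y) (h' : Over hD hD' hle' y z) :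
    Over hU hD' (hle'.trans hle) x z := by
  refine Ideal.ext fun a => ?_
  rw [h, h', Ideal.mem_comap, Ideal.mem_comap, Ideal.mem_comap]
  exact Iff.of_eq (congrArg (· ∈ z.asHomogeneousIdeal.toIdeal) (res_res_apply a))

theorem T_trans (h : Over hU hD hle x y) (h' : Over hD hD' hle' y z)
    (h'' : Over hU hD' (hle'.trans hle) x z) (q : GrTwist.Loc (𝒮.deg U hU) x) :
    T h' (T h q) = T h'' q := by
  induction q using Localization.induction_on with
  | H p =>
    obtain ⟨a, s⟩ := p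
    rw [T_mk, T_mk, T_mk]
    exact congrArg₂ Localization.mk (res_res_apply a) (Subtype.ext (res_res_apply _))

theorem Over.eq (h : Over hU hD hle x y) {x' : ProjectiveSpectrum (𝒮.deg U hU)}
    (h' : Over hU hD hle x' y) : x = x' :=
  ProjectiveSpectrum.ext (HomogeneousIdeal.toIdeal_injective (Eq.trans h h'.symm))

section basic

variable (hr : ∃ r : Γ(S, U), S.basicOpen r = D)

theorem isLocalization_res {r : Γ(S, U)} {hU : IsAffineOpen U} (e : S.basicOpen r = D)
    (hD : IsAffineOpen D) (hle : D ≤ U) :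
    @IsLocalization.Away _ _ ((𝒮.str.app (op U)).hom r) (𝒮.presheaf.obj (op D)) _
      (𝒮.res hU hD hle).toRingHom.toAlgebra := by
  subst e
  exact 𝒮.isQC U hU r

include hr in
/-- The numerator of an element of the localization, of the same degree. -/
theorem exists_num : ∃ c : 𝒮.presheaf.obj (op U), c ∈ 𝒮.deg U hU 0 ∧ IsUnit (𝒮.res hU hD hle c) ∧
    (∀ a, 𝒮.res hU hD hle a = 0 → ∃ k : ℕ, c ^ k * a = 0) ∧
    (∀ b : 𝒮.presheaf.obj (op D), ∃ (a : 𝒮.presheaf.obj (op U)) (m : ℕ),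
      𝒮.res hU hD hle a = b * 𝒮.res hU hD hle c ^ m) ∧
    ∀ (i : ℕ) (b : 𝒮.presheaf.obj (op D)), b ∈ 𝒮.deg D hD i →
      ∃ (a : 𝒮.presheaf.obj (op U)) (m : ℕ), a ∈ 𝒮.deg U hU i ∧
        𝒮.res hU hD hle a = b * 𝒮.res hU hD hle c ^ m := by
  classical
  obtain ⟨r, e⟩ := hr
  letI := (𝒮.res hU hD hle).toRingHom.toAlgebra
  let c := (𝒮.str.app (op U)).hom r
  haveI : IsLocalization.Away c (𝒮.presheaf.obj (op D)) := isLocalization_res e hD hle
  have hu : IsUnit (𝒮.res hU hD hle c) :=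
    IsLocalization.Away.algebraMap_isUnit (S := 𝒮.presheaf.obj (op D)) c
  have hs : ∀ b : 𝒮.presheaf.obj (op D), ∃ (a : 𝒮.presheaf.obj (op U)) (m : ℕ),
      𝒮.res hU hD hle a = b * 𝒮.res hU hD hle c ^ m := fun b => by
    obtain ⟨m, a, hma⟩ := IsLocalization.Away.surj c b
    exact ⟨a, m, hma.symm⟩
  refine ⟨c, 𝒮.str_mem U hU r, hu, fun a ha => ?_, hs, fun i b hb => ?_⟩
  · obtain ⟨⟨_, k, rfl⟩, hk⟩ := (IsLocalization.map_eq_zero_iff (Submonoid.powers c)
      (𝒮.presheaf.obj (op D)) a).1 ha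
    exact ⟨k, hk⟩
  · obtain ⟨a, m, ha⟩ := hs b
    refine ⟨DirectSum.decompose (𝒮.deg U hU) a i, m, SetLike.coe_mem _, ?_⟩
    have hbm : b * 𝒮.res hU hD hle c ^ m ∈ 𝒮.deg D hD i := by
      have := SetLike.mul_mem_graded (A := 𝒮.deg D hD) hb
        (SetLike.pow_mem_graded m ((𝒮.res hU hD hle).map_mem (𝒮.str_mem U hU r)))
      simpa using this
    rw [GradedRingHom.map_directSumDecompose, ha, DirectSum.decompose_of_mem_same _ hbm]

include hr in
theorem T_bijective (h : Over hU hD hle x y) : Function.Bijective (T h) := by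
  obtain ⟨c, -, hcu, hz, hs, -⟩ := exists_num (hU := hU) (hD := hD) (hle := hle) hr
  have hc : c ∉ x.asHomogeneousIdeal := fun hc =>
    y.isPrime.ne_top (Ideal.eq_top_of_isUnit_mem _ (h.le hc) hcu)
  constructor
  · rw [injective_iff_map_eq_zero]
    intro q hq
    induction q using Localization.induction_on with
    | H p =>
      obtain ⟨a, s⟩ := p
      rw [T_mk] at hq
      obtain ⟨v, hv, hva⟩ := (mk_eq_zero_iff (𝒮.deg D hD)).1 hq
      obtain ⟨v₀, m, hv₀⟩ := hs v
      have hv₀x : v₀ ∉ x.asHomogeneousIdeal := fun hc' => by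
        have h1 : 𝒮.res hU hD hle v₀ ∈ y.asHomogeneousIdeal.toIdeal := h.le hc'
        rw [hv₀] at h1
        exact hv ((y.isPrime.mem_or_mem h1).resolve_right fun h2 => h.notMem hc
          (y.isPrime.mem_of_pow_mem m h2))
      obtain ⟨k, hk⟩ := hz (v₀ * a) (by
        rw [map_mul, hv₀, mul_right_comm, ← smul_eq_mul v, hva, zero_mul])
      refine (mk_eq_zero_iff (𝒮.deg U hU)).2 ⟨c ^ k * v₀, fun hc' => ?_, by rw [smul_eq_mul, mul_assoc, hk]⟩
      rcases x.isPrime.mem_or_mem hc' with h3 | h3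
      · exact hc (x.isPrime.mem_of_pow_mem k h3)
      · exact hv₀x h3
  · intro q
    induction q using Localization.induction_on with
    | H p =>
      obtain ⟨b, t⟩ := p
      obtain ⟨b₀, m, hb₀⟩ := hs b
      obtain ⟨t₀, l, ht₀⟩ := hs (t : 𝒮.presheaf.obj (op D))
      have ht₀x : t₀ ∉ x.asHomogeneousIdeal := fun hc' => by
        have h1 : 𝒮.res hU hD hle t₀ ∈ y.asHomogeneousIdeal.toIdeal := h.le hc'
        rw [ht₀] at h1
        exact t.2 ((y.isPrime.mem_or_mem h1).resolve_right fun h2 => h.notMem hc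
          (y.isPrime.mem_of_pow_mem l h2))
      refine ⟨Localization.mk (b₀ * c ^ l) ⟨t₀ * c ^ m, x.isPrime.mul_notMem ht₀x
        (fun h3 => hc (x.isPrime.mem_of_pow_mem m h3))⟩, ?_⟩
      rw [T_mk]
      refine (loc_mk_eq).mpr ⟨1, ?_⟩
      simp only [one_smul, Submonoid.smul_def, smul_eq_mul, map_mul, map_pow, hb₀, ht₀]
      ring

include hr in
theorem T_mem_iff (h : Over hU hD hle x y) {n : ℤ} {i j : ℕ} {b t : 𝒮.presheaf.obj (op D)}
    (hb : b ∈ 𝒮.deg D hD i) (ht : t ∈ 𝒮.deg D hD j) (htx : t ∉ y.asHomogeneousIdeal)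
    (hdeg : (i : ℤ) = j + n ∨ b = 0) :
    ∃ q ∈ GrTwist.twistAt (𝒮.deg U hU) n x,
      T h q = (Localization.mk b ⟨t, htx⟩ : GrTwist.Loc (𝒮.deg D hD) y) := by
  rcases hdeg with hdeg | hdeg
  · obtain ⟨c, hc0, hcu, -, -, hsd⟩ := exists_num (hU := hU) (hD := hD) (hle := hle) hr
    have hc : c ∉ x.asHomogeneousIdeal := fun hc =>
      y.isPrime.ne_top (Ideal.eq_top_of_isUnit_mem _ (h.le hc) hcu)
    obtain ⟨b₀, m, hb₀d, hb₀⟩ := hsd i b hb
    obtain ⟨t₀, l, ht₀d, ht₀⟩ := hsd j t ht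
    have ht₀x : t₀ ∉ x.asHomogeneousIdeal := fun hc' => by
      have h1 : 𝒮.res hU hD hle t₀ ∈ y.asHomogeneousIdeal.toIdeal := h.le hc'
      rw [ht₀] at h1
      exact htx ((y.isPrime.mem_or_mem h1).resolve_right fun h2 => h.notMem hc
        (y.isPrime.mem_of_pow_mem l h2))
    refine ⟨Localization.mk (b₀ * c ^ l) ⟨t₀ * c ^ m, x.isPrime.mul_notMem ht₀x
      (fun h3 => hc (x.isPrime.mem_of_pow_mem m h3))⟩, mk_mem_twistAt _ (i := i) (j := j) ?_ ?_ _ (Or.inl hdeg), ?_⟩
    · simpa using SetLike.mul_mem_graded hb₀d (SetLike.pow_mem_graded l hc0)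
    · simpa using SetLike.mul_mem_graded ht₀d (SetLike.pow_mem_graded m hc0)
    rw [T_mk]
    refine (loc_mk_eq).mpr ⟨1, ?_⟩
    simp only [one_smul, Submonoid.smul_def, smul_eq_mul, map_mul, map_pow, hb₀, ht₀]
    ring
  · exact ⟨0, zero_mem _, by rw [map_zero, hdeg, Localization.mk_zero]⟩

end basic

section emb

variable {P : Scheme.{u}} {p : P ⟶ S}
  {chart : ∀ (U : S.Opens) (hU : IsAffineOpen U), (((p ⁻¹ᵁ U : P.Opens) : Scheme.{u}) ≅ Proj (𝒮.deg U hU))}
  (hP : RelProj.IsRelProj 𝒮 p chart)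

include hP in
theorem emb_eq_of_over (hr : ∃ r : Γ(S, U), S.basicOpen r = D) (h : Over hU hD hle x y) :
    RelProj.emb p chart U hU x = RelProj.emb p chart D hD y := by
  obtain ⟨r, rfl⟩ := hr
  have e : x = ProjectiveSpectrum.comap (𝒮.res hU hD hle) (𝒮.irrelevant_le_map U hU r) y :=
    Over.eq h rfl
  rw [e]
  exact congr($(RelProj.map_res_emb hP U hU r) y)

include hP in
theorem over_of_emb_eq (hr : ∃ r : Γ(S, U), S.basicOpen r = D)
    (e : RelProj.emb p chart U hU x = RelProj.emb p chart D hD y) : Over hU hD hle x y := by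
  obtain ⟨r, rfl⟩ := hr
  have h0 : Over hU hD hle (ProjectiveSpectrum.comap (𝒮.res hU hD hle) (𝒮.irrelevant_le_map U hU r) y) y :=
    rfl
  have := (RelProj.emb p chart U hU).isOpenEmbedding.injective (e.trans (emb_eq_of_over hP ⟨r, rfl⟩ h0).symm)
  exact this ▸ h0

end emb

end Groth.RelTw
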