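import Groth.Agent.RelTwist.ProjUnivC
import Groth.Agent.PicAux.PushPull

/-!
# The universal property of a projective bundle
-/

universe u

open CategoryTheory CategoryTheory.Limits AlgebraicGeometry Opposite TopologicalSpace
open scoped HomogeneousIdeal

set_option backward.isDefEq.respectTransparency.types false

noncomputable section

namespace Groth.RelTw

open Groth.PicAux

/-! ### Morphisms out of an inverse image -/

theorem symm_app_pullSec {X P : Scheme.{u}} (r : X ⟶ P) {M : P.Modules} {L : X.Modules}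
    (θ : M ⟶ (Scheme.Modules.pushforward r).obj L) {V : P.Opens} (x : Γ(M, V)) :
    (((Scheme.Modules.pullbackPushforwardAdjunction r).homEquiv M L).symm θ).app (r ⁻¹ᵁ V) (pullSec r M x) =
      θ.app V x := by
  rw [Adjunction.homEquiv_counit]
  change ((Scheme.Modules.pullbackPushforwardAdjunction r).counit.app L).app (r ⁻¹ᵁ V)
    (((Scheme.Modules.pullback r).map θ).app (r ⁻¹ᵁ V) (pullSec r M x)) = θ.app V x
  rw [pullSec_map]
  exact counit_pullSec r L (θ.app V x)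

theorem hom_ext_pullSec {X S : Scheme.{u}} (g : X ⟶ S) {E : S.Modules} {L : X.Modules}
    {s t : (Scheme.Modules.pullback g).obj E ⟶ L}
    (h : ∀ U e, s.app (g ⁻¹ᵁ U) (pullSec g E e) = t.app (g ⁻¹ᵁ U) (pullSec g E (U := U) e)) : s = t := by
  apply ((Scheme.Modules.pullbackPushforwardAdjunction g).homEquiv E L).injective
  rw [Adjunction.homEquiv_unit, Adjunction.homEquiv_unit]
  exact Scheme.Modules.hom_ext _ _ fun U => AddCommGrpCat.ext fun e => h U e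

theorem pullbackComp_inv_pullSec {X P S : Scheme.{u}} (r : X ⟶ P) (p : P ⟶ S) (E : S.Modules)
    {U : S.Opens} (e : Γ(E, U)) :
    ((Scheme.Modules.pullbackComp r p).inv.app E).app (r ⁻¹ᵁ p ⁻¹ᵁ U) (pullSec (r ≫ p) E e) =
      pullSec r _ (pullSec p E e) := by
  rw [← pullSec_comp]
  exact congr(($(Iso.hom_inv_id_app (Scheme.Modules.pullbackComp r p) E)).app (r ⁻¹ᵁ p ⁻¹ᵁ U)
    (pullSec r _ (pullSec p E e)))

variable {S X P : Scheme.{u}}

/-- The data of a map out of the inverse image of `E`. -/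
def linData {g : X ⟶ S} {E : S.Modules} {L : X.Modules} (s : (Scheme.Modules.pullback g).obj E ⟶ L) :
    LinData g E L where
  app U := AddMonoidHom.mk' (fun e => s.app (g ⁻¹ᵁ U) (pullSec g E e)) fun a b => by
    rw [← map_add]
    exact congrArg (s.app (g ⁻¹ᵁ U)) (map_add _ a b)
  app_smul U a e := by
    change s.app (g ⁻¹ᵁ U) (pullSec g E (a • e)) = _
    rw [pullSec_smul, Scheme.Modules.Hom.app_smul]
    rfl
  app_res U V h e := by
    change res L _ (s.app (g ⁻¹ᵁ U) (pullSec g E e)) = s.app (g ⁻¹ᵁ V) (pullSec g E (res E h e))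
    rw [← res_pullSec g E h, PicAux.app_res]

theorem linData_app {g : X ⟶ S} {E : S.Modules} {L : X.Modules} (s : (Scheme.Modules.pullback g).obj E ⟶ L)
    (U : S.Opens) (e : Γ(E, U)) : (linData s).app U e = s.app (g ⁻¹ᵁ U) (pullSec g E e) := rfl

theorem exists_mem_genLoc {g : X ⟶ S} {E : S.Modules} {L : X.Modules} (hL : PicF.IsInvertible L)
    (s : (Scheme.Modules.pullback g).obj E ⟶ L) [Epi s] (z : X) :
    ∃ (U : S.Opens) (_ : IsAffineOpen U) (e : Γ(E, U)), z ∈ (linData s).genLoc U e := by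
  obtain ⟨U, hU, e, V, hV, hzV, hgen⟩ := exists_gen_of_epi g E hL s z
  exact ⟨U, hU, e, (linData s).le_genLoc hV hgen hzV⟩

variable {E : S.Modules} [E.IsQuasicoherent] {L : X.Modules}
  {𝒮 : RelProj.QCGrAlg S} {j : E ⟶ 𝒮.toModule} (hj : RelProj.IsGrSymAlg E 𝒮 j) {p : P ⟶ S}
  {chart : ∀ (U : S.Opens) (hU : IsAffineOpen U), (((p ⁻¹ᵁ U : P.Opens) : Scheme.{u}) ≅ Proj (𝒮.deg U hU))}
  (hP : RelProj.IsRelProj 𝒮 p chart)
  {O1 : P.Modules}
  {lam : ∀ (U : S.Opens) (hU : IsAffineOpen U),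
    O1 ⟶ (Scheme.Modules.pushforward (RelProj.emb p chart U hU)).obj (GrTwist.twist (𝒮.deg U hU) 1)}
  (hO1 : RelProj.IsRelTwist 𝒮 p chart 1 O1 lam)
  {φ : E ⟶ (Scheme.Modules.pushforward p).obj O1}
  (hφ : ∀ (U : S.Opens) (hU : IsAffineOpen U) (e : Γ(E, U))
    (y : ↥(RelProj.emb p chart U hU ⁻¹ᵁ (p ⁻¹ᵁ U))),
    GrTwist.val (V := RelProj.emb p chart U hU ⁻¹ᵁ (p ⁻¹ᵁ U))
        ((lam U hU).app (p ⁻¹ᵁ U) ((φ.app U) e)) y =
      algebraMap (𝒮.presheaf.obj (op U)) (GrTwist.Loc (𝒮.deg U hU) y.1)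
        ((j.app U) e : 𝒮.presheaf.obj (op U)))

/-! ### Consequences of `Fits` -/

include hj hO1 hφ in
theorem Fits.rel_any {g : X ⟶ S} {σ : LinData g E L} {r : X ⟶ P} (h : Fits σ hj chart r) (U : S.Opens)
    (hU : IsAffineOpen U) (e : Γ(E, U)) (U' : S.Opens) (e' : Γ(E, U'))
    (V : P.Opens) (hV : V ≤ dPlus p chart j U hU e) (hV' : V ≤ p ⁻¹ᵁ U') (R : Γ(P, V))
    (hR : res O1 hV' (phiSec φ U' e') = R • res O1 (hV.trans (dPlus_le U hU e)) (phiSec φ U e))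
    (W : X.Opens) (hW : W ≤ r ⁻¹ᵁ V) (hW₁ : W ≤ g ⁻¹ᵁ U) (hW₂ : W ≤ g ⁻¹ᵁ U') :
    res L hW₂ (σ.app U' e') = rAp r hW R • res L hW₁ (σ.app U e) := by
  refine rel_of_base σ hj hO1 hφ h.comp U hU e (fun e'' W' hW' hW'₁ => ?_) U' e' V hV hV' R hR W hW hW₁ hW₂
  have hG : W' ≤ σ.genLoc U e := hW'.trans (h.pre U hU e).le
  have hfn : rAp r (h.pre U hU e).ge ((coord hj chart U hU e).hom (jfrac hj U hU e 1 (hj.2 U hU e''))) =
      σ.ratio U e e'' := by
    rw [rAp, h.fn U hU e (h.pre U hU e).ge, σ.rho_coord, σ.fracHom_jfrac, σ.algHom_j]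
  have h1 := congrArg (res L hG) (σ.ratio_smul U e e'')
  rw [PicAux.res_smul, PicAux.res_res, PicAux.res_res] at h1
  refine h1.symm.trans (congrArg (· • res L hW'₁ (σ.app U e)) ?_)
  rw [← hfn]
  exact resX_rAp r _ hG _

theorem Fits.genPre {g : X ⟶ S} {σ : LinData g E L} {r : X ⟶ P} (h : Fits σ hj chart r) :
    GenPre σ j chart r := fun U hU e hle => by
  have := (σ.gen_genLoc U e).res (h.pre U hU e).le
  rwa [PicAux.res_res] at this

/-! ### The morphism of a quotient -/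

variable {r : X ⟶ P}

include hj hO1 hφ in
theorem exists_hom_pushforward (σ : LinData (r ≫ p) E L) (h : Fits σ hj chart r) :
    ∃ θ : O1 ⟶ (Scheme.Modules.pushforward r).obj L,
      ∀ (U : S.Opens) (e : Γ(E, U)), θ.app (p ⁻¹ᵁ U) (phiSec φ U e) = σ.app U e := by
  let ι := Σ' (U : S.affineOpens), Γ(E, U.1)
  let D : ι → P.Opens := fun i => dPlus p chart j i.1.1 i.1.2 i.2
  have hcov : ∀ z : P, ∃ i : ι, z ∈ D i := fun z => by
    obtain ⟨U, hU, hzU, -⟩ := exists_isAffineOpen_mem_and_subset (x := p z) (U := (⊤ : S.Opens)) trivial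
    obtain ⟨e, he⟩ := exists_mem_dPlus (chart := chart) hj U hU hzU
    exact ⟨⟨⟨U, hU⟩, e⟩, he⟩
  have hle : ∀ i : ι, r ⁻¹ᵁ D i ≤ (r ≫ p) ⁻¹ᵁ i.1.1 := fun i => r.preimage_mono (dPlus_le i.1.1 i.1.2 i.2)
  obtain ⟨θ, hθ⟩ := exists_hom_of_gen (L := O1) (M := (Scheme.Modules.pushforward r).obj L) (U := D)
    (eq_top_iff.2 fun z _ => Opens.mem_iSup.2 (hcov z))
    (fun i => res O1 (dPlus_le i.1.1 i.1.2 i.2) (phiSec φ i.1.1 i.2))
    (fun i => gen_app hj hO1 hφ i.1.1 i.1.2 i.2)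
    (fun i => (res L (hle i) (σ.app i.1.1 i.2) : Γ(L, r ⁻¹ᵁ D i)))
    (fun i k R hR => by
      rw [PicAux.res_res, PicAux.res_res] at hR
      change res L (r.preimage_mono inf_le_left) (res L (hle i) (σ.app i.1.1 i.2)) =
        (r.app (D i ⊓ D k)).hom R •
          (res L (r.preimage_mono inf_le_right) (res L (hle k) (σ.app k.1.1 k.2)) : Γ(L, r ⁻¹ᵁ (D i ⊓ D k)))
      rw [Scheme.Hom.app_eq_appLE]
      rw [PicAux.res_res, PicAux.res_res]
      exact Fits.rel_any hj hO1 hφ h k.1.1 k.1.2 k.2 i.1.1 i.2 (D i ⊓ D k) inf_le_right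
        (inf_le_left.trans (dPlus_le i.1.1 i.1.2 i.2)) R hR _ le_rfl _ _)
  refine ⟨θ, fun U e => res_ext (fun i : ι => r ⁻¹ᵁ (D i ⊓ p ⁻¹ᵁ U)) (fun i => r.preimage_mono inf_le_right)
    (fun z hz => ?_) fun i => ?_⟩
  · obtain ⟨i, hi⟩ := hcov (r z)
    exact Opens.mem_iSup.2 ⟨i, hi, hz⟩
  obtain ⟨R, hR⟩ := (gen_app hj hO1 hφ i.1.1 i.1.2 i.2).exists_coeff (inf_le_left : D i ⊓ p ⁻¹ᵁ U ≤ D i)
    (res O1 (inf_le_right : D i ⊓ p ⁻¹ᵁ U ≤ p ⁻¹ᵁ U) (phiSec φ U e))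
  have h1 := congrArg (θ.app (D i ⊓ p ⁻¹ᵁ U)) hR
  rw [Scheme.Modules.Hom.app_smul, PicAux.app_res, PicAux.app_res, hθ] at h1
  rw [PicAux.res_res] at hR
  have h2 := Fits.rel_any hj hO1 hφ h i.1.1 i.1.2 i.2 U e (D i ⊓ p ⁻¹ᵁ U) inf_le_left inf_le_right R hR
    (r ⁻¹ᵁ (D i ⊓ p ⁻¹ᵁ U)) le_rfl ((r.preimage_mono inf_le_left).trans (hle i)) (r.preimage_mono inf_le_right)
  refine h1.trans (Eq.trans ?_ h2.symm)
  change (r.app (D i ⊓ p ⁻¹ᵁ U)).hom R •
    (res L (r.preimage_mono inf_le_left) (res L (hle i) (σ.app i.1.1 i.2)) : Γ(L, r ⁻¹ᵁ (D i ⊓ p ⁻¹ᵁ U))) = _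
  rw [PicAux.res_res, Scheme.Hom.app_eq_appLE]

include hj hO1 hφ in
theorem exists_iso_of_fits {g : X ⟶ S} (s : (Scheme.Modules.pullback g).obj E ⟶ L)
    (h : Fits (linData s) hj chart r) :
    ∃ (hr : r ≫ p = g) (τ : (Scheme.Modules.pullback r).obj O1 ≅ L),
      (Scheme.Modules.pullbackCongr hr).inv.app E ≫ (Scheme.Modules.pullbackComp r p).inv.app E ≫
        (Scheme.Modules.pullback r).map
          (((Scheme.Modules.pullbackPushforwardAdjunction p).homEquiv E O1).symm φ) ≫ τ.hom = s := by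
  obtain rfl := h.comp
  obtain ⟨θ, hθ⟩ := exists_hom_pushforward hj hO1 hφ (linData s) h
  set τ₀ := ((Scheme.Modules.pullbackPushforwardAdjunction r).homEquiv O1 L).symm θ
  let D : (Σ' (U : S.affineOpens), Γ(E, U.1)) → P.Opens := fun i => dPlus p chart j i.1.1 i.1.2 i.2
  have : IsIso τ₀ := by
    refine isIso_of_cover (U := fun i => r ⁻¹ᵁ D i) (eq_top_iff.2 fun z _ => ?_) τ₀ fun i V hV => ?_
    · obtain ⟨U, hU, hzU, -⟩ :=
        exists_isAffineOpen_mem_and_subset (x := p (r z)) (U := (⊤ : S.Opens)) trivial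
      obtain ⟨e, he⟩ := exists_mem_dPlus (chart := chart) hj U hU hzU
      exact Opens.mem_iSup.2 ⟨⟨⟨U, hU⟩, e⟩, he⟩
    · refine bijective_of_gen_map τ₀ ((gen_app hj hO1 hφ i.1.1 i.1.2 i.2).pull r) ?_ hV
      rw [symm_app_pullSec, PicAux.app_res, hθ]
      exact (Fits.genPre hj h) i.1.1 i.1.2 i.2 _
  refine ⟨rfl, asIso τ₀, hom_ext_pullSec (r ≫ p) fun U e => ?_⟩
  rw [show (Scheme.Modules.pullbackCongr (rfl : r ≫ p = r ≫ p)).inv.app E = 𝟙 _ from rfl, Category.id_comp]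
  change τ₀.app (r ⁻¹ᵁ p ⁻¹ᵁ U) (((Scheme.Modules.pullback r).map _).app (r ⁻¹ᵁ p ⁻¹ᵁ U)
    (((Scheme.Modules.pullbackComp r p).inv.app E).app (r ⁻¹ᵁ p ⁻¹ᵁ U) (pullSec (r ≫ p) E e))) = _
  rw [pullbackComp_inv_pullSec, pullSec_map, symm_app_pullSec r θ, symm_app_pullSec p φ, hθ]
  rfl

include hj hP hO1 hφ in
theorem fits_of_iso {g : X ⟶ S} (s : (Scheme.Modules.pullback g).obj E ⟶ L)
    (hr : r ≫ p = g) (τ : (Scheme.Modules.pullback r).obj O1 ≅ L)
    (heq : (Scheme.Modules.pullbackCongr hr).inv.app E ≫ (Scheme.Modules.pullbackComp r p).inv.app E ≫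
        (Scheme.Modules.pullback r).map
          (((Scheme.Modules.pullbackPushforwardAdjunction p).homEquiv E O1).symm φ) ≫ τ.hom = s) :
    Fits (linData s) hj chart r := by
  subst hr
  have hσ : ∀ (U : S.Opens) (e : Γ(E, U)),
      (linData s).app U e = τ.hom.app (r ⁻¹ᵁ p ⁻¹ᵁ U) (pullSec r O1 (phiSec φ U e)) := by
    intro U e
    rw [linData_app, ← heq,
      show (Scheme.Modules.pullbackCongr (rfl : r ≫ p = r ≫ p)).inv.app E = 𝟙 _ from rfl, Category.id_comp]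
    change τ.hom.app (r ⁻¹ᵁ p ⁻¹ᵁ U) (((Scheme.Modules.pullback r).map _).app (r ⁻¹ᵁ p ⁻¹ᵁ U)
      (((Scheme.Modules.pullbackComp r p).inv.app E).app (r ⁻¹ᵁ p ⁻¹ᵁ U) (pullSec (r ≫ p) E e))) = _
    rw [pullbackComp_inv_pullSec, pullSec_map, symm_app_pullSec p φ]
  have hres : ∀ {V : P.Opens} {U : S.Opens} (hV : V ≤ p ⁻¹ᵁ U) (e : Γ(E, U))
      (h : r ⁻¹ᵁ V ≤ (r ≫ p) ⁻¹ᵁ U),
      res L h ((linData s).app U e) = τ.hom.app (r ⁻¹ᵁ V) (pullSec r O1 (res O1 hV (phiSec φ U e))) := by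
    intro V U hV e h
    rw [hσ, ← res_pullSec r O1 hV, PicAux.app_res]
    rfl
  refine fits_of_gen_rel (linData s) hj hP hO1 hφ rfl (fun U hU e h => ?_)
    fun U hU e U' hU' e' V hV hV' R hR W hW h h' => ?_
  · rw [hres (dPlus_le U hU e) e h]
    exact (((gen_app hj hO1 hφ U hU e).pull r).map τ.hom)
  · have h1 := congrArg (res L hW) ((hres hV' e' (r.preimage_mono hV')).trans
      (congrArg (fun v => τ.hom.app (r ⁻¹ᵁ V) (pullSec r O1 v)) hR))
    rw [pullSec_smul, Scheme.Modules.Hom.app_smul, PicAux.res_smul,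
      ← hres (hV.trans (dPlus_le U hU e)) e (r.preimage_mono (hV.trans (dPlus_le U hU e))),
      PicAux.res_res, PicAux.res_res] at h1
    exact h1

include hj hP hO1 hφ in
/-- An invertible quotient of `g^* E` comes from exactly one morphism into the bundle. -/
theorem existsUnique_toProjBdl {g : X ⟶ S} (hL : PicF.IsInvertible L)
    (s : (Scheme.Modules.pullback g).obj E ⟶ L) [Epi s] :
    ∃! r : X ⟶ P, ∃ (hr : r ≫ p = g) (τ : (Scheme.Modules.pullback r).obj O1 ≅ L),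
      (Scheme.Modules.pullbackCongr hr).inv.app E ≫ (Scheme.Modules.pullbackComp r p).inv.app E ≫
        (Scheme.Modules.pullback r).map
          (((Scheme.Modules.pullbackPushforwardAdjunction p).homEquiv E O1).symm φ) ≫ τ.hom = s := by
  have hepi := exists_mem_genLoc hL s
  obtain ⟨r, hr⟩ := exists_fits (linData s) hj hP hO1 hφ hepi
  refine ⟨r, exists_iso_of_fits hj hO1 hφ s hr, fun r' ⟨hc, τ, heq⟩ => ?_⟩
  exact fits_hom_ext (linData s) hj hepi (fits_of_iso hj hP hO1 hφ s hc τ heq) hr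

end Groth.RelTw
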