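import Groth.Agent.RelTwist.Basic

/-!
# Powers of homogeneous elements as sections of relative twisting sheaves
-/

universe u

open CategoryTheory CategoryTheory.Limits AlgebraicGeometry Opposite TopologicalSpace
open scoped HomogeneousIdeal

set_option backward.isDefEq.respectTransparency.types false

namespace Groth.RelTw

open Groth.PicAux

section ring

variable {A σ : Type u} [CommRing A] [SetLike σ A] [AddSubgroupClass σ A] {𝒜 : ℕ → σ} [GradedRing 𝒜]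

/-- `f ^ n` in the local ring at a point where `f` does not vanish, `n : ℤ`. -/
noncomputable def powFrac (x : ProjectiveSpectrum 𝒜) (f : A) (hf : f ∉ x.asHomogeneousIdeal) (n : ℤ) :
    GrTwist.Loc 𝒜 x :=
  Localization.mk (f ^ n.toNat) ⟨f ^ (-n).toNat, fun h => hf (x.isPrime.mem_of_pow_mem _ h)⟩

theorem isUnit_powFrac (x : ProjectiveSpectrum 𝒜) (f : A) (hf : f ∉ x.asHomogeneousIdeal) (n : ℤ) :
    IsUnit (powFrac x f hf n) :=
  isUnit_frac (fun h => hf (x.isPrime.mem_of_pow_mem _ h)) _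

theorem powFrac_add (x : ProjectiveSpectrum 𝒜) (f : A) (hf : f ∉ x.asHomogeneousIdeal) (m n : ℤ) :
    powFrac x f hf (m + n) = powFrac x f hf m * powFrac x f hf n := by
  simp only [powFrac, Localization.mk_mul]
  refine (loc_mk_eq).mpr ⟨1, ?_⟩
  simp only [one_smul, Submonoid.smul_def, Submonoid.coe_mul, smul_eq_mul]
  rw [← pow_add, ← pow_add, ← pow_add, ← pow_add]
  congr 1
  omega

theorem powFrac_natCast (x : ProjectiveSpectrum 𝒜) (f : A) (hf : f ∉ x.asHomogeneousIdeal) (k : ℕ) :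
    powFrac x f hf (k : ℤ) = Localization.mk (f ^ k) 1 := by
  rw [powFrac]
  exact congrArg₂ Localization.mk (by simp) (Subtype.ext (by simp))

variable {B τ : Type u} [CommRing B] [SetLike τ B] [AddSubgroupClass τ B] {ℬ : ℕ → τ} [GradedRing ℬ]
  (ψ : 𝒜 →+*ᵍ ℬ) (hψ : HomogeneousIdeal.irrelevant ℬ ≤ (HomogeneousIdeal.irrelevant 𝒜).map ψ)

theorem locMap_powFrac (y : ProjectiveSpectrum ℬ) (f : A)
    (hf : f ∉ (ProjectiveSpectrum.comap ψ hψ y).asHomogeneousIdeal) (n : ℤ) {f' : B} (e : ψ f = f')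
    (hf' : f' ∉ y.asHomogeneousIdeal) :
    GrTwist.locMap ψ hψ y (powFrac (ProjectiveSpectrum.comap ψ hψ y) f hf n) = powFrac y f' hf' n := by
  subst e
  rw [powFrac, GrTwist.locMap_mk, powFrac]
  exact congrArg₂ Localization.mk (map_pow ψ _ _) (Subtype.ext (map_pow ψ _ _))

end ring

variable {S P : Scheme.{u}} {𝒮 : RelProj.QCGrAlg S} {p : P ⟶ S}
  {chart : ∀ (U : S.Opens) (hU : IsAffineOpen U), (((p ⁻¹ᵁ U : P.Opens) : Scheme.{u}) ≅ Proj (𝒮.deg U hU))}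

theorem presheaf_map_map {U V W : S.Opens} (h : V ≤ U) (h' : W ≤ V) (x : 𝒮.presheaf.obj (op U)) :
    (𝒮.presheaf.map (homOfLE h').op).hom ((𝒮.presheaf.map (homOfLE h).op).hom x) =
      (𝒮.presheaf.map (homOfLE (h'.trans h)).op).hom x := by
  rw [← CommRingCat.comp_apply, ← Functor.map_comp]
  rfl

variable (hP : RelProj.IsRelProj 𝒮 p chart)

include hP in
/-- Overlap of two charts. -/
theorem exists_chart_overlap {U V : S.Opens} (hU : IsAffineOpen U) (hV : IsAffineOpen V) {z : P}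
    (hzU : p z ∈ U) (hzV : p z ∈ V) :
    ∃ (D : S.Opens) (hD : IsAffineOpen D) (hDU : D ≤ U) (hDV : D ≤ V)
      (iU : (𝒮.deg D hD)₊ ≤ ((𝒮.deg U hU)₊).map (𝒮.res hU hD hDU))
      (iV : (𝒮.deg D hD)₊ ≤ ((𝒮.deg V hV)₊).map (𝒮.res hV hD hDV)),
      p z ∈ D ∧ (∃ r : Γ(S, U), S.basicOpen r = D) ∧ (∃ r : Γ(S, V), S.basicOpen r = D) ∧
      ∀ y, RelProj.emb p chart U hU (ProjectiveSpectrum.comap (𝒮.res hU hD hDU) iU y) =
          RelProj.emb p chart D hD y ∧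
        RelProj.emb p chart V hV (ProjectiveSpectrum.comap (𝒮.res hV hD hDV) iV y) =
          RelProj.emb p chart D hD y := by
  obtain ⟨D, hD, hz, ⟨r, hr⟩, ⟨r', hr'⟩⟩ := exists_common hU hV hzU hzV
  subst hr
  have hVle : S.basicOpen r ≤ V := hr' ▸ S.basicOpen_le r'
  have key : ∀ (D : S.Opens) (hD : IsAffineOpen D) (_ : ∃ r : Γ(S, V), S.basicOpen r = D) (hle : D ≤ V),
      ∃ iV : (𝒮.deg D hD)₊ ≤ ((𝒮.deg V hV)₊).map (𝒮.res hV hD hle),
        ∀ y, RelProj.emb p chart V hV (ProjectiveSpectrum.comap (𝒮.res hV hD hle) iV y) =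
          RelProj.emb p chart D hD y := by
    rintro D hD ⟨s, rfl⟩ hle
    exact ⟨𝒮.irrelevant_le_map V hV s, fun y => congr($(RelProj.map_res_emb hP V hV s) y)⟩
  obtain ⟨iV, hiV⟩ := key _ hD ⟨r', hr'⟩ hVle
  exact ⟨_, hD, S.basicOpen_le r, hVle, 𝒮.irrelevant_le_map U hU r, iV, hz, ⟨r, rfl⟩, ⟨r', hr'⟩,
    fun y => ⟨congr($(RelProj.map_res_emb hP U hU r) y), hiV y⟩⟩

variable {n : ℤ} {L : P.Modules}
  {lam : ∀ (U : S.Opens) (hU : IsAffineOpen U),
    L ⟶ (Scheme.Modules.pushforward (RelProj.emb p chart U hU)).obj (GrTwist.twist (𝒮.deg U hU) n)}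
  (hL : RelProj.IsRelTwist 𝒮 p chart n L lam)

include hP hL in
/-- Change of chart for values. -/
theorem pv_transfer {U : S.Opens} (hU : IsAffineOpen U) {D : S.Opens} (hD : IsAffineOpen D)
    (h : ∃ r : Γ(S, U), S.basicOpen r = D) (hDU : D ≤ U)
    (iU : (𝒮.deg D hD)₊ ≤ ((𝒮.deg U hU)₊).map (𝒮.res hU hD hDU))
    {W : P.Opens} (s : Γ(L, W)) (y : ProjectiveSpectrum (𝒮.deg D hD))
    (hy : RelProj.emb p chart D hD y ∈ W) :
    ∃ hy', pv lam D hD s y hy = GrTwist.locMap (𝒮.res hU hD hDU) iU y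
      (pv lam U hU s (ProjectiveSpectrum.comap (𝒮.res hU hD hDU) iU y) hy') := by
  obtain ⟨hle, irr, hpt, hval⟩ := exists_basic lam hP hL U hU D hD h
  exact ⟨(hpt y).symm ▸ hy, hval W s y hy _⟩

include hL in
/-- A section with values `f ^ k` on the locus where `f` is invertible. -/
theorem exists_sec_powFrac (U : S.Opens) (hU : IsAffineOpen U) {d : ℕ}
    {f : 𝒮.presheaf.obj (op U)} (hf : f ∈ 𝒮.deg U hU d) {k : ℤ} (hk : n = k * d) :
    ∃ s : Γ(L, RelProj.emb p chart U hU ''ᵁ Proj.basicOpen (𝒮.deg U hU) f),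
      Gen L (RelProj.emb p chart U hU ''ᵁ Proj.basicOpen (𝒮.deg U hU) f) s ∧
      ∀ (y : ProjectiveSpectrum (𝒮.deg U hU))
        (hy : RelProj.emb p chart U hU y ∈ RelProj.emb p chart U hU ''ᵁ Proj.basicOpen (𝒮.deg U hU) f)
        (hfy : f ∉ y.asHomogeneousIdeal), pv lam U hU s y hy = powFrac y f hfy k := by
  have h1 : f ^ k.toNat ∈ 𝒮.deg U hU (k.toNat * d) := by simpa using SetLike.pow_mem_graded k.toNat hf
  have h2 : f ^ (-k).toNat ∈ 𝒮.deg U hU ((-k).toNat * d) := by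
    simpa using SetLike.pow_mem_graded (-k).toNat hf
  have hdeg : ((k.toNat * d : ℕ) : ℤ) = ((-k).toNat * d : ℕ) + n := by
    rw [hk, Nat.cast_mul, Nat.cast_mul, ← add_mul]
    congr 1
    omega
  have hne : ∀ (m : ℕ) (x : ProjectiveSpectrum (𝒮.deg U hU)), x ∈ Proj.basicOpen (𝒮.deg U hU) f →
      f ^ m ∉ x.asHomogeneousIdeal := fun m x hx h => hx (x.isPrime.mem_of_pow_mem _ h)
  obtain ⟨s, hs, hsg⟩ := exists_sec lam hL U hU (Proj.basicOpen (𝒮.deg U hU) f)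
    (frac h1 h2 hdeg _ (hne _))
  exact ⟨s, hsg (gen_frac h1 h2 _ _ (hne _) (hne _)), fun x hx hfx => hs x hx hfx⟩

theorem mem_image_iff (U : S.Opens) (hU : IsAffineOpen U) (V : (Proj (𝒮.deg U hU)).Opens)
    (y : ProjectiveSpectrum (𝒮.deg U hU)) :
    RelProj.emb p chart U hU y ∈ RelProj.emb p chart U hU ''ᵁ V ↔ y ∈ V := by
  refine ⟨?_, fun h => ⟨y, h, rfl⟩⟩
  rintro ⟨w, hw, e⟩
  exact (RelProj.emb p chart U hU).isOpenEmbedding.injective e ▸ hw

/-- The coefficient of a multiple is read off from values. -/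
theorem pv_smul_eq_iff {U : S.Opens} (hU : IsAffineOpen U) {W : P.Opens} {r : Γ(P, W)} {s : Γ(L, W)}
    {y : ProjectiveSpectrum (𝒮.deg U hU)} {hy : RelProj.emb p chart U hU y ∈ W}
    {q u : GrTwist.Loc (𝒮.deg U hU) y} (hu : IsUnit u) (hs : pv lam U hU s y hy = u)
    (h : pv lam U hU (r • s) y hy = q * u) :
    (((RelProj.emb p chart U hU).app W r).1 ⟨y, hy⟩).val = q := by
  rw [pv_smul, hs] at h
  exact hu.mul_left_injective h

theorem fun_ext_cover {W : P.Opens} {r r' : Γ(P, W)}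
    (h : ∀ z ∈ W, ∃ (D : S.Opens) (hD : IsAffineOpen D), p z ∈ D ∧
      ∀ (y : ProjectiveSpectrum (𝒮.deg D hD)) (hy : RelProj.emb p chart D hD y ∈ W),
        (((RelProj.emb p chart D hD).app W r).1 ⟨y, hy⟩).val =
          (((RelProj.emb p chart D hD).app W r').1 ⟨y, hy⟩).val) : r = r' := by
  choose D hD hzD hpv using h
  refine resX_ext (fun z : W => W ⊓ p ⁻¹ᵁ D z.1 z.2) (fun _ => inf_le_left)
    (fun z hz => Opens.mem_iSup.2 ⟨⟨z, hz⟩, hz, hzD z hz⟩) fun z => ?_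
  set j := RelProj.emb p chart (D z.1 z.2) (hD z.1 z.2)
  have hW : W ⊓ p ⁻¹ᵁ D z.1 z.2 ≤ j.opensRange := by
    rw [opensRange_emb]; exact inf_le_right
  haveI := j.isIso_app _ hW
  refine (ConcreteCategory.bijective_of_isIso (j.app (W ⊓ p ⁻¹ᵁ D z.1 z.2))).1 ?_
  refine fun_ext fun y hy => ?_
  have e : ∀ a : Γ(P, W), j.app _ (resX P (inf_le_left : W ⊓ p ⁻¹ᵁ D z.1 z.2 ≤ W) a) =
      resX (Proj (𝒮.deg (D z.1 z.2) (hD z.1 z.2))) (j.preimage_mono inf_le_left) (j.app W a) :=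
    fun a => congr($(j.naturality (homOfLE inf_le_left).op) a)
  rw [e, e]
  exact hpv z.1 z.2 y hy.1

end Groth.RelTw
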