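import Groth.Agent.RelTwist.Comap
import Groth.Agent.RelTwist.PowFrac
import Groth.Agent.PicAux.PushPull

/-!
# Inverse images of twisting sheaves along surjections of graded algebras
-/

universe u

open CategoryTheory CategoryTheory.Limits AlgebraicGeometry Opposite TopologicalSpace
open scoped HomogeneousIdeal

set_option backward.isDefEq.respectTransparency.types false

noncomputable section

namespace Groth.RelTw

open Groth.PicAux

variable {Y PA PB : Scheme.{u}} {𝒜 ℬ : RelProj.QCGrAlg Y}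
  (φ : 𝒜.toQCAlg ⟶ ℬ.toQCAlg) (hφ : RelProj.IsGradedHom φ) (hgen : 𝒜.IsGenDegOne)
  (hirr : ∀ (U : Y.Opens) (hU : IsAffineOpen U),
    (ℬ.deg U hU)₊ ≤ ((𝒜.deg U hU)₊).map (RelProj.gradedHomAt φ hφ U hU))
  {pA : PA ⟶ Y} {pB : PB ⟶ Y}
  {chartA : ∀ (U : Y.Opens) (hU : IsAffineOpen U), (((pA ⁻¹ᵁ U : PA.Opens) : Scheme.{u}) ≅ Proj (𝒜.deg U hU))}
  {chartB : ∀ (U : Y.Opens) (hU : IsAffineOpen U), (((pB ⁻¹ᵁ U : PB.Opens) : Scheme.{u}) ≅ Proj (ℬ.deg U hU))}
  (hA : RelProj.IsRelProj 𝒜 pA chartA) (hB : RelProj.IsRelProj ℬ pB chartB)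
  {h : PB ⟶ PA} (hh : RelProj.IsRelProjMap φ hφ hirr chartA chartB h) {n : ℤ}
  {LA : PA.Modules}
  {lamA : ∀ (U : Y.Opens) (hU : IsAffineOpen U),
    LA ⟶ (Scheme.Modules.pushforward (RelProj.emb pA chartA U hU)).obj (GrTwist.twist (𝒜.deg U hU) n)}
  (hLA : RelProj.IsRelTwist 𝒜 pA chartA n LA lamA)
  {LB : PB.Modules}
  {lamB : ∀ (U : Y.Opens) (hU : IsAffineOpen U),
    LB ⟶ (Scheme.Modules.pushforward (RelProj.emb pB chartB U hU)).obj (GrTwist.twist (ℬ.deg U hU) n)}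
  (hLB : RelProj.IsRelTwist ℬ pB chartB n LB lamB)

include hgen hA hB hh hLA hLB in
theorem nonempty_pullback_relTwist_iso : Nonempty ((Scheme.Modules.pullback h).obj LA ≅ LB) := by
  obtain ⟨θ, hθ, -⟩ := existsUnique_comap φ hφ hirr hA hB hh hLA hLB
  let a := ((Scheme.Modules.pullbackPushforwardAdjunction h).homEquiv LA LB).symm θ
  have ha : ∀ V s, a.app (h ⁻¹ᵁ V) (pullSec h LA s) = θ.app V s := fun V s => by
    have h0 : θ = (Scheme.Modules.pullbackPushforwardAdjunction h).unit.app LA ≫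
        (Scheme.Modules.pushforward h).map a :=
      ((Scheme.Modules.pullbackPushforwardAdjunction h).homEquiv LA LB).apply_symm_apply θ |>.symm.trans
        (Adjunction.homEquiv_unit _ LA LB a)
    conv_rhs => rw [h0]
    rfl
  let T := Σ U : {U : Y.Opens // IsAffineOpen U}, {f : 𝒜.presheaf.obj (op U.1) // f ∈ 𝒜.deg U.1 U.2 1}
  let WA : T → PA.Opens := fun i =>
    RelProj.emb pA chartA i.1.1 i.1.2 ''ᵁ Proj.basicOpen (𝒜.deg i.1.1 i.1.2) i.2.1
  choose s hgs hs using fun i : T => exists_sec_powFrac hLA i.1.1 i.1.2 i.2.2 (k := n) (by simp)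
  have hcov : iSup (fun i => h ⁻¹ᵁ WA i) = ⊤ := by
    refine eq_top_iff.2 fun z _ => ?_
    obtain ⟨U, hU, hzU, -⟩ :=
      exists_isAffineOpen_mem_and_subset (x := pA (h z)) (U := (⊤ : Y.Opens)) trivial
    obtain ⟨x, hx⟩ := exists_emb_eq (chart := chartA) U hU hzU
    obtain ⟨f, hf, hfx⟩ := exists_frac_cover (irrelevant_le_span_one hgen U hU) x
    exact Opens.mem_iSup.2 ⟨⟨⟨U, hU⟩, f, hf⟩, x, hfx, hx⟩
  haveI : IsIso a := by
    refine isIso_of_cover (U := fun i => h ⁻¹ᵁ WA i) hcov a fun i V hV =>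
      bijective_of_gen_map a ((hgs i).pull h) ?_ hV
    rw [ha]
    obtain ⟨⟨U, hU⟩, f, hf⟩ := i
    set f' := RelProj.gradedHomAt φ hφ U hU f
    obtain ⟨t, hgt, ht⟩ := exists_sec_powFrac hLB U hU (d := 1) (f := f')
      ((RelProj.gradedHomAt φ hφ U hU).map_mem hf) (k := n) (by simp)
    have hpre : ∀ z, h z ∈ WA ⟨⟨U, hU⟩, f, hf⟩ → z ∈ pB ⁻¹ᵁ U := fun z hz => by
      have : pA (h z) ∈ U := image_le U hU _ hz
      change pB z ∈ U
      rwa [← congr($(Groth.Ega2P2.relProjMap_comp_p φ hφ hirr hA hB h hh) z)]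
    have hle : h ⁻¹ᵁ WA ⟨⟨U, hU⟩, f, hf⟩ ≤
        RelProj.emb pB chartB U hU ''ᵁ Proj.basicOpen (ℬ.deg U hU) f' := fun z hz => by
      obtain ⟨y, rfl⟩ := exists_emb_eq (chart := chartB) U hU (hpre z hz)
      refine (mem_image_iff (chart := chartB) U hU _ y).2 ?_
      have := (map_embB φ hφ hirr hh U hU y) ▸ (show h (RelProj.emb pB chartB U hU y) ∈ WA ⟨⟨U, hU⟩, f, hf⟩ from hz)
      exact (mem_image_iff (chart := chartA) U hU _ _).1 this
    have e : res LB hle t = θ.app _ (s ⟨⟨U, hU⟩, f, hf⟩) := by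
      refine sec_ext lamB hLB hU (fun z hz => hpre z hz) fun y hy => ?_
      have hy' := (map_embB φ hφ hirr hh U hU y) ▸
        (show h (RelProj.emb pB chartB U hU y) ∈ WA ⟨⟨U, hU⟩, f, hf⟩ from hy)
      have hfy : f' ∉ y.asHomogeneousIdeal := (mem_image_iff (chart := chartB) U hU _ y).1 (hle hy)
      refine Eq.trans ?_ (hθ U hU _ (s ⟨⟨U, hU⟩, f, hf⟩) y hy hy').symm
      change pv lamB U hU (res LB hle t) y hy =
        GrTwist.locMap _ _ y (pv lamA U hU (s ⟨⟨U, hU⟩, f, hf⟩) _ hy')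
      rw [pv_res, ht y (hle hy) hfy, hs ⟨⟨U, hU⟩, f, hf⟩ _ hy' hfy]
      exact (locMap_powFrac (RelProj.gradedHomAt φ hφ U hU) (hirr U hU) y f hfy n rfl hfy).symm
    exact e ▸ hgt.res hle
  exact ⟨asIso a⟩

end Groth.RelTw
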