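import Groth.Agent.RelTwist.PowFrac
import Groth.Agent.SymAlg.Degree

/-!
# The projective bundle of a quasi-coherent module
-/

universe u

open CategoryTheory CategoryTheory.Limits AlgebraicGeometry Opposite TopologicalSpace
open scoped HomogeneousIdeal

set_option backward.isDefEq.respectTransparency.types false

noncomputable section

namespace Groth.RelTw

open Groth.PicAux

variable {S P : Scheme.{u}} {E : S.Modules} {𝒮 : RelProj.QCGrAlg S} {j : E ⟶ 𝒮.toModule}
  (hj : RelProj.IsGrSymAlg E 𝒮 j) {p : P ⟶ S}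
  {chart : ∀ (U : S.Opens) (hU : IsAffineOpen U), (((p ⁻¹ᵁ U : P.Opens) : Scheme.{u}) ≅ Proj (𝒮.deg U hU))}
  {O1 : P.Modules}
  {lam : ∀ (U : S.Opens) (hU : IsAffineOpen U),
    O1 ⟶ (Scheme.Modules.pushforward (RelProj.emb p chart U hU)).obj (GrTwist.twist (𝒮.deg U hU) 1)}
  (hO1 : RelProj.IsRelTwist 𝒮 p chart 1 O1 lam)
  {φ : E ⟶ (Scheme.Modules.pushforward p).obj O1}
  (hφ : ∀ (U : S.Opens) (hU : IsAffineOpen U) (e : Γ(E, U))
    (y : ↥(RelProj.emb p chart U hU ⁻¹ᵁ (p ⁻¹ᵁ U))),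
    GrTwist.val (V := RelProj.emb p chart U hU ⁻¹ᵁ (p ⁻¹ᵁ U))
        ((lam U hU).app (p ⁻¹ᵁ U) ((φ.app U) e)) y =
      algebraMap (𝒮.presheaf.obj (op U)) (GrTwist.Loc (𝒮.deg U hU) y.1)
        ((j.app U) e : 𝒮.presheaf.obj (op U)))

/-- A section of `E` as an element of the algebra. -/
abbrev jel (𝒮 : RelProj.QCGrAlg S) (j : E ⟶ 𝒮.toModule) (U : S.Opens) (e : Γ(E, U)) : 𝒮.presheaf.obj (op U) :=
  j.app U e

/-- The open `D₊(j e)` of the bundle. -/
abbrev dPlus (p : P ⟶ S)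
    (chart : ∀ (U : S.Opens) (hU : IsAffineOpen U), (((p ⁻¹ᵁ U : P.Opens) : Scheme.{u}) ≅ Proj (𝒮.deg U hU)))
    (j : E ⟶ 𝒮.toModule) (U : S.Opens) (hU : IsAffineOpen U) (e : Γ(E, U)) : P.Opens :=
  RelProj.emb p chart U hU ''ᵁ Proj.basicOpen (𝒮.deg U hU) (jel 𝒮 j U e)

include hO1 hφ hj in
/-- The image of `e` generates `O(1)` on `D₊(j e)`. -/
theorem gen_app (U : S.Opens) (hU : IsAffineOpen U) (e : Γ(E, U)) :
    Gen O1 (dPlus p chart j U hU e) (res O1 (image_le U hU _) (φ.app U e)) := by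
  obtain ⟨s, hgen, hs⟩ := exists_sec_powFrac hO1 U hU (hj.2 U hU e) (k := 1) (by simp)
  suffices s = res O1 (image_le U hU _) (φ.app U e) from this ▸ hgen
  refine sec_ext lam hO1 hU (image_le U hU _) fun y hy => ?_
  have hey : jel 𝒮 j U e ∉ y.asHomogeneousIdeal := (mem_image_iff (chart := chart) U hU _ y).1 hy
  rw [hs y hy hey, pv_res]
  refine Eq.trans ?_ (hφ U hU e ⟨y, image_le U hU _ hy⟩).symm
  change powFrac y (jel 𝒮 j U e) hey ((1 : ℕ) : ℤ) = algebraMap _ _ (jel 𝒮 j U e)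
  rw [powFrac_natCast, pow_one, Localization.mk_one_eq_algebraMap]

include hj in
theorem exists_mem_dPlus [E.IsQuasicoherent] (U : S.Opens) (hU : IsAffineOpen U) {z : P} (hz : p z ∈ U) :
    ∃ e : Γ(E, U), z ∈ dPlus p chart j U hU e := by
  obtain ⟨y, rfl⟩ := exists_emb_eq (chart := chart) U hU hz
  obtain ⟨e, he⟩ := Groth.SymAlg.exists_notMem hj hU y
  exact ⟨e, y, he, rfl⟩

include hj hO1 hφ in
theorem epi_adjoint [E.IsQuasicoherent] :
    Epi (((Scheme.Modules.pullbackPushforwardAdjunction p).homEquiv E O1).symm φ) := by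
  set a := ((Scheme.Modules.pullbackPushforwardAdjunction p).homEquiv E O1).symm φ
  have ha : φ = (Scheme.Modules.pullbackPushforwardAdjunction p).unit.app E ≫
      (Scheme.Modules.pushforward p).map a :=
    ((Scheme.Modules.pullbackPushforwardAdjunction p).homEquiv E O1).apply_symm_apply φ |>.symm.trans
      (Adjunction.homEquiv_unit _ E O1 a)
  have hae : ∀ U e, φ.app U e =
      a.app (p ⁻¹ᵁ U) (((Scheme.Modules.pullbackPushforwardAdjunction p).unit.app E).app U e) := fun U e => by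
    conv_lhs => rw [ha]
    rfl
  refine ⟨fun {N} g g' hgg => Scheme.Modules.hom_ext _ _ fun W => AddCommGrpCat.ext fun x => ?_⟩
  refine Groth.CohTwo.eq_of_local N _ _ fun z hz => ?_
  obtain ⟨U, hU, hzU, -⟩ := exists_isAffineOpen_mem_and_subset (x := p z) (U := (⊤ : S.Opens)) trivial
  obtain ⟨e, hze⟩ := exists_mem_dPlus (chart := chart) hj U hU hzU
  refine ⟨W ⊓ dPlus p chart j U hU e, inf_le_left, ⟨hz, hze⟩, ?_⟩
  change res N inf_le_left (g.app W x) = res N inf_le_left (g'.app W x)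
  obtain ⟨r, hr⟩ := (gen_app hj hO1 hφ U hU e _ (inf_le_right (a := W))).2 (res O1 inf_le_left x)
  rw [← app_res, ← app_res, ← hr, Scheme.Modules.Hom.app_smul, Scheme.Modules.Hom.app_smul, app_res, app_res, app_res, app_res, hae]
  exact congrArg (fun v => r • res N inf_le_right (res N (image_le U hU _) v))
    (congr(($hgg).app (p ⁻¹ᵁ U) _))

end Groth.RelTw
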