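import Groth.Agent.RelTwist.PowFrac
import Groth.Agent.PicAux.Tensor
import Groth.Agent.PropsBasic.AmpleSec
import Groth.Agent.Chow.AmpleComp

/-!
# Invertibility, tensor products and loci of relative twisting sheaves
-/

universe u

open CategoryTheory CategoryTheory.Limits AlgebraicGeometry Opposite TopologicalSpace
open scoped HomogeneousIdeal

set_option backward.isDefEq.respectTransparency.types false

namespace Groth.RelTw

open Groth.PicAux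

theorem gen_restrict_image {X : Scheme.{u}} {M : X.Modules} (U : X.Opens)
    {W : (U : Scheme.{u}).Opens} {s : Γ(M, U.ι ''ᵁ W)} (hs : Gen M (U.ι ''ᵁ W) s) :
    Gen (M.restrict U.ι) W s := by
  intro W' hW'
  exact (congrArg Function.Bijective (funext fun r => restrict_smul U W' r _)).mpr
    (hs _ (U.ι.image_mono hW'))

theorem image_ι_chart {S P : Scheme.{u}} {𝒮 : RelProj.QCGrAlg S} {p : P ⟶ S}
    (chart : ∀ (U : S.Opens) (hU : IsAffineOpen U), (((p ⁻¹ᵁ U : P.Opens) : Scheme.{u}) ≅ Proj (𝒮.deg U hU)))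
    (U : S.Opens) (hU : IsAffineOpen U) (V : (Proj (𝒮.deg U hU)).Opens) :
    (p ⁻¹ᵁ U).ι ''ᵁ ((chart U hU).hom ⁻¹ᵁ V) = RelProj.emb p chart U hU ''ᵁ V := by
  have e1 : ∀ w, RelProj.emb p chart U hU ((chart U hU).hom w) = (p ⁻¹ᵁ U).ι w := fun w =>
    congr($(Iso.hom_inv_id_assoc (chart U hU) (p ⁻¹ᵁ U).ι) w)
  refine Opens.ext (Set.ext fun z => ⟨?_, ?_⟩)
  · rintro ⟨w, hw, rfl⟩
    exact ⟨(chart U hU).hom w, hw, e1 w⟩
  · rintro ⟨y, hy, rfl⟩
    obtain ⟨w, rfl⟩ := (chart U hU).hom.homeomorph.surjective y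
    exact ⟨w, hy, (e1 w).symm⟩

variable {S P : Scheme.{u}} {𝒮 : RelProj.QCGrAlg S} {p : P ⟶ S}
  {chart : ∀ (U : S.Opens) (hU : IsAffineOpen U), (((p ⁻¹ᵁ U : P.Opens) : Scheme.{u}) ≅ Proj (𝒮.deg U hU))}
  (hP : RelProj.IsRelProj 𝒮 p chart) {n : ℤ} {L : P.Modules}
  {lam : ∀ (U : S.Opens) (hU : IsAffineOpen U),
    L ⟶ (Scheme.Modules.pushforward (RelProj.emb p chart U hU)).obj (GrTwist.twist (𝒮.deg U hU) n)}
  (hL : RelProj.IsRelTwist 𝒮 p chart n L lam)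

section global

variable {d : ℕ} (f : 𝒮.presheaf.obj (op ⊤))
  (hf : ∀ (U : S.Opens) (hU : IsAffineOpen U), (𝒮.presheaf.map (homOfLE le_top).op).hom f ∈ 𝒮.deg U hU d)
  {Xf : P.Opens}
  (hXf : ∀ (U : S.Opens) (hU : IsAffineOpen U),
    Xf ⊓ p ⁻¹ᵁ U =
      (p ⁻¹ᵁ U).ι ''ᵁ ((chart U hU).hom ⁻¹ᵁ
        Proj.basicOpen (𝒮.deg U hU) ((𝒮.presheaf.map (homOfLE le_top).op).hom f)))

include hXf in
theorem mem_Xf_iff (U : S.Opens) (hU : IsAffineOpen U) (y : ProjectiveSpectrum (𝒮.deg U hU)) :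
    RelProj.emb p chart U hU y ∈ Xf ↔
      (𝒮.presheaf.map (homOfLE le_top).op).hom f ∉ y.asHomogeneousIdeal := by
  have h := (hXf U hU).trans (image_ι_chart chart U hU _)
  constructor
  · intro hy
    exact (mem_image_iff U hU _ y).1 (h.le ⟨hy, p_emb_mem U hU y⟩)
  · intro hy
    exact (h.ge ((mem_image_iff (chart := chart) U hU _ y).2 hy)).1

include hP hL hf hXf in
theorem exists_gen_Xf {k : ℤ} (hk : n = k * d) : ∃ t : Γ(L, Xf), Gen L Xf t := by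
  let T := {U : S.Opens // IsAffineOpen U}
  let F : ∀ i : T, 𝒮.presheaf.obj (op i.1) := fun i => (𝒮.presheaf.map (homOfLE le_top).op).hom f
  choose s hsg hsv using fun i : T => exists_sec_powFrac hL i.1 i.2 (hf i.1 i.2) hk
  let W : T → P.Opens := fun i => Xf ⊓ p ⁻¹ᵁ i.1
  have hW : ∀ i : T, W i ≤ RelProj.emb p chart i.1 i.2 ''ᵁ Proj.basicOpen (𝒮.deg i.1 i.2) (F i) :=
    fun i => ((hXf i.1 i.2).trans (image_ι_chart chart i.1 i.2 _)).le
  have hcov : Xf ≤ iSup W := fun z hz => by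
    obtain ⟨U, hU, hzU, -⟩ := exists_isAffineOpen_mem_and_subset (x := p z) (U := (⊤ : S.Opens)) trivial
    exact Opens.mem_iSup.2 ⟨⟨U, hU⟩, hz, hzU⟩
  obtain ⟨t, ht, -⟩ := res_glue (M := L) W (fun _ => inf_le_left) hcov
    (fun i => res L (hW i) (s i)) (fun i j => by
      refine sec_ext_cover lam hL fun z hz => ?_
      obtain ⟨D, hD, hDi, hDj, ii, ij, hzD, hri, hrj, hpt⟩ :=
        exists_chart_overlap hP i.2 j.2 hz.1.2 hz.2.2
      refine ⟨D, hD, hzD, fun y hy => ?_⟩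
      rw [res_res, res_res, pv_res, pv_res]
      obtain ⟨h1, e1⟩ := pv_transfer hP hL i.2 hD hri hDi ii (s i) y ((inf_le_left.trans (hW i)) hy)
      obtain ⟨h2, e2⟩ := pv_transfer hP hL j.2 hD hrj hDj ij (s j) y ((inf_le_right.trans (hW j)) hy)
      have hfD : (𝒮.presheaf.map (homOfLE le_top).op).hom f ∉ y.asHomogeneousIdeal :=
        (mem_Xf_iff f hXf D hD y).1 hy.1.1
      have hfi : F i ∉ (ProjectiveSpectrum.comap (𝒮.res i.2 hD hDi) ii y).asHomogeneousIdeal :=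
        (mem_image_iff i.1 i.2 _ _).1 h1
      have hfj : F j ∉ (ProjectiveSpectrum.comap (𝒮.res j.2 hD hDj) ij y).asHomogeneousIdeal :=
        (mem_image_iff j.1 j.2 _ _).1 h2
      rw [e1, e2, hsv i _ h1 hfi, hsv j _ h2 hfj,
        locMap_powFrac (𝒮.res i.2 hD hDi) ii y (F i) hfi k (presheaf_map_map le_top hDi f) hfD,
        locMap_powFrac (𝒮.res j.2 hD hDj) ij y (F j) hfj k (presheaf_map_map le_top hDj f) hfD])
  refine ⟨t, Gen.of_cover W (fun _ => inf_le_left) hcov fun i => ?_⟩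
  rw [ht i]
  exact (hsg i).res (hW i)

include hP hL hf hXf in
theorem nonempty_restrict_iso_structure {k : ℤ} (hk : n = k * d) :
    Nonempty (L.restrict Xf.ι ≅ Coh.structureModule (Xf : Scheme.{u})) := by
  obtain ⟨t, ht⟩ := exists_gen_Xf hP hL f hf hXf hk
  let t' : Γ(L.restrict Xf.ι, ⊤) := res L Xf.ι_image_top.le t
  have ht' : Gen (L.restrict Xf.ι) ⊤ t' := gen_restrict_image Xf (ht.res Xf.ι_image_top.le)
  have : IsIso (homOfSection t') := by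
    rw [isIso_hom_structure_iff, homOfSection_one]
    exact ht'
  exact ⟨(asIso (homOfSection t')).symm⟩

include hP hL hf hXf in
theorem eq_genLocus (hgen : 𝒮.IsGenDegOne) (hn : n = (d : ℤ)) (s : Coh.structureModule P ⟶ L)
    (hs : ∀ (U : S.Opens) (hU : IsAffineOpen U) (y : ProjectiveSpectrum (𝒮.deg U hU)),
      pv lam U hU (gsec s) y (Opens.mem_top _) =
        (Localization.mk ((𝒮.presheaf.map (homOfLE le_top).op).hom f) 1 : GrTwist.Loc (𝒮.deg U hU) y)) :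
    Xf = CohB1.genLocus L s := by
  rw [Groth.PropsBasic.Ample.genLocus_eq_gloc]
  refine Opens.ext (Set.ext fun z => ?_)
  obtain ⟨U, hU, hzU, -⟩ := exists_isAffineOpen_mem_and_subset (x := p z) (U := (⊤ : S.Opens)) trivial
  obtain ⟨y, rfl⟩ := exists_emb_eq (chart := chart) U hU hzU
  obtain ⟨g, hg, hgy⟩ := exists_frac_cover (irrelevant_le_span_one hgen U hU) y
  obtain ⟨e, he, hev⟩ := exists_sec_powFrac hL U hU hg (k := (d : ℤ)) (by rw [hn]; simp)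
  let V := RelProj.emb p chart U hU ''ᵁ Proj.basicOpen (𝒮.deg U hU) g
  have hyV : RelProj.emb p chart U hU y ∈ V := ⟨y, hgy, rfl⟩
  obtain ⟨c, hc⟩ := he.exists_coeff le_rfl (res L (le_top : V ≤ ⊤) (gsec s))
  rw [res_self] at hc
  have hg' : g ^ d ∉ y.asHomogeneousIdeal := fun h => hgy (y.isPrime.mem_of_pow_mem _ h)
  have hcv : (((RelProj.emb p chart U hU).app V c).1 ⟨y, hyV⟩).val =
      (Localization.mk ((𝒮.presheaf.map (homOfLE le_top).op).hom f) ⟨g ^ d, hg'⟩ :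
        GrTwist.Loc (𝒮.deg U hU) y) := by
    refine pv_smul_eq_iff (lam := lam) hU (isUnit_powFrac y g hgy (d : ℤ)) (hev y hyV hgy) ?_
    rw [← hc, pv_res, hs U hU y, powFrac_natCast, Localization.mk_mul]
    refine (loc_mk_eq).mpr ⟨1, ?_⟩
    simp only [one_smul, Submonoid.smul_def, Submonoid.coe_mul, smul_eq_mul, Submonoid.coe_one, mul_one]
    ring
  have h2 := Groth.PropsBasic.Ample.gloc_inf_eq_basicOpen he hc
  change RelProj.emb p chart U hU y ∈ Xf ↔ RelProj.emb p chart U hU y ∈ _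
  rw [mem_Xf_iff f hXf U hU y]
  have h3 : RelProj.emb p chart U hU y ∈ P.basicOpen c ↔
      (𝒮.presheaf.map (homOfLE le_top).op).hom f ∉ y.asHomogeneousIdeal := by
    change y ∈ RelProj.emb p chart U hU ⁻¹ᵁ P.basicOpen c ↔ _
    rw [Scheme.preimage_basicOpen]
    exact mem_basicOpen_iff_of_frac (𝒮.deg U hU) _ hyV hcv
  exact ⟨fun h => (h2.ge (h3.2 h)).1, fun h => h3.1 (h2.le ⟨h, hyV⟩)⟩

end global

theorem exists_period (U : P.Opens) (hU : IsCompact (U : Set P)) :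
    ∃ d : ℕ, 0 < d ∧ ∀ (m : ℤ), (d : ℤ) ∣ m → ∀ (M : P.Modules)
      (μ : ∀ (V : S.Opens) (hV : IsAffineOpen V),
        M ⟶ (Scheme.Modules.pushforward (RelProj.emb p chart V hV)).obj (GrTwist.twist (𝒮.deg V hV) m)),
      RelProj.IsRelTwist 𝒮 p chart m M μ → PicF.IsInvertible (M.restrict U.ι) := by
  classical
  have key : ∀ z : P, ∃ (V : S.Opens) (hV : IsAffineOpen V) (d : ℕ) (f : 𝒮.presheaf.obj (op V)),
      0 < d ∧ f ∈ 𝒮.deg V hV d ∧
      z ∈ RelProj.emb p chart V hV ''ᵁ Proj.basicOpen (𝒮.deg V hV) f := by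
    intro z
    obtain ⟨V, hV, hzV, -⟩ := exists_isAffineOpen_mem_and_subset (x := p z) (U := (⊤ : S.Opens)) trivial
    obtain ⟨y, rfl⟩ := exists_emb_eq (chart := chart) V hV hzV
    obtain ⟨d, f, hd, hf, hfy⟩ := exists_pos_notMem (𝒮.deg V hV) y
    exact ⟨V, hV, d, f, hd, hf, ⟨y, hfy, rfl⟩⟩
  choose V hV d f hd hf hz using key
  obtain ⟨T, hT⟩ := hU.elim_finite_subcover
    (fun z => ((RelProj.emb p chart (V z) (hV z) ''ᵁ Proj.basicOpen (𝒮.deg (V z) (hV z)) (f z) : P.Opens) : Set P))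
    (fun z => Opens.isOpen _) (fun z _ => Set.mem_iUnion.2 ⟨z, hz z⟩)
  refine ⟨∏ z ∈ T, d z, Finset.prod_pos fun z _ => hd z, fun m hm M μ hM => ?_⟩
  rw [isInvertible_iff_exists_gen]
  intro w
  obtain ⟨z, hzT, hwz⟩ := Set.mem_iUnion₂.1 (hT w.2)
  obtain ⟨k, hk⟩ : (d z : ℤ) ∣ m :=
    (Int.natCast_dvd_natCast.2 (Finset.dvd_prod_of_mem d hzT)).trans hm
  obtain ⟨s, hs, -⟩ := exists_sec_powFrac hM (V z) (hV z) (hf z) (k := k) (by rw [hk, mul_comm])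
  exact ⟨U.ι ⁻¹ᵁ (RelProj.emb p chart (V z) (hV z) ''ᵁ Proj.basicOpen (𝒮.deg (V z) (hV z)) (f z)), _,
    hwz, gen_restrict_image U (hs.res (U.ι.image_preimage_le _))⟩

include hP hL in
/-- Values of the coefficient between two powers, in a common chart. -/
theorem coeff_powFrac {U₁ U₂ D : S.Opens} (h₁ : IsAffineOpen U₁) (h₂ : IsAffineOpen U₂)
    (hD : IsAffineOpen D) (r₁ : ∃ r : Γ(S, U₁), S.basicOpen r = D)
    (r₂ : ∃ r : Γ(S, U₂), S.basicOpen r = D) (l₁ : D ≤ U₁) (l₂ : D ≤ U₂)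
    (i₁ : (𝒮.deg D hD)₊ ≤ ((𝒮.deg U₁ h₁)₊).map (𝒮.res h₁ hD l₁))
    (i₂ : (𝒮.deg D hD)₊ ≤ ((𝒮.deg U₂ h₂)₊).map (𝒮.res h₂ hD l₂))
    {f₁ : 𝒮.presheaf.obj (op U₁)} {f₂ : 𝒮.presheaf.obj (op U₂)} {W W₁ W₂ : P.Opens}
    (w₁ : W ≤ W₁) (w₂ : W ≤ W₂) {e₁ : Γ(L, W₁)} {e₂ : Γ(L, W₂)} {k : ℤ}
    (v₁ : ∀ y hy (hfy : f₁ ∉ y.asHomogeneousIdeal), pv lam U₁ h₁ e₁ y hy = powFrac y f₁ hfy k)
    (v₂ : ∀ y hy (hfy : f₂ ∉ y.asHomogeneousIdeal), pv lam U₂ h₂ e₂ y hy = powFrac y f₂ hfy k)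
    {γ : Γ(P, W)} (hγ : res L w₁ e₁ = γ • res L w₂ e₂)
    (y : ProjectiveSpectrum (𝒮.deg D hD)) (hy : RelProj.emb p chart D hD y ∈ W)
    (hy₁ : 𝒮.res h₁ hD l₁ f₁ ∉ y.asHomogeneousIdeal) (hy₂ : 𝒮.res h₂ hD l₂ f₂ ∉ y.asHomogeneousIdeal) :
    (((RelProj.emb p chart D hD).app W γ).1 ⟨y, hy⟩).val * powFrac y _ hy₂ k = powFrac y _ hy₁ k := by
  obtain ⟨x₁, e1⟩ := pv_transfer hP hL h₁ hD r₁ l₁ i₁ e₁ y (w₁ hy)
  obtain ⟨x₂, e2⟩ := pv_transfer hP hL h₂ hD r₂ l₂ i₂ e₂ y (w₂ hy)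
  have h3 := congrArg (fun t => pv lam D hD t y hy) hγ
  simp only [pv_smul, pv_res] at h3
  rw [e1, e2, v₁ _ x₁ hy₁, v₂ _ x₂ hy₂,
    locMap_powFrac (𝒮.res h₁ hD l₁) i₁ y _ hy₁ k rfl hy₁,
    locMap_powFrac (𝒮.res h₂ hD l₂) i₂ y _ hy₂ k rfl hy₂] at h3
  exact h3.symm

theorem app_mul_val {D : S.Opens} (hD : IsAffineOpen D) {W : P.Opens} (α β : Γ(P, W))
    (y : ProjectiveSpectrum (𝒮.deg D hD)) (hy : RelProj.emb p chart D hD y ∈ W) :
    (((RelProj.emb p chart D hD).app W (α * β)).1 ⟨y, hy⟩).val =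
      (((RelProj.emb p chart D hD).app W α).1 ⟨y, hy⟩).val *
        (((RelProj.emb p chart D hD).app W β).1 ⟨y, hy⟩).val := by
  rw [map_mul]
  exact HomogeneousLocalization.val_mul _ _

include hP in
theorem nonempty_tensor_iso (hgen : 𝒮.IsGenDegOne) {m m' : ℤ}
    {A : P.Modules} {lA : ∀ (U : S.Opens) (hU : IsAffineOpen U),
      A ⟶ (Scheme.Modules.pushforward (RelProj.emb p chart U hU)).obj (GrTwist.twist (𝒮.deg U hU) m)}
    (hA : RelProj.IsRelTwist 𝒮 p chart m A lA)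
    {B : P.Modules} {lB : ∀ (U : S.Opens) (hU : IsAffineOpen U),
      B ⟶ (Scheme.Modules.pushforward (RelProj.emb p chart U hU)).obj (GrTwist.twist (𝒮.deg U hU) m')}
    (hB : RelProj.IsRelTwist 𝒮 p chart m' B lB)
    {C : P.Modules} {lC : ∀ (U : S.Opens) (hU : IsAffineOpen U),
      C ⟶ (Scheme.Modules.pushforward (RelProj.emb p chart U hU)).obj (GrTwist.twist (𝒮.deg U hU) (m + m'))}
    (hC : RelProj.IsRelTwist 𝒮 p chart (m + m') C lC) :
    Nonempty (CohB1.tensorMod A B ≅ C) := by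
  let ι := Σ' (U : S.Opens) (hU : IsAffineOpen U) (g : 𝒮.presheaf.obj (op U)), g ∈ 𝒮.deg U hU 1
  let O : ι → P.Opens := fun i => RelProj.emb p chart i.1 i.2.1 ''ᵁ Proj.basicOpen (𝒮.deg i.1 i.2.1) i.2.2.1
  choose a ha hav using fun i : ι => exists_sec_powFrac hA i.1 i.2.1 i.2.2.2 (k := m) (by simp)
  choose b hb hbv using fun i : ι => exists_sec_powFrac hB i.1 i.2.1 i.2.2.2 (k := m') (by simp)
  choose c hc hcv using fun i : ι => exists_sec_powFrac hC i.1 i.2.1 i.2.2.2 (k := m + m') (by simp)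
  have hcov : iSup O = ⊤ := by
    refine eq_top_iff.2 fun z _ => ?_
    obtain ⟨U, hU, hzU, -⟩ := exists_isAffineOpen_mem_and_subset (x := p z) (U := (⊤ : S.Opens)) trivial
    obtain ⟨y, rfl⟩ := exists_emb_eq (chart := chart) U hU hzU
    obtain ⟨g, hg, hgy⟩ := exists_frac_cover (irrelevant_le_span_one hgen U hU) y
    exact Opens.mem_iSup.2 ⟨⟨U, hU, g, hg⟩, ⟨y, hgy, rfl⟩⟩
  obtain ⟨φ, -⟩ := exists_iso_of_gen hcov c hc (fun i => tmulSec (a i) (b i))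
    (fun i => (ha i).tensor (hb i)) (fun i j r hr => by
      obtain ⟨α, hα⟩ := (ha j).exists_coeff (inf_le_right : O i ⊓ O j ≤ O j)
        (res A (inf_le_left : O i ⊓ O j ≤ O i) (a i))
      obtain ⟨β, hβ⟩ := (hb j).exists_coeff (inf_le_right : O i ⊓ O j ≤ O j)
        (res B (inf_le_left : O i ⊓ O j ≤ O i) (b i))
      rw [res_tmulSec, res_tmulSec, hα, hβ, tmulSec_smul_left, tmulSec_smul_right, ← mul_smul]
      congr 1
      refine fun_ext_cover (chart := chart) fun z hz => ?_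
      obtain ⟨D, hD, hDi, hDj, ii, ij, hzD, hri, hrj, hpt⟩ := exists_chart_overlap hP i.2.1 j.2.1
        (image_le i.1 i.2.1 _ hz.1) (image_le j.1 j.2.1 _ hz.2)
      refine ⟨D, hD, hzD, fun y hy => ?_⟩
      have hyi : i.2.2.1 ∉ (ProjectiveSpectrum.comap (𝒮.res i.2.1 hD hDi) ii y).asHomogeneousIdeal :=
        (mem_image_iff i.1 i.2.1 _ _).1 ((hpt y).1.symm ▸ hy.1)
      have hyj : j.2.2.1 ∉ (ProjectiveSpectrum.comap (𝒮.res j.2.1 hD hDj) ij y).asHomogeneousIdeal :=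
        (mem_image_iff j.1 j.2.1 _ _).1 ((hpt y).2.symm ▸ hy.2)
      have hψi : 𝒮.res i.2.1 hD hDi i.2.2.1 ∉ y.asHomogeneousIdeal := hyi
      have hψj : 𝒮.res j.2.1 hD hDj j.2.2.1 ∉ y.asHomogeneousIdeal := hyj
      have eα := coeff_powFrac hP hA i.2.1 j.2.1 hD hri hrj hDi hDj ii ij inf_le_left inf_le_right
        (hav i) (hav j) hα y hy hψi hψj
      have eβ := coeff_powFrac hP hB i.2.1 j.2.1 hD hri hrj hDi hDj ii ij inf_le_left inf_le_right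
        (hbv i) (hbv j) hβ y hy hψi hψj
      have eγ := coeff_powFrac hP hC i.2.1 j.2.1 hD hri hrj hDi hDj ii ij inf_le_left inf_le_right
        (hcv i) (hcv j) hr y hy hψi hψj
      refine (isUnit_powFrac y _ hψj (m + m')).mul_left_injective ?_
      refine Eq.trans ?_ eγ.symm
      rw [app_mul_val hD α β y hy, powFrac_add, powFrac_add, ← eα, ← eβ]
      ring)
  exact ⟨φ.symm⟩

end Groth.RelTw
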