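import Groth.Agent.RelTwist.Exist
import Groth.Agent.Ega2Proj2.RelProjMap

/-!
# Functoriality of the relative twisting sheaves
-/

universe u

open CategoryTheory CategoryTheory.Limits AlgebraicGeometry Opposite TopologicalSpace
open scoped HomogeneousIdeal

set_option backward.isDefEq.respectTransparency.types false

noncomputable section

namespace Groth.RelTw

open Groth.PicAux

section locmap

variable {A σ B τ C ρ : Type u} [CommRing A] [SetLike σ A] [AddSubgroupClass σ A] {𝒜 : ℕ → σ} [GradedRing 𝒜]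
  [CommRing B] [SetLike τ B] [AddSubgroupClass τ B] {ℬ : ℕ → τ} [GradedRing ℬ]
  [CommRing C] [SetLike ρ C] [AddSubgroupClass ρ C] {𝒞 : ℕ → ρ} [GradedRing 𝒞]

/-- The map of local rings along a homomorphism of rings. -/
def Lmap (f : A →+* C) {x : ProjectiveSpectrum 𝒜} {z : ProjectiveSpectrum 𝒞}
    (h : x.asHomogeneousIdeal.toIdeal = z.asHomogeneousIdeal.toIdeal.comap f) :
    GrTwist.Loc 𝒜 x →+* GrTwist.Loc 𝒞 z :=
  haveI := x.isPrime
  haveI := z.isPrime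
  Localization.localRingHom _ _ f h

theorem locMap_locMap (ψ : 𝒜 →+*ᵍ ℬ) (hψ : HomogeneousIdeal.irrelevant ℬ ≤ (HomogeneousIdeal.irrelevant 𝒜).map ψ)
    (χ : ℬ →+*ᵍ 𝒞) (hχ : HomogeneousIdeal.irrelevant 𝒞 ≤ (HomogeneousIdeal.irrelevant ℬ).map χ)
    (z : ProjectiveSpectrum 𝒞) (q : GrTwist.Loc 𝒜 (ProjectiveSpectrum.comap ψ hψ (ProjectiveSpectrum.comap χ hχ z))) :
    GrTwist.locMap χ hχ z (GrTwist.locMap ψ hψ (ProjectiveSpectrum.comap χ hχ z) q) =
      Lmap (χ.toRingHom.comp ψ.toRingHom) rfl q := by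
  induction q using Localization.induction_on with
  | H p =>
    obtain ⟨a, s⟩ := p
    rw [GrTwist.locMap_mk, GrTwist.locMap_mk, Lmap, Localization.mk_eq_mk', Localization.mk_eq_mk']
    exact (Localization.localRingHom_mk' _ _ (χ.toRingHom.comp ψ.toRingHom) _ a s).symm

theorem Lmap_congr {f f' : A →+* C} (e : f = f') {x x' : ProjectiveSpectrum 𝒜} (ex : x = x')
    {z : ProjectiveSpectrum 𝒞} (h : x.asHomogeneousIdeal.toIdeal = z.asHomogeneousIdeal.toIdeal.comap f)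
    (h' : x'.asHomogeneousIdeal.toIdeal = z.asHomogeneousIdeal.toIdeal.comap f')
    {Q : ProjectiveSpectrum 𝒜 → Prop} (v : ∀ x, Q x → GrTwist.Loc 𝒜 x) (hx : Q x) (hx' : Q x') :
    Lmap f h (v x hx) = Lmap f' h' (v x' hx') := by
  subst e ex
  rfl

end locmap

variable {Y PA PB : Scheme.{u}} {𝒜 ℬ : RelProj.QCGrAlg Y}
  (φ : 𝒜.toQCAlg ⟶ ℬ.toQCAlg) (hφ : RelProj.IsGradedHom φ)
  (hirr : ∀ (U : Y.Opens) (hU : IsAffineOpen U),
    (ℬ.deg U hU)₊ ≤ ((𝒜.deg U hU)₊).map (RelProj.gradedHomAt φ hφ U hU))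
  {pA : PA ⟶ Y} {pB : PB ⟶ Y}
  {chartA : ∀ (U : Y.Opens) (hU : IsAffineOpen U), (((pA ⁻¹ᵁ U : PA.Opens) : Scheme.{u}) ≅ Proj (𝒜.deg U hU))}
  {chartB : ∀ (U : Y.Opens) (hU : IsAffineOpen U), (((pB ⁻¹ᵁ U : PB.Opens) : Scheme.{u}) ≅ Proj (ℬ.deg U hU))}
  (hA : RelProj.IsRelProj 𝒜 pA chartA) (hB : RelProj.IsRelProj ℬ pB chartB)
  {h : PB ⟶ PA} (hh : RelProj.IsRelProjMap φ hφ hirr chartA chartB h) {n : ℤ}
  {LA : PA.Modules}
  {lamA : ∀ (U : Y.Opens) (hU : IsAffineOpen U),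
    LA ⟶ (Scheme.Modules.pushforward (RelProj.emb pA chartA U hU)).obj (GrTwist.twist (𝒜.deg U hU) n)}
  (hLA : RelProj.IsRelTwist 𝒜 pA chartA n LA lamA)
  {LB : PB.Modules}
  {lamB : ∀ (U : Y.Opens) (hU : IsAffineOpen U),
    LB ⟶ (Scheme.Modules.pushforward (RelProj.emb pB chartB U hU)).obj (GrTwist.twist (ℬ.deg U hU) n)}
  (hLB : RelProj.IsRelTwist ℬ pB chartB n LB lamB)

include hh in
theorem map_embB (U : Y.Opens) (hU : IsAffineOpen U) (y : ProjectiveSpectrum (ℬ.deg U hU)) :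
    h (RelProj.emb pB chartB U hU y) =
      RelProj.emb pA chartA U hU (ProjectiveSpectrum.comap (RelProj.gradedHomAt φ hφ U hU) (hirr U hU) y) :=
  congr($((Groth.Ega2P2.isRelProjMap_iff φ hφ hirr h).1 hh U hU) y)

variable (lamA lamB) in
/-- `t` has the values of the image of `s`. -/
def IsImg {W : PA.Opens} (s : Γ(LA, W)) {W' : PB.Opens} (t : Γ(LB, W')) : Prop :=
  ∀ (U : Y.Opens) (hU : IsAffineOpen U) (y : ProjectiveSpectrum (ℬ.deg U hU))
    (hy : RelProj.emb pB chartB U hU y ∈ W')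
    (hy' : RelProj.emb pA chartA U hU
      (ProjectiveSpectrum.comap (RelProj.gradedHomAt φ hφ U hU) (hirr U hU) y) ∈ W),
    pv lamB U hU t y hy = GrTwist.locMap (RelProj.gradedHomAt φ hφ U hU) (hirr U hU) y
      (pv lamA U hU s _ hy')

include hA hB hLA hLB hh in
theorem IsImg.unique {W : PA.Opens} {s : Γ(LA, W)} {t t' : Γ(LB, h ⁻¹ᵁ W)}
    (ht : IsImg φ hφ hirr lamA lamB s t) (ht' : IsImg φ hφ hirr lamA lamB s t') : t = t' := by
  refine sec_ext_cover lamB hLB fun z hz => ?_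
  obtain ⟨U, hU, hzU, -⟩ := exists_isAffineOpen_mem_and_subset (x := pB z) (U := (⊤ : Y.Opens)) trivial
  refine ⟨U, hU, hzU, fun y hy => ?_⟩
  have hy' := (map_embB φ hφ hirr hh U hU y) ▸ (show h (RelProj.emb pB chartB U hU y) ∈ W from hy)
  exact (ht U hU y hy hy').trans (ht' U hU y hy hy').symm

include hA hB hLA hLB hh in
theorem transfer {U V : Y.Opens} (hU : IsAffineOpen U) (hV : IsAffineOpen V) {W : PA.Opens} (s : Γ(LA, W))
    {W' : PB.Opens} (t : Γ(LB, W')) (hW' : W' ≤ h ⁻¹ᵁ W)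
    (htU : ∀ (y : ProjectiveSpectrum (ℬ.deg U hU)) (hy : RelProj.emb pB chartB U hU y ∈ W')
      (hy' : RelProj.emb pA chartA U hU
        (ProjectiveSpectrum.comap (RelProj.gradedHomAt φ hφ U hU) (hirr U hU) y) ∈ W),
      pv lamB U hU t y hy = GrTwist.locMap (RelProj.gradedHomAt φ hφ U hU) (hirr U hU) y
        (pv lamA U hU s _ hy'))
    {D : Y.Opens} (hD : IsAffineOpen D) (hr : ∃ r : Γ(Y, U), Y.basicOpen r = D)
    (y : ProjectiveSpectrum (ℬ.deg D hD)) (hy : RelProj.emb pB chartB D hD y ∈ W')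
    (hy' : RelProj.emb pA chartA D hD
      (ProjectiveSpectrum.comap (RelProj.gradedHomAt φ hφ D hD) (hirr D hD) y) ∈ W) :
    pv lamB D hD t y hy = GrTwist.locMap (RelProj.gradedHomAt φ hφ D hD) (hirr D hD) y
      (pv lamA D hD s _ hy') := by
  obtain ⟨hle, iB, hptB, hvalB⟩ := exists_basic lamB hB hLB U hU D hD hr
  obtain ⟨hle', iA, hptA, hvalA⟩ := exists_basic lamA hA hLA U hU D hD hr
  have hy1 : RelProj.emb pB chartB U hU (ProjectiveSpectrum.comap (ℬ.res hU hD hle) iB y) ∈ W' :=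
    (hptB y).symm ▸ hy
  have hy2 := (map_embB φ hφ hirr hh U hU _) ▸
    (show h (RelProj.emb pB chartB U hU (ProjectiveSpectrum.comap (ℬ.res hU hD hle) iB y)) ∈ W from hW' hy1)
  have hy3 : RelProj.emb pA chartA U hU (ProjectiveSpectrum.comap (𝒜.res hU hD hle') iA
      (ProjectiveSpectrum.comap (RelProj.gradedHomAt φ hφ D hD) (hirr D hD) y)) ∈ W :=
    (hptA _).symm ▸ hy'
  rw [hvalB W' t y hy hy1, htU _ hy1 hy2, hvalA W s _ hy' hy3, locMap_locMap, locMap_locMap]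
  have e := Groth.Ega2P2.gradedHomAt_res φ hφ U hU D hD hle
  have ef : (ℬ.res hU hD hle).toRingHom.comp (RelProj.gradedHomAt φ hφ U hU).toRingHom =
      (RelProj.gradedHomAt φ hφ D hD).toRingHom.comp (𝒜.res hU hD hle').toRingHom :=
    congrArg GradedRingHom.toRingHom e
  refine Lmap_congr ef ?_ _ _ (Q := fun x => RelProj.emb pA chartA U hU x ∈ W)
    (fun x hx => pv lamA U hU s x hx) hy2 hy3
  refine (RelProj.emb pA chartA U hU).isOpenEmbedding.injective ?_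
  rw [hptA, ← map_embB φ hφ hirr hh D hD y, ← map_embB φ hφ hirr hh U hU, hptB]

include hA hB hLA hLB hh in
theorem exists_img {W : PA.Opens} (s : Γ(LA, W)) : ∃ t : Γ(LB, h ⁻¹ᵁ W), IsImg φ hφ hirr lamA lamB s t := by
  let T := {U : Y.Opens // IsAffineOpen U}
  let WB : T → PB.Opens := fun i => h ⁻¹ᵁ W ⊓ pB ⁻¹ᵁ i.1
  have hq : ∀ i : T, RelProj.emb pB chartB i.1 i.2 ⁻¹ᵁ WB i ≤
      Proj.map (RelProj.gradedHomAt φ hφ i.1 i.2) (hirr i.1 i.2) ⁻¹ᵁ
        (RelProj.emb pA chartA i.1 i.2 ⁻¹ᵁ W) := fun i y hy =>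
    show RelProj.emb pA chartA i.1 i.2 (ProjectiveSpectrum.comap (RelProj.gradedHomAt φ hφ i.1 i.2) (hirr i.1 i.2) y) ∈ W from
      (map_embB φ hφ hirr hh i.1 i.2 y) ▸ (show h (RelProj.emb pB chartB i.1 i.2 y) ∈ W from hy.1)
  choose t ht using fun i : T => (hLB.bijective i.1 i.2 (WB i) inf_le_right).2
    (res (GrTwist.twist (ℬ.deg i.1 i.2) n) (hq i)
      ((GrTwist.comap (RelProj.gradedHomAt φ hφ i.1 i.2) (hirr i.1 i.2) n).app
        (RelProj.emb pA chartA i.1 i.2 ⁻¹ᵁ W) ((lamA i.1 i.2).app W s)))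
  have hval : ∀ (i : T) (y : ProjectiveSpectrum (ℬ.deg i.1 i.2))
      (hy : RelProj.emb pB chartB i.1 i.2 y ∈ WB i) (hy' : RelProj.emb pA chartA i.1 i.2
        (ProjectiveSpectrum.comap (RelProj.gradedHomAt φ hφ i.1 i.2) (hirr i.1 i.2) y) ∈ W),
      pv lamB i.1 i.2 (t i) y hy = GrTwist.locMap (RelProj.gradedHomAt φ hφ i.1 i.2) (hirr i.1 i.2) y
        (pv lamA i.1 i.2 s _ hy') := fun i y hy hy' => by
    rw [pv, ht i]
    rfl
  have hcov : h ⁻¹ᵁ W ≤ iSup WB := fun z hz => by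
    obtain ⟨U, hU, hzU, -⟩ := exists_isAffineOpen_mem_and_subset (x := pB z) (U := (⊤ : Y.Opens)) trivial
    exact Opens.mem_iSup.2 ⟨⟨U, hU⟩, hz, hzU⟩
  obtain ⟨t₀, ht₀, -⟩ := res_glue (M := LB) WB (fun _ => inf_le_left) hcov t fun a b => by
    refine sec_ext_cover lamB hLB fun z hz => ?_
    obtain ⟨D, hD, hzD, hra, hrb⟩ := exists_common a.2 b.2 hz.1.2 hz.2.2
    refine ⟨D, hD, hzD, fun y hy => ?_⟩
    have hy' := (map_embB φ hφ hirr hh D hD y) ▸ (show h (RelProj.emb pB chartB D hD y) ∈ W from hy.1.1)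
    rw [pv_res, pv_res,
      transfer φ hφ hirr hA hB hh hLA hLB a.2 b.2 s (t a) inf_le_left (hval a) hD hra y hy.1 hy',
      transfer φ hφ hirr hA hB hh hLA hLB b.2 a.2 s (t b) inf_le_left (hval b) hD hrb y hy.2 hy']
  refine ⟨t₀, fun U hU y hy hy' => ?_⟩
  have hy1 : RelProj.emb pB chartB U hU y ∈ WB ⟨U, hU⟩ := ⟨hy, p_emb_mem U hU y⟩
  rw [← hval ⟨U, hU⟩ y hy1 hy', ← ht₀ ⟨U, hU⟩, pv_res]

include hA hB hLA hLB hh in
theorem existsUnique_comap :
    ∃! θ : LA ⟶ (Scheme.Modules.pushforward h).obj LB,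
      ∀ (U : Y.Opens) (hU : IsAffineOpen U) (W : PA.Opens) (s : Γ(LA, W))
        (y : ProjectiveSpectrum (ℬ.deg U hU))
        (hy : (RelProj.emb pB chartB U hU).base y ∈ h ⁻¹ᵁ W)
        (hy' : (RelProj.emb pA chartA U hU).base
          (ProjectiveSpectrum.comap (RelProj.gradedHomAt φ hφ U hU) (hirr U hU) y) ∈ W),
        GrTwist.val (V := RelProj.emb pB chartB U hU ⁻¹ᵁ (h ⁻¹ᵁ W)) ((lamB U hU).app (h ⁻¹ᵁ W) (θ.app W s)) ⟨y, hy⟩ =
          GrTwist.locMap (RelProj.gradedHomAt φ hφ U hU) (hirr U hU) y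
            (GrTwist.val (V := RelProj.emb pA chartA U hU ⁻¹ᵁ W) ((lamA U hU).app W s) ⟨_, hy'⟩) := by
  choose g hg using fun (W : PA.Opens) (s : Γ(LA, W)) =>
    exists_img φ hφ hirr hA hB hh hLA hLB (lamA := lamA) s
  have hu := fun {W : PA.Opens} {s : Γ(LA, W)} (t : Γ(LB, h ⁻¹ᵁ W))
      (ht : IsImg φ hφ hirr lamA lamB s t) => IsImg.unique φ hφ hirr hA hB hh hLA hLB ht (hg W s)
  obtain ⟨θ, hθ⟩ := exists_hom_of_cover (U := fun _ : PUnit.{u + 1} => (⊤ : PA.Opens)) (L := LA)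
    (M := (Scheme.Modules.pushforward h).obj LB) (by simp) (fun _ W _ s => g W s)
    (fun _ W _ a b => (hu (g W a + g W b) fun U hU y hy hy' => by
      have e1 : pv lamB U hU (g W a + g W b) y hy = pv lamB U hU (g W a) y hy + pv lamB U hU (g W b) y hy := by
        rw [pv, map_add]; rfl
      have e2 : pv lamA U hU (a + b) _ hy' = pv lamA U hU a _ hy' + pv lamA U hU b _ hy' := by
        rw [pv, map_add]; rfl
      rw [e1, e2, hg W a U hU y hy hy', hg W b U hU y hy hy', map_add]).symm)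
    (fun _ W _ r a => (hu (h.app W r • g W a) fun U hU y hy hy' => by
      rw [pv_smul, pv_smul, map_mul, hg W a U hU y hy hy']
      congr 1
      exact app_val_of_eq (P := PA) (RelProj.gradedHomAt φ hφ U hU) (hirr U hU)
        ((Groth.Ega2P2.isRelProjMap_iff φ hφ hirr h).1 hh U hU).symm (W := W) r y hy hy').symm)
    (fun _ W W' _ hle a => hu (res LB (h.preimage_mono hle) (g W a)) fun U hU y hy hy' => by
      rw [pv_res, pv_res]
      exact hg W a U hU y _ _)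
    (fun _ _ _ _ _ _ => rfl)
  refine ⟨θ, fun U hU W s y hy hy' => ?_, fun θ' hθ' => ?_⟩
  · rw [hθ ⟨⟩ W le_top s]
    exact hg W s U hU y hy hy'
  · refine Scheme.Modules.hom_ext _ _ fun W => AddCommGrpCat.ext fun s => ?_
    rw [hθ ⟨⟩ W le_top s]
    exact hu _ fun U hU y hy hy' => hθ' U hU W s y hy hy'

end Groth.RelTw
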