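import Groth.Agent.RelTwist.FracBaseChange
import Groth.Agent.RelTwist.PowFrac
import Groth.Agent.RelTwist.Exist
import Groth.Agent.QCohMod.PullbackSections
import Groth.Agent.Ega2Proj.IsoAffine
import Groth.Agent.Ega2Proj.ProjIntegral
import Groth.Agent.RelTwist.Comap

/-!
# The relative twisting sheaves commute with base change
-/

universe u

open CategoryTheory CategoryTheory.Limits AlgebraicGeometry Opposite TopologicalSpace TensorProduct
open scoped HomogeneousIdeal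

set_option backward.isDefEq.respectTransparency.types false
set_option linter.style.haveILetI false

noncomputable section

namespace Groth.RelTw

open Groth.PicAux

section sectionsOnBasic

variable {A σ : Type u} [CommRing A] [SetLike σ A] [AddSubgroupClass σ A] {𝒜 : ℕ → σ} [GradedRing 𝒜]
  {d : ℕ} {g : A} (hg : g ∈ 𝒜 d)

include hg in
/-- Every fraction `a / g ^ l` is a function. -/
theorem exists_fun_gfrac {V : (Proj 𝒜).Opens} (hV : V ≤ Proj.basicOpen 𝒜 g) (l : ℕ) (a : A)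
    (ha : a ∈ 𝒜 (l * d)) :
    ∃ r : Γ(Proj 𝒜, V), ∀ (x : ProjectiveSpectrum 𝒜) (hx : x ∈ V) (hgx : g ∉ x.asHomogeneousIdeal),
      (r.1 ⟨x, hx⟩).val = gfrac x hgx l a := by
  have hp : g ^ l ∈ 𝒜 (l * d) := by simpa using SetLike.pow_mem_graded l hg
  have hn : ∀ x : V, g ^ l ∉ x.1.asHomogeneousIdeal := fun x h => hV x.2 (x.1.isPrime.mem_of_pow_mem l h)
  refine ⟨(⟨fun x => HomogeneousLocalization.mk ⟨l * d, ⟨a, ha⟩, ⟨g ^ l, hp⟩, hn x⟩,
    fun x => ⟨V, x.2, 𝟙 _, l * d, ⟨a, ha⟩, ⟨g ^ l, hp⟩, hn, fun _ => rfl⟩⟩ :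
    (ProjectiveSpectrum.Proj.structureSheaf 𝒜).1.obj (op V)), fun x hx hgx => ?_⟩
  exact HomogeneousLocalization.val_mk _

include hg in
/-- Every function on `D₊(g)` is a fraction `a / g ^ l`. -/
theorem exists_gfrac_of_fun (hd : 0 < d) {V : (Proj 𝒜).Opens} (hV : Proj.basicOpen 𝒜 g ≤ V) (r : Γ(Proj 𝒜, V)) :
    ∃ (l : ℕ) (a : A), a ∈ 𝒜 (l * d) ∧ ∀ (x : ProjectiveSpectrum 𝒜) (hx : x ∈ V)
      (hgx : g ∉ x.asHomogeneousIdeal), (r.1 ⟨x, hx⟩).val = gfrac x hgx l a := by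
  have h1 : (1 : A) ∈ 𝒜 0 := SetLike.GradedOne.one_mem
  have hne : ∀ x : ProjectiveSpectrum 𝒜, x ∈ V → (1 : A) ∉ x.asHomogeneousIdeal :=
    fun x _ h => x.isPrime.ne_top ((Ideal.eq_top_iff_one _).mpr h)
  let s : Γ(GrTwist.twist 𝒜 0, Proj.basicOpen 𝒜 g) := res _ hV (r • frac h1 h1 (n := 0) rfl V hne)
  obtain ⟨k, i, ⟨a, ha⟩, hi, hs⟩ := exists_frac 𝒜 0 hd hg s
  obtain rfl : i = k * d := by omega
  refine ⟨k, a, ha, fun x hx hgx => ?_⟩
  refine Eq.trans ?_ (hs ⟨x, hgx⟩)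
  change _ = gval s x hgx
  rw [gval_res, gval_smul, gval_frac]
  exact ((congrArg (_ * ·) (Localization.mk_one)).trans (mul_one _)).symm

include hg in
/-- Every section on `D₊(g)` is a fraction `a / g ^ k`. -/
theorem exists_gfrac_of_sec (hd : 0 < d) {n : ℤ} {V : (Proj 𝒜).Opens} (hV : Proj.basicOpen 𝒜 g ≤ V)
    (m : Γ(GrTwist.twist 𝒜 n, V)) :
    ∃ (k i : ℕ) (a : A), a ∈ 𝒜 i ∧ (i : ℤ) = k * d + n ∧ ∀ (x : ProjectiveSpectrum 𝒜) (hx : x ∈ V)
      (hgx : g ∉ x.asHomogeneousIdeal), gval m x hx = gfrac x hgx k a := by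
  obtain ⟨k, i, ⟨a, ha⟩, hi, hs⟩ := exists_frac 𝒜 n hd hg (res (GrTwist.twist 𝒜 n) hV m)
  exact ⟨k, i, a, ha, hi, fun x hx hgx => hs ⟨x, hgx⟩⟩

end sectionsOnBasic

section rel

variable {Y Y' P P' : Scheme.{u}} {ψ : Y' ⟶ Y} {𝒮 : RelProj.QCGrAlg Y} {𝒮' : RelProj.QCGrAlg Y'}
  {φ : ∀ (U : Y.Opens) (hU : IsAffineOpen U) (U' : Y'.Opens) (hU' : IsAffineOpen U') (_ : U' ≤ ψ ⁻¹ᵁ U),
    𝒮.deg U hU →+*ᵍ 𝒮'.deg U' hU'}
  {hirr : ∀ (U : Y.Opens) (hU : IsAffineOpen U) (U' : Y'.Opens) (hU' : IsAffineOpen U') (hle : U' ≤ ψ ⁻¹ᵁ U),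
    (𝒮'.deg U' hU')₊ ≤ ((𝒮.deg U hU)₊).map (φ U hU U' hU' hle)}
  (hres : ∀ (U : Y.Opens) (hU : IsAffineOpen U) (V : Y.Opens) (hV : IsAffineOpen V) (hVU : V ≤ U)
    (U' : Y'.Opens) (hU' : IsAffineOpen U') (hle : U' ≤ ψ ⁻¹ᵁ U)
    (V' : Y'.Opens) (hV' : IsAffineOpen V') (hle' : V' ≤ ψ ⁻¹ᵁ V) (hVU' : V' ≤ U'),
    (𝒮'.res hU' hV' hVU').toRingHom.comp (φ U hU U' hU' hle).toRingHom =
      (φ V hV V' hV' hle').toRingHom.comp (𝒮.res hU hV hVU).toRingHom)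
  {p : P ⟶ Y} {p' : P' ⟶ Y'}
  {chart : ∀ (U : Y.Opens) (hU : IsAffineOpen U), (((p ⁻¹ᵁ U : P.Opens) : Scheme.{u}) ≅ Proj (𝒮.deg U hU))}
  {chart' : ∀ (U' : Y'.Opens) (hU' : IsAffineOpen U'), (((p' ⁻¹ᵁ U' : P'.Opens) : Scheme.{u}) ≅ Proj (𝒮'.deg U' hU'))}
  (hP : RelProj.IsRelProj 𝒮 p chart) (hP' : RelProj.IsRelProj 𝒮' p' chart')
  {g : P' ⟶ P}
  (hg : ∀ (U : Y.Opens) (hU : IsAffineOpen U) (U' : Y'.Opens) (hU' : IsAffineOpen U') (hle : U' ≤ ψ ⁻¹ᵁ U),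
    RelProj.emb p' chart' U' hU' ≫ g =
      Proj.map (φ U hU U' hU' hle) (hirr U hU U' hU' hle) ≫ RelProj.emb p chart U hU)
  {n : ℤ} {L : P.Modules}
  {lam : ∀ (U : Y.Opens) (hU : IsAffineOpen U),
    L ⟶ (Scheme.Modules.pushforward (RelProj.emb p chart U hU)).obj (GrTwist.twist (𝒮.deg U hU) n)}
  (hL : RelProj.IsRelTwist 𝒮 p chart n L lam)
  {L' : P'.Modules}
  {lam' : ∀ (U' : Y'.Opens) (hU' : IsAffineOpen U'),
    L' ⟶ (Scheme.Modules.pushforward (RelProj.emb p' chart' U' hU')).obj (GrTwist.twist (𝒮'.deg U' hU') n)}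
  (hL' : RelProj.IsRelTwist 𝒮' p' chart' n L' lam')

include hg in
theorem map_emb' (U : Y.Opens) (hU : IsAffineOpen U) (U' : Y'.Opens) (hU' : IsAffineOpen U')
    (hle : U' ≤ ψ ⁻¹ᵁ U) (y : ProjectiveSpectrum (𝒮'.deg U' hU')) :
    g (RelProj.emb p' chart' U' hU' y) =
      RelProj.emb p chart U hU (ProjectiveSpectrum.comap (φ U hU U' hU' hle) (hirr U hU U' hU' hle) y) :=
  congr($(hg U hU U' hU' hle) y)

/-- A pair of affine opens, one over the other. -/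
structure AffPair (ψ : Y' ⟶ Y) where
  /-- below -/
  U : Y.Opens
  hU : IsAffineOpen U
  /-- above -/
  U' : Y'.Opens
  hU' : IsAffineOpen U'
  hle : U' ≤ ψ ⁻¹ᵁ U

theorem exists_affPair (ψ : Y' ⟶ Y) (z : Y') : ∃ i : AffPair ψ, z ∈ i.U' := by
  obtain ⟨U, hU, hzU, -⟩ := exists_isAffineOpen_mem_and_subset (x := ψ z) (U := (⊤ : Y.Opens)) trivial
  obtain ⟨U', hU', hzU', hle⟩ := exists_isAffineOpen_mem_and_subset (x := z) (U := ψ ⁻¹ᵁ U) hzU
  exact ⟨⟨U, hU, U', hU', hle⟩, hzU'⟩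

variable (φ hirr lam lam') in
/-- `t` has the values of the image of `s` in the charts of a pair. -/
def HasVals (i : AffPair ψ) {W : P.Opens} (s : Γ(L, W)) {W' : P'.Opens} (t : Γ(L', W')) : Prop :=
  ∀ (y : ProjectiveSpectrum (𝒮'.deg i.U' i.hU')) (hy : RelProj.emb p' chart' i.U' i.hU' y ∈ W')
    (hy' : RelProj.emb p chart i.U i.hU
      (ProjectiveSpectrum.comap (φ i.U i.hU i.U' i.hU' i.hle) (hirr i.U i.hU i.U' i.hU' i.hle) y) ∈ W),
    pv lam' i.U' i.hU' t y hy = GrTwist.locMap (φ i.U i.hU i.U' i.hU' i.hle) (hirr i.U i.hU i.U' i.hU' i.hle) y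
      (pv lam i.U i.hU s _ hy')

include hres hP hP' hg hL hL' in
theorem HasVals.transfer {i : AffPair ψ} {W : P.Opens} {s : Γ(L, W)} {W' : P'.Opens} {t : Γ(L', W')}
    (hW' : W' ≤ g ⁻¹ᵁ W) (ht : HasVals φ hirr lam lam' i s t) (j : AffPair ψ)
    (hr : ∃ r : Γ(Y, i.U), Y.basicOpen r = j.U) (hr' : ∃ r : Γ(Y', i.U'), Y'.basicOpen r = j.U') :
    HasVals φ hirr lam lam' j s t := by
  intro y hy hy'
  obtain ⟨hle, iB, hptB, hvalB⟩ := exists_basic lam' hP' hL' i.U' i.hU' j.U' j.hU' hr'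
  obtain ⟨hle', iA, hptA, hvalA⟩ := exists_basic lam hP hL i.U i.hU j.U j.hU hr
  have hy1 : RelProj.emb p' chart' i.U' i.hU' (ProjectiveSpectrum.comap (𝒮'.res i.hU' j.hU' hle) iB y) ∈ W' :=
    (hptB y).symm ▸ hy
  have hy2 := (map_emb' hg i.U i.hU i.U' i.hU' i.hle _) ▸
    (show g (RelProj.emb p' chart' i.U' i.hU' (ProjectiveSpectrum.comap (𝒮'.res i.hU' j.hU' hle) iB y)) ∈ W from hW' hy1)
  have hy3 : RelProj.emb p chart i.U i.hU (ProjectiveSpectrum.comap (𝒮.res i.hU j.hU hle') iA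
      (ProjectiveSpectrum.comap (φ j.U j.hU j.U' j.hU' j.hle) (hirr j.U j.hU j.U' j.hU' j.hle) y)) ∈ W :=
    (hptA _).symm ▸ hy'
  rw [hvalB W' t y hy hy1, ht _ hy1 hy2, hvalA W s _ hy' hy3, locMap_locMap, locMap_locMap]
  refine Lmap_congr (hres i.U i.hU j.U j.hU hle' i.U' i.hU' i.hle j.U' j.hU' j.hle hle) ?_ _ _
    (Q := fun x => RelProj.emb p chart i.U i.hU x ∈ W)
    (fun x hx => pv lam i.U i.hU s x hx) hy2 hy3
  refine (RelProj.emb p chart i.U i.hU).isOpenEmbedding.injective ?_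
  rw [hptA, ← map_emb' hg j.U j.hU j.U' j.hU' j.hle y, ← map_emb' hg i.U i.hU i.U' i.hU' i.hle, hptB]

include hg hL' in
theorem hasVals_unique {W : P.Opens} {s : Γ(L, W)} {t t' : Γ(L', g ⁻¹ᵁ W)}
    (ht : ∀ i, HasVals φ hirr lam lam' i s t) (ht' : ∀ i, HasVals φ hirr lam lam' i s t') : t = t' := by
  refine sec_ext_cover lam' hL' fun z hz => ?_
  obtain ⟨i, hzi⟩ := exists_affPair ψ (p' z)
  refine ⟨i.U', i.hU', hzi, fun y hy => ?_⟩
  have hy' := (map_emb' hg i.U i.hU i.U' i.hU' i.hle y) ▸ (show g (RelProj.emb p' chart' i.U' i.hU' y) ∈ W from hy)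
  exact (ht i y hy hy').trans (ht' i y hy hy').symm

include hres hP hP' hg hL hL' in
theorem exists_hasVals {W : P.Opens} (s : Γ(L, W)) :
    ∃ t : Γ(L', g ⁻¹ᵁ W), ∀ i, HasVals φ hirr lam lam' i s t := by
  let WB : AffPair ψ → P'.Opens := fun i => g ⁻¹ᵁ W ⊓ p' ⁻¹ᵁ i.U'
  have hq : ∀ i : AffPair ψ, RelProj.emb p' chart' i.U' i.hU' ⁻¹ᵁ WB i ≤
      Proj.map (φ i.U i.hU i.U' i.hU' i.hle) (hirr i.U i.hU i.U' i.hU' i.hle) ⁻¹ᵁ
        (RelProj.emb p chart i.U i.hU ⁻¹ᵁ W) := fun i y hy =>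
    show RelProj.emb p chart i.U i.hU (ProjectiveSpectrum.comap (φ i.U i.hU i.U' i.hU' i.hle)
      (hirr i.U i.hU i.U' i.hU' i.hle) y) ∈ W from
      (map_emb' hg i.U i.hU i.U' i.hU' i.hle y) ▸
        (show g (RelProj.emb p' chart' i.U' i.hU' y) ∈ W from hy.1)
  choose t ht using fun i : AffPair ψ => (hL'.bijective i.U' i.hU' (WB i) inf_le_right).2
    (res (GrTwist.twist (𝒮'.deg i.U' i.hU') n) (hq i)
      ((GrTwist.comap (φ i.U i.hU i.U' i.hU' i.hle) (hirr i.U i.hU i.U' i.hU' i.hle) n).app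
        (RelProj.emb p chart i.U i.hU ⁻¹ᵁ W) ((lam i.U i.hU).app W s)))
  have hval : ∀ i, HasVals φ hirr lam lam' i s (t i) := fun i y hy hy' => by
    rw [pv, ht i]
    rfl
  have hcov : g ⁻¹ᵁ W ≤ iSup WB := fun z hz => by
    obtain ⟨i, hzi⟩ := exists_affPair ψ (p' z)
    exact Opens.mem_iSup.2 ⟨i, hz, hzi⟩
  obtain ⟨t₀, ht₀, -⟩ := res_glue (M := L') WB (fun _ => inf_le_left) hcov t fun a b => by
    refine sec_ext_cover lam' hL' fun z hz => ?_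
    obtain ⟨D, hD, hzD, hra, hrb⟩ := exists_common a.hU b.hU (a.hle hz.1.2) (b.hle hz.2.2)
    obtain ⟨D₀, hD₀, hzD₀, ⟨ra, hra'⟩, rb, hrb'⟩ := exists_common a.hU' b.hU' hz.1.2 hz.2.2
    obtain ⟨f, hf, hzf⟩ := hD₀.exists_basicOpen_le (V := ψ ⁻¹ᵁ D ⊓ D₀) ⟨p' z, ⟨hzD, hzD₀⟩⟩ hzD₀
    let j : AffPair ψ := ⟨D, hD, Y'.basicOpen f, hD₀.basicOpen f, hf.trans inf_le_left⟩
    have hja : ∃ r : Γ(Y', a.U'), Y'.basicOpen r = j.U' := by
      subst hra'
      exact a.hU'.basicOpen_basicOpen_is_basicOpen ra f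
    have hjb : ∃ r : Γ(Y', b.U'), Y'.basicOpen r = j.U' := by
      subst hrb'
      exact b.hU'.basicOpen_basicOpen_is_basicOpen rb f
    refine ⟨j.U', j.hU', hzf, fun y hy => ?_⟩
    have hy' := (map_emb' hg j.U j.hU j.U' j.hU' j.hle y) ▸
      (show g (RelProj.emb p' chart' j.U' j.hU' y) ∈ W from hy.1.1)
    rw [pv_res, pv_res,
      (hval a).transfer hres hP hP' hg hL hL' inf_le_left j hra hja y hy.1 hy',
      (hval b).transfer hres hP hP' hg hL hL' inf_le_left j hrb hjb y hy.2 hy']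
  refine ⟨t₀, fun i y hy hy' => ?_⟩
  have hy1 : RelProj.emb p' chart' i.U' i.hU' y ∈ WB i := ⟨hy, p_emb_mem i.U' i.hU' y⟩
  rw [← hval i y hy1 hy', ← ht₀ i, pv_res]

include hres hP hP' hg hL hL' in
/-- The canonical map `O(n) ⟶ g_* O(n)`. -/
theorem exists_comap_baseChange :
    ∃ θ : L ⟶ (Scheme.Modules.pushforward g).obj L',
      ∀ (W : P.Opens) (s : Γ(L, W)) (i : AffPair ψ), HasVals φ hirr lam lam' i s (θ.app W s : Γ(L', g ⁻¹ᵁ W)) := by
  choose G hG using fun (W : P.Opens) (s : Γ(L, W)) =>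
    exists_hasVals hres hP hP' hg hL hL' (lam := lam) (lam' := lam') s
  have hu := fun {W : P.Opens} {s : Γ(L, W)} (t : Γ(L', g ⁻¹ᵁ W))
      (ht : ∀ i, HasVals φ hirr lam lam' i s t) => hasVals_unique hg hL' ht (hG W s)
  obtain ⟨θ, hθ⟩ := exists_hom_of_cover (U := fun _ : PUnit.{u + 1} => (⊤ : P.Opens)) (L := L)
    (M := (Scheme.Modules.pushforward g).obj L') (by simp) (fun _ W _ s => G W s)
    (fun _ W _ a b => (hu (G W a + G W b) fun i y hy hy' => by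
      have e1 : pv lam' i.U' i.hU' (G W a + G W b) y hy =
          pv lam' i.U' i.hU' (G W a) y hy + pv lam' i.U' i.hU' (G W b) y hy := by
        rw [pv, map_add]; rfl
      have e2 : pv lam i.U i.hU (a + b) _ hy' = pv lam i.U i.hU a _ hy' + pv lam i.U i.hU b _ hy' := by
        rw [pv, map_add]; rfl
      rw [e1, e2, hG W a i y hy hy', hG W b i y hy hy', map_add]).symm)
    (fun _ W _ r a => (hu (g.app W r • G W a) fun i y hy hy' => by
      rw [pv_smul, pv_smul, map_mul, hG W a i y hy hy']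
      congr 1
      exact app_val_of_eq (P := P) (φ i.U i.hU i.U' i.hU' i.hle) (hirr i.U i.hU i.U' i.hU' i.hle)
        (hg i.U i.hU i.U' i.hU' i.hle).symm (W := W) r y hy hy').symm)
    (fun _ W W' _ hle a => hu (res L' (g.preimage_mono hle) (G W a)) fun i y hy hy' => by
      rw [pv_res, pv_res]
      exact hG W a i y _ _)
    (fun _ _ _ _ _ _ => rfl)
  refine ⟨θ, fun W s i => ?_⟩
  rw [hθ ⟨⟩ W le_top s]
  exact hG W s i

include hres hP hP' hg hL hL' in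
/-- The inverse image of `O(n)` is `O(n)`. -/
theorem nonempty_pullback_baseChange_iso
    (hpo : ∀ (U : Y.Opens) (hU : IsAffineOpen U) (U' : Y'.Opens) (hU' : IsAffineOpen U') (hle : U' ≤ ψ ⁻¹ᵁ U),
      IsPushout (ψ.appLE U U' hle) (𝒮.str.app (op U)) (𝒮'.str.app (op U'))
        (CommRingCat.ofHom (φ U hU U' hU' hle).toRingHom)) :
    Nonempty ((Scheme.Modules.pullback g).obj L ≅ L') := by
  obtain ⟨θ, hθ⟩ := exists_comap_baseChange hres hP hP' hg hL hL'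
  let a := ((Scheme.Modules.pullbackPushforwardAdjunction g).homEquiv L L').symm θ
  have ha : ∀ V s, a.app (g ⁻¹ᵁ V) (pullSec g L s) = θ.app V s := fun V s => by
    have h0 : θ = (Scheme.Modules.pullbackPushforwardAdjunction g).unit.app L ≫
        (Scheme.Modules.pushforward g).map a :=
      ((Scheme.Modules.pullbackPushforwardAdjunction g).homEquiv L L').apply_symm_apply θ |>.symm.trans
        (Adjunction.homEquiv_unit _ L L' a)
    conv_rhs => rw [h0]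
    rfl
  haveI : L.IsQuasicoherent := isQCoh lam hL
  haveI : L'.IsQuasicoherent := isQCoh lam' hL'
  haveI : ((Scheme.Modules.pullback g).obj L).IsQuasicoherent := QCohMod.isQCoh_pullback_obj g L
  let T := Σ i : AffPair ψ, Σ d : PNat, 𝒮.deg i.U i.hU d
  let W' : T → P'.Opens := fun t => RelProj.emb p' chart' t.1.U' t.1.hU' ''ᵁ
    Proj.basicOpen (𝒮'.deg t.1.U' t.1.hU') (φ t.1.U t.1.hU t.1.U' t.1.hU' t.1.hle t.2.2.1)
  have hcov : iSup W' = ⊤ := by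
    refine eq_top_iff.2 fun z _ => ?_
    obtain ⟨i, hzi⟩ := exists_affPair ψ (p' z)
    obtain ⟨y, rfl⟩ := exists_emb_eq (chart := chart') i.U' i.hU' hzi
    obtain ⟨d, hd, f, hf, hfy⟩ := Groth.Ega2Proj.exists_pos_notMem_point _
      (ProjectiveSpectrum.comap (φ i.U i.hU i.U' i.hU' i.hle) (hirr i.U i.hU i.U' i.hU' i.hle) y)
    exact Opens.mem_iSup.2 ⟨⟨i, ⟨d, hd⟩, f, hf⟩, y, hfy, rfl⟩
  have haff : ∀ t : T, IsAffineOpen (W' t) := fun t =>
    (Proj.isAffineOpen_basicOpen _ _ ((φ t.1.U t.1.hU t.1.U' t.1.hU' t.1.hle).map_mem t.2.2.2)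
      t.2.1.pos).image_of_isOpenImmersion _
  suffices h : ∀ t : T, Function.Bijective (a.app (W' t)) from
    have := Groth.Ega2Proj.isIso_of_affine_cover a W' haff hcov h
    ⟨asIso a⟩
  rintro ⟨⟨U, hU, U', hU', hle⟩, ⟨d, hd⟩, f, hf⟩
  let Φ := φ U hU U' hU' hle
  let j := RelProj.emb p chart U hU
  let j' := RelProj.emb p' chart' U' hU'
  let WA : P.Opens := j ''ᵁ Proj.basicOpen (𝒮.deg U hU) f
  let WB : P'.Opens := j' ''ᵁ Proj.basicOpen (𝒮'.deg U' hU') (Φ f)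
  change Function.Bijective (a.app WB)
  have hAB : WB ≤ g ⁻¹ᵁ WA := by
    rintro _ ⟨y, hy, rfl⟩
    exact ⟨_, hy, (map_emb' hg U hU U' hU' hle y).symm⟩
  have hWA : IsAffineOpen WA := (Proj.isAffineOpen_basicOpen _ _ hf hd).image_of_isOpenImmersion _
  have hWB : IsAffineOpen WB :=
    (Proj.isAffineOpen_basicOpen _ _ (Φ.map_mem hf) hd).image_of_isOpenImmersion _
  letI := QCohMod.sectionsAlg g hAB
  have hb := QCohMod.pullSecTensor_bijective g L hAB hWA hWB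
  let Lt : Γ(P', WB) ⊗[Γ(P, WA)] Γ(L, WA) →+ Γ(L', WB) :=
    (a.app WB).hom.comp (QCohMod.pullSecTensor g L hAB).toAddMonoidHom
  suffices hLt : Function.Bijective Lt from (Function.Bijective.of_comp_iff _ hb).mp hLt
  have hmA : ∀ x : ProjectiveSpectrum (𝒮.deg U hU), f ∉ x.asHomogeneousIdeal → j x ∈ WA :=
    fun x hx => ⟨x, hx, rfl⟩
  have hmB : ∀ y : ProjectiveSpectrum (𝒮'.deg U' hU'), Φ f ∉ y.asHomogeneousIdeal → j' y ∈ WB :=
    fun y hy => ⟨y, hy, rfl⟩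
  have hmB' : ∀ y : ProjectiveSpectrum (𝒮'.deg U' hU'), y ∈ j' ⁻¹ᵁ WB → Φ f ∉ y.asHomogeneousIdeal :=
    fun y hy => (mem_image_iff (chart := chart') U' hU' _ y).1 hy
  haveI := j'.isIso_app WB (j'.image_le_opensRange _)
  haveI := j.isIso_app WA (j.image_le_opensRange _)
  letI : Algebra Γ(Y, U) (𝒮.presheaf.obj (op U)) := (𝒮.str.app (op U)).hom.toAlgebra
  letI : Algebra Γ(Y', U') (𝒮'.presheaf.obj (op U')) := (𝒮'.str.app (op U')).hom.toAlgebra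
  letI : Algebra Γ(Y, U) Γ(Y', U') := (ψ.appLE U U' hle).hom.toAlgebra
  letI : Algebra (𝒮.presheaf.obj (op U)) (𝒮'.presheaf.obj (op U')) := Φ.toRingHom.toAlgebra
  letI : Algebra Γ(Y, U) (𝒮'.presheaf.obj (op U')) :=
    ((𝒮'.str.app (op U')).hom.comp (ψ.appLE U U' hle).hom).toAlgebra
  haveI : IsScalarTower Γ(Y, U) Γ(Y', U') (𝒮'.presheaf.obj (op U')) := IsScalarTower.of_algebraMap_eq' rfl
  haveI : IsScalarTower Γ(Y, U) (𝒮.presheaf.obj (op U)) (𝒮'.presheaf.obj (op U')) :=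
    IsScalarTower.of_algebraMap_eq' (congrArg CommRingCat.Hom.hom (hpo U hU U' hU' hle).w)
  haveI : Algebra.IsPushout Γ(Y, U) Γ(Y', U') (𝒮.presheaf.obj (op U)) (𝒮'.presheaf.obj (op U')) :=
    CommRingCat.isPushout_iff_isPushout.mp (hpo U hU U' hU' hle)
  refine bijective_of_fractions Φ (hirr U hU U' hU' hle) (R := Γ(Y, U)) (R' := Γ(Y', U'))
    (fun _ => rfl) (𝒮.str_mem U hU) (𝒮'.str_mem U' hU') hd hf n
    (fun r x hx => ((j.app WA r).1 ⟨x, hmA x hx⟩).val)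
    (fun c y hy => ((j'.app WB c).1 ⟨y, hmB y hy⟩).val)
    ?hBadd ?hBmul ?hBinj ?hBA ?hAmk ?hBmk ?hBfrac
    (fun m x hx => pv lam U hU m x (hmA x hx)) (fun m y hy => pv lam' U' hU' m y (hmB y hy))
    ?hMadd ?hMsmul ?hMinj ?hNadd ?hNsmul ?hNinj ?hMmk ?hMfrac ?hNfrac
    (fun m => res L' hAB (θ.app WA m : Γ(L', g ⁻¹ᵁ WA))) ?hθ Lt ?hL
  case hBadd =>
    intro c c' y hy
    rw [map_add]
    exact HomogeneousLocalization.val_add _ _
  case hBmul =>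
    intro c c' y hy
    rw [map_mul]
    exact HomogeneousLocalization.val_mul _ _
  case hBinj =>
    exact fun c c' h => (ConcreteCategory.bijective_of_isIso (j'.app WB)).1
      (fun_ext fun y hy => h y (hmB' y hy))
  case hBA =>
    intro r y hy
    change ((j'.app WB (g.appLE WA WB hAB r)).1 ⟨y, _⟩).val = _
    have e : j'.app WB (g.appLE WA WB hAB r) =
        (Proj (𝒮'.deg U' hU')).presheaf.map (homOfLE (j'.preimage_mono hAB)).op
          (j'.app (g ⁻¹ᵁ WA) (g.app WA r)) :=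
      congr($(j'.naturality (homOfLE hAB).op) (g.app WA r))
    rw [e]
    exact app_val_of_eq Φ (hirr U hU U' hU' hle) (hg U hU U' hU' hle).symm r y (hAB (hmB y hy)) _
  case hAmk =>
    intro l b hb'
    obtain ⟨r, hr⟩ := exists_fun_gfrac hf (V := j ⁻¹ᵁ WA)
      (fun x hx => (mem_image_iff (chart := chart) U hU _ x).1 hx) l b hb'
    obtain ⟨r₀, rfl⟩ := (ConcreteCategory.bijective_of_isIso (j.app WA)).2 r
    exact ⟨r₀, fun x hx => hr x _ hx⟩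
  case hBmk =>
    intro l b hb'
    obtain ⟨r, hr⟩ := exists_fun_gfrac (Φ.map_mem hf) (V := j' ⁻¹ᵁ WB) hmB' l b hb'
    obtain ⟨r₀, rfl⟩ := (ConcreteCategory.bijective_of_isIso (j'.app WB)).2 r
    exact ⟨r₀, fun x hx => hr x _ hx⟩
  case hBfrac =>
    intro c
    obtain ⟨l, b, hb', h⟩ := exists_gfrac_of_fun (Φ.map_mem hf) hd (V := j' ⁻¹ᵁ WB)
      (fun y hy => hmB y hy) (j'.app WB c)
    exact ⟨l, b, hb', fun y hy => h y _ hy⟩
  case hMadd =>
    intro m m' x hx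
    rw [pv, map_add]
    rfl
  case hMsmul => exact fun r m x hx => pv_smul lam U hU r m x _
  case hMinj =>
    exact fun m m' h => sec_ext lam hL hU (image_le U hU _) fun x hx =>
      h x ((mem_image_iff (chart := chart) U hU _ x).1 hx)
  case hNadd =>
    intro m m' x hx
    rw [pv, map_add]
    rfl
  case hNsmul => exact fun r m x hx => pv_smul lam' U' hU' r m x _
  case hNinj =>
    exact fun m m' h => sec_ext lam' hL' hU' (image_le U' hU' _) fun y hy => h y (hmB' y hy)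
  case hMmk =>
    intro k i b hb' hi
    obtain ⟨s, hs, -⟩ := exists_sec lam hL U hU (Proj.basicOpen (𝒮.deg U hU) f)
      (frac hb' (SetLike.pow_mem_graded k hf) (by simpa using hi) _
        fun x hx h => hx (x.isPrime.mem_of_pow_mem k h))
    exact ⟨s, fun x hx => hs x _ hx⟩
  case hMfrac =>
    intro m
    obtain ⟨k, i, b, hb', hi, h⟩ := exists_gfrac_of_sec hf hd (V := j ⁻¹ᵁ WA)
      (fun x hx => hmA x hx) ((lam U hU).app WA m)
    exact ⟨k, i, b, hb', hi, fun x hx => h x _ hx⟩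
  case hNfrac =>
    intro m
    obtain ⟨k, i, b, hb', hi, h⟩ := exists_gfrac_of_sec (Φ.map_mem hf) hd (V := j' ⁻¹ᵁ WB)
      (fun y hy => hmB y hy) ((lam' U' hU').app WB m)
    exact ⟨k, i, b, hb', hi, fun y hy => h y _ hy⟩
  case hθ =>
    intro m y hy
    rw [pv_res]
    exact hθ WA m ⟨U, hU, U', hU', hle⟩ y _ _
  case hL =>
    intro c m
    change a.app WB (c • res _ hAB (pullSec g L m)) = _
    rw [Scheme.Modules.Hom.app_smul, app_res, ha]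

end rel

end Groth.RelTw
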