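import Groth.Agent.PicAux.Pullback
import Groth.Agent.PicAux.GenLocal
import Groth.Agent.QCohMod.SubMod
import Groth.Agent.LocFree.AffineHom

/-!
# An invertible quotient of an inverse image is locally generated by sections of the base
-/

universe u

open CategoryTheory CategoryTheory.Limits AlgebraicGeometry Opposite TopologicalSpace

set_option backward.isDefEq.respectTransparency.types false

noncomputable section

namespace Groth.RelTw

open Groth.PicAux Groth.QCohMod

variable {X Y : Scheme.{u}} {L : X.Modules}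

/-- The sections with value `0` at `z`. -/
def vanishAt {V₀ : X.Opens} {t₀ : Γ(L, V₀)} (ht₀ : Gen L V₀ t₀) (z : X) : SubMod L where
  mem V :=
    { carrier := {t | ∀ (W : X.Opens) (hW : W ≤ V) (hW₀ : W ≤ V₀) (c : Γ(X, W)),
        z ∈ W → PicAux.res L hW t = c • PicAux.res L hW₀ t₀ → z ∉ X.basicOpen c}
      zero_mem' := fun W hW hW₀ c hz e hc => by
        rw [PicAux.res_zero, ← zero_smul Γ(X, W) (PicAux.res L hW₀ t₀)] at e
        have := ht₀.smul_inj hW₀ e.symm
        rw [this, Scheme.basicOpen_zero] at hc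
        exact hc
      add_mem' := fun {a b} ha hb W hW hW₀ c hz e hc => by
        obtain ⟨ca, hca⟩ := ht₀.exists_coeff hW₀ (PicAux.res L hW a)
        obtain ⟨cb, hcb⟩ := ht₀.exists_coeff hW₀ (PicAux.res L hW b)
        rw [PicAux.res_add, hca, hcb, ← add_smul] at e
        have := ht₀.smul_inj hW₀ e
        subst this
        have h1 := ha W hW hW₀ ca hz hca
        have h2 := hb W hW hW₀ cb hz hcb
        rw [X.mem_basicOpen _ z hz] at hc h1 h2
        rw [map_add] at hc
        exact (IsLocalRing.nonunits_add h1 h2) hc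
      smul_mem' := fun r a ha W hW hW₀ c hz e hc => by
        obtain ⟨ca, hca⟩ := ht₀.exists_coeff hW₀ (PicAux.res L hW a)
        rw [PicAux.res_smul, hca, smul_smul] at e
        have := ht₀.smul_inj hW₀ e
        subst this
        rw [Scheme.basicOpen_mul] at hc
        exact ha W hW hW₀ ca hz hca hc.2 }
  res_mem {V V'} h s hs W hW hW₀ c hz e := hs W (hW.trans h) hW₀ c hz (by rw [← e]; exact (PicAux.res_res _ _ _).symm)
  local_mem {V} s hs W hW hW₀ c hz e hc := by
    obtain ⟨W', h', hzW', hs'⟩ := hs z (hW hz)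
    refine hs' (W ⊓ W') inf_le_right (inf_le_left.trans hW₀) (X.presheaf.map (homOfLE inf_le_left).op c)
      ⟨hz, hzW'⟩ ?_ (by rw [Scheme.basicOpen_res]; exact ⟨⟨hz, hzW'⟩, hc⟩)
    change PicAux.res L inf_le_right (PicAux.res L h' s) = _
    rw [PicAux.res_res, ← PicAux.res_res (h := hW) (h' := (inf_le_left : W ⊓ W' ≤ W)), e, PicAux.res_smul,
      PicAux.res_res]
    rfl

/-- An invertible quotient of `g^* E` is generated near every point by the image of a section of `E`. -/
theorem exists_gen_of_epi (g : X ⟶ Y) (E : Y.Modules) (hL : PicF.IsInvertible L)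
    (s : (Scheme.Modules.pullback g).obj E ⟶ L) [Epi s] (z : X) :
    ∃ (U : Y.Opens) (_ : IsAffineOpen U) (e : Γ(E, U)) (V : X.Opens) (hV : V ≤ g ⁻¹ᵁ U),
      z ∈ V ∧ Gen L V (PicAux.res L hV (s.app (g ⁻¹ᵁ U) (pullSec g E e))) := by
  obtain ⟨V₀, t₀, hzV₀, ht₀⟩ := (isInvertible_iff_exists_gen L).1 hL z
  by_contra hc
  push Not at hc
  let M := vanishAt ht₀ z
  have hmem : ∀ (U : Y.Opens) (e : Γ(E, U)), s.app (g ⁻¹ᵁ U) (pullSec g E e) ∈ M.mem (g ⁻¹ᵁ U) := by
    intro U e W hW hW₀ c hzW hce hzc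
    obtain ⟨U', hU', hzU', hU'U⟩ := exists_isAffineOpen_mem_and_subset (x := g z) (U := U) (hW hzW)
    let V := X.basicOpen c ⊓ g ⁻¹ᵁ U'
    have hVW : V ≤ W := inf_le_left.trans (X.basicOpen_le c)
    refine hc U' hU' (PicAux.res E hU'U e) V inf_le_right ⟨hzc, hzU'⟩ ?_
    rw [← res_pullSec g E hU'U, PicAux.app_res, PicAux.res_res,
      ← PicAux.res_res (h := hW) (h' := hVW), hce, PicAux.res_smul, PicAux.res_res]
    refine (ht₀.res (hVW.trans hW₀)).smul_unit ?_
    have hu := (X.toRingedSpace.isUnit_res_basicOpen c).map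
      (X.presheaf.map (homOfLE (inf_le_left : V ≤ X.basicOpen c)).op).hom
    refine (congrArg IsUnit ?_).mpr hu
    exact congr($(X.presheaf.map_comp (homOfLE (X.basicOpen_le c)).op (homOfLE (inf_le_left : V ≤ X.basicOpen c)).op).hom c)
  let adj := Scheme.Modules.pullbackPushforwardAdjunction g
  choose f hf using fun U (e : Γ(E, U)) => M.exists_ι_app_eq _ (hmem U e)
  obtain ⟨φ, hφ⟩ := Groth.LocFree.exists_hom_of_affine (L := E) (M := (Scheme.Modules.pushforward g).obj M.toMod)
    (fun U _ =>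
      { toFun := f U
        map_add' := fun a b => M.ι_app_injective _ (by
          refine (hf U (a + b)).trans (Eq.trans ?_ (map_add (M.ι.app (g ⁻¹ᵁ U)).hom (f U a) (f U b)).symm)
          refine Eq.trans ?_ (congrArg₂ (· + ·) (hf U a).symm (hf U b).symm)
          rw [show pullSec g E (a + b) = pullSec g E a + pullSec g E b from map_add _ a b, map_add])
        map_smul' := fun r a => M.ι_app_injective _ (by
          refine (hf U (r • a)).trans ?_
          rw [pullSec_smul, Scheme.Modules.Hom.app_smul, ← hf U a]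
          exact (M.ι.app_smul (g.app U r) (f U a)).symm) })
    fun U V _ _ h x => M.ι_app_injective _ (by
      refine (PicAux.app_res M.ι (g.preimage_mono h) (f U x)).trans ?_
      refine (congrArg (PicAux.res L (g.preimage_mono h)) (hf U x)).trans ?_
      refine Eq.trans ?_ (hf V _).symm
      rw [← res_pullSec g E h, PicAux.app_res])
  have hs : (adj.homEquiv E M.toMod).symm φ ≫ M.ι = s := by
    apply (adj.homEquiv E L).injective
    rw [Adjunction.homEquiv_naturality_right, Equiv.apply_symm_apply, Adjunction.homEquiv_unit]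
    refine Scheme.Modules.hom_ext _ _ fun U => AddCommGrpCat.ext fun e => ?_
    change M.ι.app (g ⁻¹ᵁ U) (φ.app U e) = s.app (g ⁻¹ᵁ U) (pullSec g E e)
    refine Groth.CohTwo.eq_of_local L _ _ fun x hx => ?_
    obtain ⟨U', hU', hxU', hU'U⟩ := exists_isAffineOpen_mem_and_subset (x := g x) (U := U) hx
    refine ⟨g ⁻¹ᵁ U', g.preimage_mono hU'U, hxU', ?_⟩
    change PicAux.res L _ (M.ι.app (g ⁻¹ᵁ U) (φ.app U e)) = PicAux.res L _ (s.app (g ⁻¹ᵁ U) (pullSec g E e))
    rw [← PicAux.app_res, ← PicAux.app_res, res_pullSec g E (show U' ≤ U from hU'U)]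
    refine Eq.trans (congrArg (M.ι.app (g ⁻¹ᵁ U')) ?_) (hf U' (PicAux.res E hU'U e))
    exact (PicAux.app_res φ hU'U e).symm.trans (hφ U' hU' _)
  have : Epi (M.ι) := by
    have : Epi ((adj.homEquiv E M.toMod).symm φ ≫ M.ι) := hs ▸ (inferInstance : Epi s)
    exact epi_of_epi ((adj.homEquiv E M.toMod).symm φ) M.ι
  have := isIso_of_mono_of_epi M.ι
  have ht : t₀ = M.ι.app V₀ ((inv M.ι).app V₀ t₀) :=
    (congr(($(IsIso.inv_hom_id M.ι)).app V₀ t₀)).symm
  have h0 : t₀ ∈ M.mem V₀ := by rw [ht]; exact M.ι_app_mem _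
  refine h0 V₀ le_rfl le_rfl 1 hzV₀ (one_smul _ _).symm ?_
  rw [Scheme.basicOpen_of_isUnit _ isUnit_one]
  exact hzV₀

end Groth.RelTw
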