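import Groth.Agent.RelTwist.Gen
import Mathlib.RingTheory.IsTensorProduct

/-!
# Degree-`n` fractions commute with base change (gradings by additive subgroups)

The abstract form of `Γ(V, O_{Proj ℬ}) ⊗ Γ(D₊(g), O(n)) ≅ Γ(V, O(n))` for `ℬ = R' ⊗_R 𝒜`: the rings and modules of
sections enter only through their values at the points.
-/

universe u

open CategoryTheory AlgebraicGeometry Opposite TopologicalSpace DirectSum TensorProduct

set_option backward.isDefEq.respectTransparency.types false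

namespace Groth.RelTw

section gfrac

variable {A σ : Type u} [CommRing A] [SetLike σ A] [AddSubgroupClass σ A] {𝒜 : ℕ → σ} [GradedRing 𝒜]

/-- `a / g ^ k` at a point where `g` does not vanish. -/
noncomputable def gfrac {g : A} (x : ProjectiveSpectrum 𝒜) (hx : g ∉ x.asHomogeneousIdeal) (k : ℕ)
    (a : A) : GrTwist.Loc 𝒜 x :=
  Localization.mk a ⟨g ^ k, fun h => hx (x.isPrime.mem_of_pow_mem k h)⟩

variable {g : A} (x : ProjectiveSpectrum 𝒜) (hx : g ∉ x.asHomogeneousIdeal)

theorem gfrac_add (k : ℕ) (a b : A) : gfrac x hx k (a + b) = gfrac x hx k a + gfrac x hx k b :=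
  (Localization.add_mk_self _ _ _).symm

theorem gfrac_congr {k k' : ℕ} {a a' : A} (e : g ^ k' * a = g ^ k * a') :
    gfrac x hx k a = gfrac x hx k' a' :=
  Localization.mk_eq_mk_iff.mpr (Localization.r_iff_exists.mpr ⟨1, by simp [e]⟩)

theorem gfrac_mul (k l : ℕ) (a b : A) :
    gfrac x hx k a * gfrac x hx l b = gfrac x hx (k + l) (a * b) := by
  rw [gfrac, gfrac, gfrac, Localization.mk_mul]
  exact congrArg₂ Localization.mk rfl (Subtype.ext (pow_add g k l).symm)

theorem gfrac_zero (k : ℕ) : gfrac x hx k 0 = 0 := Localization.mk_zero _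

end gfrac

section map

variable {A σ : Type u} [CommRing A] [SetLike σ A] [AddSubgroupClass σ A] {𝒜 : ℕ → σ} [GradedRing 𝒜]
  {B τ : Type u} [CommRing B] [SetLike τ B] [AddSubgroupClass τ B] {ℬ : ℕ → τ} [GradedRing ℬ]
  (ψ : 𝒜 →+*ᵍ ℬ) (hψ : HomogeneousIdeal.irrelevant ℬ ≤ (HomogeneousIdeal.irrelevant 𝒜).map ψ)

theorem locMap_gfrac {g : A} (y : ProjectiveSpectrum ℬ) (hy : ψ g ∉ y.asHomogeneousIdeal) (k : ℕ) (a : A) :
    GrTwist.locMap ψ hψ y (gfrac (ProjectiveSpectrum.comap ψ hψ y) hy k a) = gfrac y hy k (ψ a) := by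
  rw [gfrac, GrTwist.locMap_mk, gfrac]
  exact congrArg₂ Localization.mk rfl (Subtype.ext (map_pow ψ g k))

variable {R R' : Type u} [CommRing R] [CommRing R'] [Algebra R A] [Algebra R' B] [Algebra R R']
  [Algebra A B] [Algebra R B] [IsScalarTower R R' B] [IsScalarTower R A B] [Algebra.IsPushout R R' A B]

/-- The fractions of degree `n` over `D₊(ψ g)` are the base change of those over `D₊(g)`. -/
theorem bijective_of_fractions (hψA : ∀ a, ψ a = algebraMap A B a)
    (hR : ∀ r : R, algebraMap R A r ∈ 𝒜 0) (hR' : ∀ r : R', algebraMap R' B r ∈ ℬ 0)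
    {d : ℕ} (hd : 0 < d) {g : A} (hg : g ∈ 𝒜 d) (n : ℤ)
    {R₀ S₀ M N : Type u} [CommRing R₀] [CommRing S₀] [Algebra R₀ S₀] [AddCommGroup M] [Module R₀ M]
    [AddCommGroup N] [Module S₀ N]
    (eA : R₀ → ∀ x : ProjectiveSpectrum 𝒜, g ∉ x.asHomogeneousIdeal → GrTwist.Loc 𝒜 x)
    (eB : S₀ → ∀ y : ProjectiveSpectrum ℬ, ψ g ∉ y.asHomogeneousIdeal → GrTwist.Loc ℬ y)
    (hBadd : ∀ c c' y hy, eB (c + c') y hy = eB c y hy + eB c' y hy)
    (hBmul : ∀ c c' y hy, eB (c * c') y hy = eB c y hy * eB c' y hy)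
    (hBinj : ∀ c c', (∀ y hy, eB c y hy = eB c' y hy) → c = c')
    (hBA : ∀ r y hy, eB (algebraMap R₀ S₀ r) y hy =
      GrTwist.locMap ψ hψ y (eA r (ProjectiveSpectrum.comap ψ hψ y) hy))
    (hAmk : ∀ l a, a ∈ 𝒜 (l * d) → ∃ r, ∀ x hx, eA r x hx = gfrac x hx l a)
    (hBmk : ∀ l b, b ∈ ℬ (l * d) → ∃ c, ∀ y hy, eB c y hy = gfrac y hy l b)
    (hBfrac : ∀ c, ∃ l b, b ∈ ℬ (l * d) ∧ ∀ y hy, eB c y hy = gfrac y hy l b)
    (vA : M → ∀ x : ProjectiveSpectrum 𝒜, g ∉ x.asHomogeneousIdeal → GrTwist.Loc 𝒜 x)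
    (vB : N → ∀ y : ProjectiveSpectrum ℬ, ψ g ∉ y.asHomogeneousIdeal → GrTwist.Loc ℬ y)
    (hMadd : ∀ m m' x hx, vA (m + m') x hx = vA m x hx + vA m' x hx)
    (hMsmul : ∀ r m x hx, vA (r • m) x hx = eA r x hx * vA m x hx)
    (hMinj : ∀ m m', (∀ x hx, vA m x hx = vA m' x hx) → m = m')
    (hNadd : ∀ m m' y hy, vB (m + m') y hy = vB m y hy + vB m' y hy)
    (hNsmul : ∀ c m y hy, vB (c • m) y hy = eB c y hy * vB m y hy)
    (hNinj : ∀ m m', (∀ y hy, vB m y hy = vB m' y hy) → m = m')
    (hMmk : ∀ (k i : ℕ) a, a ∈ 𝒜 i → (i : ℤ) = k * d + n → ∃ m, ∀ x hx, vA m x hx = gfrac x hx k a)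
    (hMfrac : ∀ m, ∃ (k i : ℕ) (a : A), a ∈ 𝒜 i ∧ (i : ℤ) = k * d + n ∧ ∀ x hx, vA m x hx = gfrac x hx k a)
    (hNfrac : ∀ m, ∃ (k i : ℕ) (b : B), b ∈ ℬ i ∧ (i : ℤ) = k * d + n ∧ ∀ y hy, vB m y hy = gfrac y hy k b)
    (θ : M → N)
    (hθ : ∀ m y hy, vB (θ m) y hy = GrTwist.locMap ψ hψ y (vA m (ProjectiveSpectrum.comap ψ hψ y) hy))
    (L : S₀ ⊗[R₀] M →+ N) (hL : ∀ c m, L (c ⊗ₜ m) = c • θ m) :
    Function.Bijective L := by
  classical
  have hg' : ψ g ∈ ℬ d := ψ.map_mem hg
  have hEcomp : ∀ (r : R') (a : A) (i : ℕ),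
      (decompose ℬ (Algebra.IsPushout.equiv R R' A B (r ⊗ₜ a)) i : B) =
        algebraMap R' B r * ψ (decompose 𝒜 a i : A) := fun r a i => by
    rw [Algebra.IsPushout.equiv_tmul, ← hψA, DirectSum.coe_decompose_mul_of_left_mem_zero ℬ (hR' r),
      GradedRingHom.map_directSumDecompose]
  -- the functions
  choose cA hcA using fun (l : ℕ) (a : A) =>
    hAmk l (decompose 𝒜 a (l * d) : A) (SetLike.coe_mem _)
  choose cB hcB using fun (l : ℕ) (b : B) =>
    hBmk l (decompose ℬ b (l * d) : B) (SetLike.coe_mem _)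
  have hcB0 : ∀ (r : R') y hy, eB (cB 0 (algebraMap R' B r)) y hy = gfrac y hy 0 (algebraMap R' B r) :=
    fun r y hy => by
      rw [hcB, decompose_of_mem_same ℬ (by simpa using hR' r)]
  let c : R' →+ S₀ := AddMonoidHom.mk' (fun r => cB 0 (algebraMap R' B r)) fun r r' =>
    hBinj _ _ fun y hy => by rw [hBadd, hcB0, hcB0, hcB0, map_add, gfrac_add]
  -- the sections
  choose C hC using fun (k i : ℕ) (hik : (i : ℤ) = k * d + n) (a : A) =>
    hMmk k i (decompose 𝒜 a i : A) (SetLike.coe_mem _) hik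
  let CA : ∀ (k i : ℕ), (i : ℤ) = k * d + n → A →+ M := fun k i hik =>
    AddMonoidHom.mk' (C k i hik) fun a b => hMinj _ _ fun x hx => by
      rw [hMadd, hC, hC, hC, decompose_add, DirectSum.add_apply, AddMemClass.coe_add, gfrac_add]
  have hCA : ∀ k i hik a x hx, vA (CA k i hik a) x hx = gfrac x hx k (decompose 𝒜 a i : A) := hC
  have hbal : ∀ (k i : ℕ) (hik : (i : ℤ) = k * d + n) (r₀ : R) (r : R') (a : A),
      (c (r₀ • r) ⊗ₜ[R₀] CA k i hik a : S₀ ⊗[R₀] M) = c r ⊗ₜ CA k i hik (r₀ • a) :=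
    fun k i hik r₀ r a => by
    have h1 : c (r₀ • r) = cA 0 (algebraMap R A r₀) • c r := hBinj _ _ fun y hy => by
      rw [Algebra.smul_def (cA 0 (algebraMap R A r₀)), hBmul, hBA, hcA,
        decompose_of_mem_same 𝒜 (by simpa using hR r₀), locMap_gfrac, hψA (algebraMap R A r₀),
        ← IsScalarTower.algebraMap_apply R A B]
      change eB (cB 0 _) y hy = _ * eB (cB 0 _) y hy
      rw [hcB0, hcB0, gfrac_mul, Algebra.smul_def, map_mul, ← IsScalarTower.algebraMap_apply R R' B]
    rw [h1, TensorProduct.smul_tmul]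
    congr 1
    refine hMinj _ _ fun x hx => ?_
    rw [hMsmul, hcA, decompose_of_mem_same 𝒜 (by simpa using hR r₀), hCA, hCA, gfrac_mul, zero_add,
      Algebra.smul_def, DirectSum.coe_decompose_mul_of_left_mem_zero 𝒜 (hR r₀)]
  let P : ∀ (k i : ℕ), (i : ℤ) = k * d + n → R' ⊗[R] A →+ S₀ ⊗[R₀] M := fun k i hik =>
    TensorProduct.liftAddHom
      (AddMonoidHom.mk' (fun r => AddMonoidHom.mk'
        (fun a => c r ⊗ₜ[R₀] CA k i hik a)
        fun a b => by rw [map_add, TensorProduct.tmul_add])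
        fun r r' => by ext a; exact (congrArg (· ⊗ₜ _) (map_add c r r')).trans (TensorProduct.add_tmul _ _ _))
      (fun r₀ r a => hbal k i hik r₀ r a)
  have hPt : ∀ k i hik r a, P k i hik (r ⊗ₜ a) = c r ⊗ₜ CA k i hik a :=
    fun k i hik r a => TensorProduct.liftAddHom_tmul _ _ _ _
  have hLP : ∀ k i hik w y hy, vB (L (P k i hik w)) y hy =
      gfrac y hy k (decompose ℬ (Algebra.IsPushout.equiv R R' A B w) i : B) := fun k i hik w y hy => by
    induction w using TensorProduct.induction_on with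
    | zero =>
      have h0 : vB 0 y hy = 0 := by simpa using hNadd 0 0 y hy
      simp [h0, gfrac_zero]
    | add w w' hw hw' =>
      rw [map_add, map_add, hNadd, hw, hw', map_add, decompose_add, DirectSum.add_apply,
        AddMemClass.coe_add, gfrac_add]
    | tmul r a =>
      rw [hPt, hL, hNsmul, hθ, hCA, locMap_gfrac, hEcomp]
      change eB (cB 0 _) y hy * _ = _
      rw [hcB0, gfrac_mul, zero_add]
  have hshift : ∀ (k i l : ℕ) (hik : (i : ℤ) = k * d + n)
      (hik' : ((i + l * d : ℕ) : ℤ) = ((k + l : ℕ) : ℤ) * d + n) (w : R' ⊗[R] A),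
      P (k + l) (i + l * d) hik' (w * (1 ⊗ₜ (g ^ l))) = P k i hik w := fun k i l hik hik' w => by
    induction w using TensorProduct.induction_on with
    | zero => simp
    | add x y hx hy => rw [add_mul, map_add, map_add, hx, hy]
    | tmul r a =>
      rw [Algebra.TensorProduct.tmul_mul_tmul, mul_one, hPt, hPt]
      congr 1
      refine hMinj _ _ fun x hx => ?_
      rw [hCA, hCA]
      refine gfrac_congr x hx ?_
      rw [mul_comm a, show i + l * d = l * d + i from add_comm _ _,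
        show g ^ l * a = g ^ l • a from rfl,
        decompose_smul_of_mem_left 𝒜 (by simpa using SetLike.pow_mem_graded l hg) a i,
        smul_eq_mul, pow_add]
      ring
  -- the projection of a tensor
  let pr : ℕ → R' ⊗[R] A →+ R' ⊗[R] A := fun i =>
    (LinearMap.lTensor R' ({ toFun := fun a => (decompose 𝒜 a i : A)
                             map_add' := fun a b => by simp
                             map_smul' := fun r a => by
                              rw [Algebra.smul_def, DirectSum.coe_decompose_mul_of_left_mem_zero 𝒜 (hR r),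
                                RingHom.id_apply, Algebra.smul_def] } : A →ₗ[R] A)).toAddMonoidHom
  have hPpr : ∀ k i hik w, P k i hik (pr i w) = P k i hik w := fun k i hik w => by
    induction w using TensorProduct.induction_on with
    | zero => simp
    | add x y hx hy => simp only [map_add, hx, hy]
    | tmul r a =>
      change P k i hik (r ⊗ₜ (decompose 𝒜 a i : A)) = _
      rw [hPt, hPt]
      congr 1
      refine hMinj _ _ fun x hx => ?_
      rw [hCA, hCA, decompose_of_mem_same 𝒜 (SetLike.coe_mem _)]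
  have hEpr : ∀ i w, Algebra.IsPushout.equiv R R' A B (pr i w) =
      (decompose ℬ (Algebra.IsPushout.equiv R R' A B w) i : B) := fun i w => by
    induction w using TensorProduct.induction_on with
    | zero => simp
    | add x y hx hy => simp only [map_add, hx, hy, decompose_add, DirectSum.add_apply, AddMemClass.coe_add]
    | tmul r a =>
      rw [hEcomp]
      change Algebra.IsPushout.equiv R R' A B (r ⊗ₜ (decompose 𝒜 a i : A)) = _
      rw [Algebra.IsPushout.equiv_tmul, ← hψA]
  have hge : ∀ k : ℕ, n.natAbs ≤ k → ∃ i : ℕ, (i : ℤ) = k * d + n := fun k hk => by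
    refine ⟨((k : ℤ) * d + n).toNat, Int.toNat_of_nonneg ?_⟩
    have h1 : k ≤ k * d := Nat.le_mul_of_pos_right _ hd
    have : (k : ℤ) ≤ (k : ℤ) * d := by exact_mod_cast h1
    omega
  have hall : ∀ z : S₀ ⊗[R₀] M, ∃ k i hik w, P k i hik w = z := fun z => by
    induction z using TensorProduct.induction_on with
    | zero =>
      obtain ⟨i, hi⟩ := hge n.natAbs le_rfl
      exact ⟨_, i, hi, 0, map_zero _⟩
    | add x y hx hy =>
      obtain ⟨k, i, hik, w, rfl⟩ := hx
      obtain ⟨k', i', hik', w', rfl⟩ := hy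
      have hi : i + k' * d = i' + k * d := by zify; linarith
      refine ⟨k + k', i + k' * d, by push_cast; rw [hik]; ring,
        w * (1 ⊗ₜ (g ^ k')) + w' * (1 ⊗ₜ (g ^ k)), ?_⟩
      rw [map_add, hshift k i k' hik]
      congr 1
      rw [← hshift k' i' k hik' (by push_cast; rw [hik']; ring) w']
      (congr 2; omega)
    | tmul φ s =>
      obtain ⟨l, b', hb', hφ⟩ := hBfrac φ
      obtain ⟨k, i, b, hb, hi, hs⟩ := hMfrac s
      obtain ⟨w, hw⟩ := (Algebra.IsPushout.equiv R R' A B).surjective b'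
      have hik2 : ((l * d + i : ℕ) : ℤ) = ((l + k : ℕ) : ℤ) * d + n := by push_cast; rw [hi]; ring
      obtain rfl : s = CA k i hi b := hMinj _ _ fun x hx => by
        rw [hs, hCA, decompose_of_mem_same 𝒜 hb]
      have claim : ∀ w : R' ⊗[R] A,
          (cB l (Algebra.IsPushout.equiv R R' A B w) ⊗ₜ[R₀] CA k i hi b : S₀ ⊗[R₀] M) =
            P (l + k) (l * d + i) hik2 (w * (1 ⊗ₜ b)) := fun w => by
        induction w using TensorProduct.induction_on with
        | zero =>
          have h0 : cB l 0 = 0 := hBinj _ _ fun y hy => by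
            have h1 : eB 0 y hy = 0 := by simpa using hBadd 0 0 y hy
            rw [hcB, h1]
            simp [gfrac_zero]
          simp [h0]
        | add x y hx hy =>
          rw [add_mul, map_add, map_add, ← hx, ← hy, ← TensorProduct.add_tmul]
          congr 1
          refine hBinj _ _ fun z hz => ?_
          rw [hBadd, hcB, hcB, hcB, decompose_add, DirectSum.add_apply, AddMemClass.coe_add, gfrac_add]
        | tmul r a₀ =>
          rw [Algebra.TensorProduct.tmul_mul_tmul, mul_one, hPt]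
          have h1 : cB l (Algebra.IsPushout.equiv R R' A B (r ⊗ₜ a₀)) = cA l a₀ • c r := by
            refine hBinj _ _ fun y hy => ?_
            rw [hcB, hEcomp, Algebra.smul_def (cA l a₀), hBmul, hBA, hcA, locMap_gfrac]
            change _ = _ * eB (cB 0 _) y hy
            rw [hcB0, gfrac_mul, add_zero, mul_comm]
          rw [h1, TensorProduct.smul_tmul]
          congr 1
          refine hMinj _ _ fun x hx => ?_
          rw [hMsmul, hcA, hCA, hCA, decompose_of_mem_same 𝒜 hb, gfrac_mul]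
          refine congrArg _ ?_
          rw [show a₀ * b = a₀ • b from rfl, decompose_smul_of_mem_right 𝒜 hb a₀ (l * d), smul_eq_mul]
      refine ⟨_, _, _, w * (1 ⊗ₜ b), (claim w).symm.trans ?_⟩
      congr 1
      refine hBinj _ _ fun y hy => ?_
      rw [hcB, hw, decompose_of_mem_same ℬ hb', hφ]
  constructor
  · refine (injective_iff_map_eq_zero L).mpr fun z hz => ?_
    obtain ⟨k, i, hik, w, rfl⟩ := hall z
    obtain ⟨N', hN⟩ := exists_pow_smul_eq_zero ℬ hd hg'
      (SetLike.coe_mem (decompose ℬ (Algebra.IsPushout.equiv R R' A B w) i)) fun y hy => by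
        refine (mk_eq_zero_iff ℬ (s := ⟨ψ g ^ k, fun h => hy (y.isPrime.mem_of_pow_mem k h)⟩)).mp ?_
        have h0 : vB 0 y hy = 0 := by simpa using hNadd 0 0 y hy
        exact (hLP k i hik w y hy).symm.trans (hz ▸ h0)
    rw [← hshift k i N' hik (by push_cast; rw [hik]; ring), ← hPpr]
    refine (congrArg _ ((Algebra.IsPushout.equiv R R' A B).injective ?_)).trans (map_zero _)
    rw [hEpr, map_zero, map_mul, Algebra.IsPushout.equiv_tmul, map_one, one_mul, ← hψA, map_pow,
      mul_comm (Algebra.IsPushout.equiv R R' A B w), show i + N' * d = N' * d + i from add_comm _ _,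
      show ψ g ^ N' * Algebra.IsPushout.equiv R R' A B w = ψ g ^ N' • Algebra.IsPushout.equiv R R' A B w
        from rfl,
      decompose_smul_of_mem_left ℬ (by simpa using SetLike.pow_mem_graded N' hg'), hN]
  · intro s
    obtain ⟨k, i, b, hb, hi, hs⟩ := hNfrac s
    obtain ⟨w, hw⟩ := (Algebra.IsPushout.equiv R R' A B).surjective b
    refine ⟨P k i hi w, hNinj _ _ fun y hy => ?_⟩
    rw [hLP, hw, decompose_of_mem_same ℬ hb, hs]

end map

end Groth.RelTw
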