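import Groth.Agent.RelTwist.Sections
import Groth.Agent.PicAux.GenLocal
import Groth.Agent.PicAux.Pullback

/-!
# Bases of the twisting sheaves, gradings by additive subgroups
-/

universe u

open CategoryTheory AlgebraicGeometry Opposite TopologicalSpace DirectSum

set_option backward.isDefEq.respectTransparency.types false

namespace Groth.RelTw

open Groth.PicAux

variable {A σ : Type u} [CommRing A] [SetLike σ A] [AddSubgroupClass σ A] {𝒜 : ℕ → σ} [GradedRing 𝒜]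

/-- The value of a section at a point. -/
noncomputable def gval {n : ℤ} {U : (Proj 𝒜).Opens} (s : Γ(GrTwist.twist 𝒜 n, U))
    (x : ProjectiveSpectrum 𝒜) (hx : x ∈ U) : GrTwist.Loc 𝒜 x :=
  ((s : GrTwist.sectN (𝒜 := 𝒜) n (op U)).1 ⟨x, hx⟩).1

theorem val_eq_gval {n : ℤ} {U : (Proj 𝒜).Opens} (s : Γ(GrTwist.twist 𝒜 n, U)) (y : U) :
    GrTwist.val s y = gval s y.1 y.2 := rfl

theorem gval_ext {n : ℤ} {U : (Proj 𝒜).Opens} {s t : Γ(GrTwist.twist 𝒜 n, U)}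
    (h : ∀ x hx, gval s x hx = gval t x hx) : s = t :=
  Subtype.ext (funext fun x => Subtype.ext (h x.1 x.2))

@[simp] theorem gval_res {n : ℤ} {U V : (Proj 𝒜).Opens} (h : V ≤ U)
    (s : Γ(GrTwist.twist 𝒜 n, U)) (x : ProjectiveSpectrum 𝒜) (hx : x ∈ V) :
    gval (res _ h s) x hx = gval s x (h hx) := rfl

theorem gval_smul {n : ℤ} {U : (Proj 𝒜).Opens} (r : Γ(Proj 𝒜, U))
    (s : Γ(GrTwist.twist 𝒜 n, U)) (x : ProjectiveSpectrum 𝒜) (hx : x ∈ U) :
    gval (r • s) x hx = (r.1 ⟨x, hx⟩).val * gval s x hx :=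
  GrTwist.coe_smul_val n x (r.1 ⟨x, hx⟩) _

theorem fun_ext {U : (Proj 𝒜).Opens} {r r' : Γ(Proj 𝒜, U)}
    (h : ∀ (x : ProjectiveSpectrum 𝒜) (hx : x ∈ U), (r.1 ⟨x, hx⟩).val = (r'.1 ⟨x, hx⟩).val) :
    r = r' :=
  Subtype.ext (funext fun x => HomogeneousLocalization.val_injective _ (h x.1 x.2))

/-- The section `g / h` of `O(e - e')`. -/
noncomputable def frac {e e' : ℕ} {g h : A} (hg : g ∈ 𝒜 e) (hh : h ∈ 𝒜 e') {n : ℤ}
    (hn : (e : ℤ) = e' + n) (U : (Proj 𝒜).Opens)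
    (hU : ∀ x : ProjectiveSpectrum 𝒜, x ∈ U → h ∉ x.asHomogeneousIdeal) :
    Γ(GrTwist.twist 𝒜 n, U) :=
  fracSect 𝒜 n U g hg h hh (fun x => hU x.1 x.2) (Or.inl hn)

@[simp] theorem gval_frac {e e' : ℕ} {g h : A} (hg : g ∈ 𝒜 e) (hh : h ∈ 𝒜 e') {n : ℤ}
    (hn : (e : ℤ) = e' + n) (U : (Proj 𝒜).Opens)
    (hU : ∀ x : ProjectiveSpectrum 𝒜, x ∈ U → h ∉ x.asHomogeneousIdeal)
    (x : ProjectiveSpectrum 𝒜) (hx : x ∈ U) :
    gval (frac hg hh hn U hU) x hx = Localization.mk g ⟨h, hU x hx⟩ := rfl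

theorem isUnit_frac {x : ProjectiveSpectrum 𝒜} {g h : A} (hg : g ∉ x.asHomogeneousIdeal)
    (hh : h ∉ x.asHomogeneousIdeal) :
    IsUnit (Localization.mk g ⟨h, hh⟩ : GrTwist.Loc 𝒜 x) := by
  refine IsUnit.of_mul_eq_one (Localization.mk h ⟨g, hg⟩) ?_
  rw [Localization.mk_mul]
  exact (congrArg₂ Localization.mk (mul_comm g h) (Subtype.ext rfl)).trans (Localization.mk_self
    (⟨h * g, x.isPrime.mul_notMem hh hg⟩ : x.asHomogeneousIdeal.toIdeal.primeCompl))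

/-- A fraction with numerator and denominator invertible on `U` is a basis of the twisting sheaf. -/
theorem gen_frac {e e' : ℕ} {g h : A} (hg : g ∈ 𝒜 e) (hh : h ∈ 𝒜 e') {n : ℤ}
    (hn : (e : ℤ) = e' + n) (U : (Proj 𝒜).Opens)
    (hUh : ∀ x : ProjectiveSpectrum 𝒜, x ∈ U → h ∉ x.asHomogeneousIdeal)
    (hUg : ∀ x : ProjectiveSpectrum 𝒜, x ∈ U → g ∉ x.asHomogeneousIdeal) :
    Gen (GrTwist.twist 𝒜 n) U (frac hg hh hn U hUh) := by
  intro V hV
  constructor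
  · intro r r' hr
    refine fun_ext fun x hx => ?_
    have h1 := congrArg (fun s => gval s x hx) hr
    simp only [gval_smul, gval_res, gval_frac] at h1
    exact (isUnit_frac (hUg x (hV hx)) (hUh x (hV hx))).mul_left_injective h1
  · intro s
    have hb : ∀ x : V, ∃ (W : (Proj 𝒜).Opens) (_ : x.1 ∈ W) (_ : W ≤ V) (j : ℕ) (a b : 𝒜 j)
        (hb : ∀ y : W, (b : A) ∉ y.1.asHomogeneousIdeal), ∀ (y : ProjectiveSpectrum 𝒜) (hy : y ∈ W)
          (hyV : y ∈ V), gval s y hyV =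
            (HomogeneousLocalization.mk ⟨j, a, b, hb ⟨y, hy⟩⟩ :
              GrTwist.A0 𝒜 y).val * Localization.mk g ⟨h, hUh y (hV hyV)⟩ := by
      intro x
      obtain ⟨W, hxW, ι, i, j, ⟨a, ha⟩, ⟨b, hb⟩, hnin, hdeg, hval⟩ :=
        (s : GrTwist.sectN (𝒜 := 𝒜) n (op V)).2 x
      replace hdeg : (i : ℤ) = j + n ∨ a = 0 := hdeg
      have hah : a * h ∈ 𝒜 (j + e) := by
        rcases hdeg with h' | h'
        · exact (show i + e' = j + e by omega) ▸ SetLike.mul_mem_graded ha hh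
        · rw [h', zero_mul]; exact zero_mem _
      refine ⟨W, hxW, ι.le, j + e, ⟨a * h, hah⟩, ⟨b * g, SetLike.mul_mem_graded hb hg⟩,
        fun y => y.1.isPrime.mul_notMem (hnin y) (hUg _ (hV (ι.le y.2))), fun y hy hyV => ?_⟩
      rw [HomogeneousLocalization.val_mk, Localization.mk_mul]
      refine (hval ⟨y, hy⟩).trans ?_
      refine (loc_mk_eq).mpr ⟨1, ?_⟩
      simp only [one_smul, Submonoid.smul_def, Submonoid.coe_mul, smul_eq_mul]
      ring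
    choose W hxW hWV j a b hbn hs using hb
    refine ⟨(⟨fun x => HomogeneousLocalization.mk ⟨j x, a x, b x, hbn x ⟨x.1, hxW x⟩⟩, fun x => ?_⟩ :
      (ProjectiveSpectrum.Proj.structureSheaf 𝒜).1.obj (op V)), gval_ext fun x hx => ?_⟩
    · refine ⟨W x, hxW x, homOfLE (hWV x), j x, a x, b x, fun y => hbn x y, fun y => ?_⟩
      refine HomogeneousLocalization.val_injective _ ?_
      refine (isUnit_frac (hUg _ (hV (hWV x y.2))) (hUh _ (hV (hWV x y.2)))).mul_left_injective ?_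
      exact (hs ⟨y.1, hWV x y.2⟩ y.1 (hxW _) (hWV x y.2)).symm.trans (hs x y.1 y.2 (hWV x y.2))
    · rw [gval_smul, gval_res, gval_frac]
      exact (hs ⟨x, hx⟩ x (hxW _) hx).symm

theorem exists_frac_cover (hgen : (HomogeneousIdeal.irrelevant 𝒜).toIdeal ≤ Ideal.span (𝒜 1 : Set A))
    (x : ProjectiveSpectrum 𝒜) : ∃ f ∈ 𝒜 1, f ∉ x.asHomogeneousIdeal := by
  by_contra hc
  push Not at hc
  exact x.not_irrelevant_le (hgen.trans (Ideal.span_le.mpr hc))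

section map

variable {B τ : Type u} [CommRing B] [SetLike τ B] [AddSubgroupClass τ B] {ℬ : ℕ → τ} [GradedRing ℬ]
  (ψ : 𝒜 →+*ᵍ ℬ) (hψ : HomogeneousIdeal.irrelevant ℬ ≤ (HomogeneousIdeal.irrelevant 𝒜).map ψ)

/-- The functions of `Proj.map`. -/
theorem map_app_val {U : (Proj 𝒜).Opens} (r : Γ(Proj 𝒜, U)) (y : ProjectiveSpectrum ℬ)
    (hy : y ∈ Proj.map ψ hψ ⁻¹ᵁ U) :
    (((Proj.map ψ hψ).app U r).1 ⟨y, hy⟩).val =
      GrTwist.locMap ψ hψ y (r.1 ⟨ProjectiveSpectrum.comap ψ hψ y, hy⟩).val :=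
  HomogeneousLocalization.val_localRingHom _

end map

end Groth.RelTw
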