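/-
`O(1)^{⊗ n} ≅ O(n)` on relative `Proj`, and generation of high twists relative to the base.
-/
import Groth.Agent.RelTwist.Twist
import Groth.Agent.RelTwist.Exist
import Groth.Agent.PicAux.PicLaw
import Groth.Agent.Ega2Proj.RelProjAmple
import Groth.Agent.Ega2Proj.SpanOn
import Groth.Agent.RelVA.GenPush
import Groth.Agent.PicAux.Powers

set_option autoImplicit false
universe u
open CategoryTheory CategoryTheory.Limits AlgebraicGeometry Opposite TopologicalSpace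

set_option backward.isDefEq.respectTransparency.types false

namespace Groth.RelTw

variable {S P : Scheme.{u}} {𝒮 : RelProj.QCGrAlg S} {p : P ⟶ S}
  {chart : ∀ (U : S.Opens) (hU : IsAffineOpen U), (((p ⁻¹ᵁ U : P.Opens) : Scheme.{u}) ≅ Proj (𝒮.deg U hU))}

/-- Twisting sheaves of the same degree are isomorphic. -/
theorem nonempty_twist_iso (hP : RelProj.IsRelProj 𝒮 p chart) (hgen : 𝒮.IsGenDegOne) {n : ℤ}
    {L : P.Modules} {lam : ∀ (U : S.Opens) (hU : IsAffineOpen U),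
      L ⟶ (Scheme.Modules.pushforward (RelProj.emb p chart U hU)).obj (GrTwist.twist (𝒮.deg U hU) n)}
    (hL : RelProj.IsRelTwist 𝒮 p chart n L lam)
    {L' : P.Modules} {lam' : ∀ (U : S.Opens) (hU : IsAffineOpen U),
      L' ⟶ (Scheme.Modules.pushforward (RelProj.emb p chart U hU)).obj (GrTwist.twist (𝒮.deg U hU) n)}
    (hL' : RelProj.IsRelTwist 𝒮 p chart n L' lam') : Nonempty (L ≅ L') := by
  have key : ∀ (k : ℤ), k = 0 + n → ∀ {C : P.Modules} {lC : ∀ (U : S.Opens) (hU : IsAffineOpen U),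
      C ⟶ (Scheme.Modules.pushforward (RelProj.emb p chart U hU)).obj (GrTwist.twist (𝒮.deg U hU) k)},
      RelProj.IsRelTwist 𝒮 p chart k C lC →
      Nonempty (CohB1.tensorMod (relTwist hP 0) (relTwist hP n) ≅ C) := by
    intro k hk C lC hC
    subst hk
    exact nonempty_tensor_iso hP hgen (isRelTwist_relTwist hP 0) (isRelTwist_relTwist hP n) hC
  obtain ⟨e⟩ := key n (by omega) hL
  obtain ⟨e'⟩ := key n (by omega) hL'
  exact ⟨e.symm ≪≫ e'⟩

theorem nonempty_tensor_iso' (hP : RelProj.IsRelProj 𝒮 p chart) (hgen : 𝒮.IsGenDegOne) {m m' k : ℤ}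
    (hk : k = m + m')
    {A : P.Modules} {lA : ∀ (U : S.Opens) (hU : IsAffineOpen U),
      A ⟶ (Scheme.Modules.pushforward (RelProj.emb p chart U hU)).obj (GrTwist.twist (𝒮.deg U hU) m)}
    (hA : RelProj.IsRelTwist 𝒮 p chart m A lA)
    {B : P.Modules} {lB : ∀ (U : S.Opens) (hU : IsAffineOpen U),
      B ⟶ (Scheme.Modules.pushforward (RelProj.emb p chart U hU)).obj (GrTwist.twist (𝒮.deg U hU) m')}
    (hB : RelProj.IsRelTwist 𝒮 p chart m' B lB)
    {C : P.Modules} {lC : ∀ (U : S.Opens) (hU : IsAffineOpen U),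
      C ⟶ (Scheme.Modules.pushforward (RelProj.emb p chart U hU)).obj (GrTwist.twist (𝒮.deg U hU) k)}
    (hC : RelProj.IsRelTwist 𝒮 p chart k C lC) :
    Nonempty (CohB1.tensorMod A B ≅ C) := by
  subst hk
  exact nonempty_tensor_iso hP hgen hA hB hC

theorem nonempty_tensorPow_relTwist (hP : RelProj.IsRelProj 𝒮 p chart) (hgen : 𝒮.IsGenDegOne) (n : ℕ) :
    Nonempty (CohB1.tensorPow (relTwist hP 1) (n + 1) ≅ relTwist hP (n + 1 : ℕ)) := by
  induction n with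
  | zero =>
    obtain ⟨e⟩ := Groth.PicAux.tensorMod_one (isInvertible (relLam hP 1) (isRelTwist_relTwist hP 1) hgen)
    obtain ⟨e'⟩ := nonempty_twist_iso hP hgen (isRelTwist_relTwist hP 1)
      (L' := relTwist hP ((0 + 1 : ℕ) : ℤ)) (isRelTwist_relTwist hP ((0 + 1 : ℕ) : ℤ))
    exact ⟨e ≪≫ e'⟩
  | succ k ih =>
    obtain ⟨e⟩ := ih
    obtain ⟨e'⟩ := nonempty_tensor_iso' hP hgen (k := ((k + 1 + 1 : ℕ) : ℤ)) (by push_cast; rfl)
      (isRelTwist_relTwist hP ((k + 1 : ℕ) : ℤ)) (isRelTwist_relTwist hP 1)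
      (isRelTwist_relTwist hP ((k + 1 + 1 : ℕ) : ℤ))
    exact ⟨PicGrp.tensorModIso e (Iso.refl _) ≪≫ e'⟩

/-- EGA II 3.4.7/3.4.8: high twists are generated by their sections over preimages of opens of the base. -/
theorem exists_counit_twist_epi [CompactSpace S] (hP : RelProj.IsRelProj 𝒮 p chart) (hgen : 𝒮.IsGenDegOne)
    (hft : 𝒮.IsFTDeg 1) (F : P.Modules) (hFq : Coh.IsQCoh F) (hFt : CohB1.IsFT F) :
    ∃ n₀ : ℤ, ∀ (n : ℤ), n₀ ≤ n → ∀ (L : P.Modules)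
      (lam : ∀ (U : S.Opens) (hU : IsAffineOpen U),
      L ⟶ (Scheme.Modules.pushforward (RelProj.emb p chart U hU)).obj (GrTwist.twist (𝒮.deg U hU) n)),
      RelProj.IsRelTwist 𝒮 p chart n L lam →
        Epi ((Scheme.Modules.pullbackPushforwardAdjunction p).counit.app (CohB1.tensorMod F L)) := by
  have : IsProper p := Groth.Chow.isProper_of_isProjective
    ⟨𝒮, P, p, chart, Iso.refl P, hgen, hft, hP, Category.id_comp p⟩
  have : CompactSpace P := QuasiCompact.compactSpace_of_compactSpace p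
  have hamp := Groth.Ega2Proj.isRelAmple_relTwist_one hgen hft hP (isRelTwist_relTwist hP 1)
  have : F.IsQuasicoherent := hFq
  let L₁ := relTwist hP 1
  have hex : ∀ x : P, ∃ (V : S.Opens) (n₀ : ℕ), p x ∈ V ∧ ∀ n, n₀ ≤ n → ∀ (z : P) (hz : z ∈ p ⁻¹ᵁ V),
      Groth.Ega2Proj.spanOn (CohB1.tensorMod F (CohB1.tensorPow L₁ n)) (p ⁻¹ᵁ V) z hz = ⊤ := by
    intro x
    obtain ⟨V, hV, hxV, -⟩ := exists_isAffineOpen_mem_and_subset (x := p x) (U := (⊤ : S.Opens)) trivial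
    let D : P.Opens := p ⁻¹ᵁ V
    have hq : ((Scheme.Modules.pullback D.ι).obj F).IsQuasicoherent := Groth.QCohMod.isQCoh_pullback_obj _ F
    have : (F.restrict D.ι).IsQuasicoherent :=
      (Groth.QCohMod.isQCoh_iff_of_iso (Groth.Ega2Proj.restrictIsoPullback D.ι F)).2 hq
    obtain ⟨n₀, hn₀⟩ := Groth.Ega2Proj.exists_spans_twist (hamp.2 ⟨V, hV⟩) (F.restrict D.ι)
      (Groth.QCohMod.isFT_of_iso (Groth.Ega2Proj.restrictIsoPullback D.ι F).symm
        (Groth.QCohMod.isFT_pullback D.ι F hFt))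
    refine ⟨V, n₀, hxV, fun n hn z hz => Groth.Ega2Proj.spanOn_eq_top_of_restrict _ D ?_ z hz⟩
    obtain ⟨e⟩ := Groth.Ega2Proj.exists_tensorMod_restrict (L := F) (M := CohB1.tensorPow L₁ n) D.ι
    obtain ⟨φ⟩ := Groth.Ega2Proj.exists_tensorPow_restrict (L := L₁) D.ι n
    exact (hn₀ n hn).of_iso (PicGrp.tensorModIso (Iso.refl _) φ.symm ≪≫ e.symm)
  choose V n₀ hxV hspan using hex
  obtain ⟨s, hs⟩ := isCompact_univ.elim_finite_subcover (fun x => (p ⁻¹ᵁ V x : Set P))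
    (fun x => (p ⁻¹ᵁ V x).isOpen) (fun x _ => Set.mem_iUnion.2 ⟨x, hxV x⟩)
  refine ⟨((s.sup n₀ + 1 : ℕ) : ℤ), fun n hn L lam hL => ?_⟩
  obtain ⟨k, rfl⟩ : ∃ k : ℕ, n = ((k + 1 : ℕ) : ℤ) := ⟨n.toNat - 1, by omega⟩
  have hepi : Epi ((Scheme.Modules.pullbackPushforwardAdjunction p).counit.app
      (CohB1.tensorMod F (CohB1.tensorPow L₁ (k + 1)))) :=
    Groth.Ega2Proj.epi_counit_of_spanOn p _ fun z => by
      obtain ⟨x, hx, hz⟩ := Set.mem_iUnion₂.1 (hs (Set.mem_univ z))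
      exact ⟨V x, hz, hspan x (k + 1) ((Finset.le_sup hx).trans (by omega)) z hz⟩
  obtain ⟨e⟩ := nonempty_tensorPow_relTwist hP hgen k
  obtain ⟨e'⟩ := nonempty_twist_iso hP hgen (isRelTwist_relTwist hP ((k + 1 : ℕ) : ℤ)) hL
  let η := PicGrp.tensorModIso (Iso.refl F) (e ≪≫ e')
  have hn := (Scheme.Modules.pullbackPushforwardAdjunction p).counit.naturality η.hom
  simp only [Functor.id_map, Functor.comp_map] at hn
  exact epi_of_epi_fac hn

/-- `O(0)` is trivial. -/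
theorem nonempty_relTwist_zero (hP : RelProj.IsRelProj 𝒮 p chart) (hgen : 𝒮.IsGenDegOne) :
    Nonempty (relTwist hP 0 ≅ Coh.structureModule P) := by
  obtain ⟨M, -, hM⟩ := Groth.PicAux.exists_isInverseOf (isInvertible (relLam hP 0) (isRelTwist_relTwist hP 0) hgen)
  obtain ⟨i⟩ := hM
  obtain ⟨e⟩ := nonempty_tensor_iso' hP hgen (show (0 : ℤ) = 0 + 0 from rfl) (isRelTwist_relTwist hP 0)
    (isRelTwist_relTwist hP 0) (isRelTwist_relTwist hP 0)
  obtain ⟨a, -⟩ := Groth.PicAux.exists_associator (relTwist hP 0) (relTwist hP 0) M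
  exact ⟨(SecTwist.unitorR _).symm ≪≫ PicGrp.tensorModIso (Iso.refl _) i.symm ≪≫ a.symm ≪≫
    PicGrp.tensorModIso e (Iso.refl _) ≪≫ i⟩

/-- EGA II 3.4.? : finite type modules are quotients of twisted inverse images of finite type modules. -/
theorem exists_epi_pullback_twist (hP : RelProj.IsRelProj 𝒮 p chart)
    (hS : (CompactSpace S ∧ S.IsSeparated) ∨ NoetherianSpace S) (hgen : 𝒮.IsGenDegOne)
    (hft : 𝒮.IsFTDeg 1) (F : P.Modules) (hFq : Coh.IsQCoh F) (hFt : CohB1.IsFT F) :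
    ∃ n₀ : ℤ, ∀ (n : ℤ), n₀ ≤ n → ∀ (L : P.Modules)
      (lam : ∀ (U : S.Opens) (hU : IsAffineOpen U),
      L ⟶ (Scheme.Modules.pushforward (RelProj.emb p chart U hU)).obj (GrTwist.twist (𝒮.deg U hU) (-n))),
      RelProj.IsRelTwist 𝒮 p chart (-n) L lam →
        ∃ (G : S.Modules) (π : CohB1.tensorMod ((Scheme.Modules.pullback p).obj G) L ⟶ F),
          Coh.IsQCoh G ∧ CohB1.IsFT G ∧ Epi π := by
  obtain ⟨_, _⟩ := Groth.RelVA.qcqs_of_hyp hS
  have : IsProper p := Groth.Chow.isProper_of_isProjective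
    ⟨𝒮, P, p, chart, Iso.refl P, hgen, hft, hP, Category.id_comp p⟩
  have : CompactSpace P := QuasiCompact.compactSpace_of_compactSpace p
  have : F.IsQuasicoherent := hFq
  have hamp := Groth.Ega2Proj.isRelAmple_relTwist_one hgen hft hP (isRelTwist_relTwist hP 1)
  let L₁ := relTwist hP 1
  have hex : ∀ x : P, ∃ (V : S.affineOpens) (n₀ : ℕ), p x ∈ V.1 ∧ ∀ n, n₀ ≤ n → ∀ (z : P) (hz : z ∈ p ⁻¹ᵁ V.1),
      Groth.Ega2Proj.spanOn (CohB1.tensorMod F (CohB1.tensorPow L₁ n)) (p ⁻¹ᵁ V.1) z hz = ⊤ := by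
    intro x
    obtain ⟨V, hV, hxV, -⟩ := exists_isAffineOpen_mem_and_subset (x := p x) (U := (⊤ : S.Opens)) trivial
    let D : P.Opens := p ⁻¹ᵁ V
    have hq : ((Scheme.Modules.pullback D.ι).obj F).IsQuasicoherent := Groth.QCohMod.isQCoh_pullback_obj _ F
    have : (F.restrict D.ι).IsQuasicoherent :=
      (Groth.QCohMod.isQCoh_iff_of_iso (Groth.Ega2Proj.restrictIsoPullback D.ι F)).2 hq
    obtain ⟨n₀, hn₀⟩ := Groth.Ega2Proj.exists_spans_twist (hamp.2 ⟨V, hV⟩) (F.restrict D.ι)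
      (Groth.QCohMod.isFT_of_iso (Groth.Ega2Proj.restrictIsoPullback D.ι F).symm
        (Groth.QCohMod.isFT_pullback D.ι F hFt))
    refine ⟨⟨V, hV⟩, n₀, hxV, fun n hn z hz => Groth.Ega2Proj.spanOn_eq_top_of_restrict _ D ?_ z hz⟩
    obtain ⟨e⟩ := Groth.Ega2Proj.exists_tensorMod_restrict (L := F) (M := CohB1.tensorPow L₁ n) D.ι
    obtain ⟨φ⟩ := Groth.Ega2Proj.exists_tensorPow_restrict (L := L₁) D.ι n
    exact (hn₀ n hn).of_iso (PicGrp.tensorModIso (Iso.refl _) φ.symm ≪≫ e.symm)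
  choose V n₀ hxV hspan using hex
  obtain ⟨s, hs⟩ := isCompact_univ.elim_finite_subcover (fun x => (p ⁻¹ᵁ (V x).1 : Set P))
    (fun x => (p ⁻¹ᵁ (V x).1).isOpen) (fun x _ => Set.mem_iUnion.2 ⟨x, hxV x⟩)
  refine ⟨((s.sup n₀ + 1 : ℕ) : ℤ), fun n hn L lam hL => ?_⟩
  obtain ⟨k, rfl⟩ : ∃ k : ℕ, n = ((k + 1 : ℕ) : ℤ) := ⟨n.toNat - 1, by omega⟩
  let M := CohB1.tensorMod F (CohB1.tensorPow L₁ (k + 1))
  have hinv : PicF.IsInvertible (CohB1.tensorPow L₁ (k + 1)) :=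
    Groth.PicAux.isInvertible_tensorPow (isInvertible (relLam hP 1) (isRelTwist_relTwist hP 1) hgen) _
  have := Groth.PicAux.isQCoh_of_isInvertible hinv
  have : M.IsQuasicoherent := Groth.QCohMod.isQCoh_tensorMod
  obtain ⟨G, φ, hGq, hGt, hφ⟩ := Groth.RelVA.exists_ft_epi p M
    (Groth.QCohMod.isFT_tensorMod hFt (Groth.Ega2Proj.isFT_of_isInvertible hinv)) fun z => by
      obtain ⟨x, hx, hz⟩ := Set.mem_iUnion₂.1 (hs (Set.mem_univ z))
      exact ⟨V x, hz, hspan x (k + 1) ((Finset.le_sup hx).trans (by omega)) z hz⟩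
  have := Groth.PicAux.isEquivalence_tensorRightMod_of_isInvertible (isInvertible lam hL hgen)
  have : (DCoh.tensorRightMod L).PreservesEpimorphisms :=
    Functor.preservesEpimorphisms_of_adjunction (DCoh.tensorRightMod L).asEquivalence.toAdjunction
  have hE : Epi ((DCoh.tensorRightMod L).map φ) := @Functor.map_epi _ _ _ _ (DCoh.tensorRightMod L) _ _ _ φ hφ
  obtain ⟨e⟩ := nonempty_tensorPow_relTwist hP hgen k
  obtain ⟨e'⟩ := nonempty_tensor_iso' hP hgen (show (0 : ℤ) = ((k + 1 : ℕ) : ℤ) + -((k + 1 : ℕ) : ℤ) by omega)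
    (isRelTwist_relTwist hP ((k + 1 : ℕ) : ℤ)) hL (isRelTwist_relTwist hP 0)
  obtain ⟨z⟩ := nonempty_relTwist_zero hP hgen
  obtain ⟨a, -⟩ := Groth.PicAux.exists_associator F (CohB1.tensorPow L₁ (k + 1)) L
  let η : (DCoh.tensorRightMod L).obj M ≅ F :=
    a ≪≫ PicGrp.tensorModIso (Iso.refl F) (PicGrp.tensorModIso e (Iso.refl L) ≪≫ e' ≪≫ z) ≪≫ SecTwist.unitorR F
  exact ⟨G, (DCoh.tensorRightMod L).map φ ≫ η.hom, hGq, hGt, @epi_comp _ _ _ _ _ _ hE η.hom inferInstance⟩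

end Groth.RelTw
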