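import Groth.Agent.RelTwist.Taut
import Groth.Agent.PicAux.PushPull

/-!
# The projective bundle of an invertible module
-/

universe u

open CategoryTheory CategoryTheory.Limits AlgebraicGeometry Opposite TopologicalSpace Polynomial
open scoped HomogeneousIdeal

set_option backward.isDefEq.respectTransparency.types false

noncomputable section

namespace Groth.RelTw

open Groth.PicAux Groth.SymAlg

variable {S P : Scheme.{u}} {E : S.Modules} {𝒮 : RelProj.QCGrAlg S} {j : E ⟶ 𝒮.toModule}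
  (hj : RelProj.IsGrSymAlg E 𝒮 j) {p : P ⟶ S}
  {chart : ∀ (U : S.Opens) (hU : IsAffineOpen U), (((p ⁻¹ᵁ U : P.Opens) : Scheme.{u}) ≅ Proj (𝒮.deg U hU))}
  (hP : RelProj.IsRelProj 𝒮 p chart) [E.IsQuasicoherent]
  {U : S.Opens} {hU : IsAffineOpen U} {e : Γ(E, U)} (he : Gen E U e)

include he in
theorem exists_coeff_gen (x : Γ(E, U)) : ∃ r : Γ(S, U), r • e = x := by
  obtain ⟨r, hr⟩ := (he U le_rfl).2 x
  exact ⟨r, by simpa only [Groth.PicAux.res_self] using hr⟩

include hj he in
theorem basicOpen_eq_top : Proj.basicOpen (𝒮.deg U hU) (jel 𝒮 j U e) = ⊤ := by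
  refine eq_top_iff.2 fun y _ hy => ?_
  obtain ⟨x, hx⟩ := exists_notMem hj hU y
  obtain ⟨r, rfl⟩ := exists_coeff_gen he x
  refine hx ?_
  rw [show Groth.QCohMod.toB 𝒮.toQCAlg (j.app U (r • e)) = (𝒮.str.app (op U)).hom r * jel 𝒮 j U e from j.app_smul r e]
  exact y.asHomogeneousIdeal.toIdeal.mul_mem_left _ hy

include hj he in
theorem exists_eq_mul_pow {i : ℕ} {x : 𝒮.presheaf.obj (op U)} (hx : x ∈ 𝒮.deg U hU i) :
    ∃ r : Γ(S, U), x = (𝒮.str.app (op U)).hom r * jel 𝒮 j U e ^ i := by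
  obtain ⟨q, hq, rfl⟩ := exists_eq_liftSec hj hU hx
  suffices ∀ q k, ∃ r : Γ(S, U), liftSec 𝒮.toQCAlg j U ((symCo Γ(S, U) Γ(E, U) q).coeff k) =
      (𝒮.str.app (op U)).hom r * jel 𝒮 j U e ^ k by
    obtain ⟨r, hr⟩ := this q i
    rw [(mem_wt _).1 hq, coeff_monomial, if_pos rfl] at hr
    exact ⟨r, hr⟩
  intro q
  induction q using SymmetricAlgebra.induction with
  | algebraMap r =>
    intro k
    rw [symCo_algebraMap, coeff_C]
    split_ifs with hk
    · exact ⟨r, by rw [liftSec_algebraMap, hk, pow_zero, mul_one]⟩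
    · exact ⟨0, by rw [map_zero, map_zero, zero_mul]⟩
  | ι x =>
    intro k
    rw [symCo_ι, coeff_monomial]
    split_ifs with hk
    · obtain ⟨r, rfl⟩ := exists_coeff_gen he x
      exact ⟨r, by rw [liftSec_ι, ← hk, pow_one]; exact j.app_smul r e⟩
    · exact ⟨0, by rw [map_zero, map_zero, zero_mul]⟩
  | mul a b ha hb =>
    intro k
    choose ra hra using ha
    choose rb hrb using hb
    refine ⟨∑ c ∈ Finset.HasAntidiagonal.antidiagonal k, ra c.1 * rb c.2, ?_⟩
    rw [map_mul, coeff_mul, map_sum, map_sum, Finset.sum_mul]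
    refine Finset.sum_congr rfl fun c hc => ?_
    rw [map_mul, map_mul, hra, hrb, ← Finset.mem_antidiagonal.1 hc, pow_add]
    ring
  | add a b ha hb =>
    intro k
    obtain ⟨ra, hra⟩ := ha k
    obtain ⟨rb, hrb⟩ := hb k
    exact ⟨ra + rb, by rw [map_add, coeff_add, map_add, hra, hrb, map_add, add_mul]⟩

include hj hU he in
theorem eq_zero_of_mul_pow {r : Γ(S, U)} {k : ℕ}
    (h : (𝒮.str.app (op U)).hom r * jel 𝒮 j U e ^ k = 0) : r = 0 := by
  choose co hco using fun x : Γ(E, U) => exists_coeff_gen he x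
  have huniq : ∀ {a b : Γ(S, U)}, a • e = b • e → a = b := fun {a b} hab =>
    (he U le_rfl).1 (by simpa only [Groth.PicAux.res_self] using hab)
  let g : Γ(E, U) →+ (Γ(S, U) : Type u)[X] := AddMonoidHom.mk' (fun x => monomial 1 (co x))
    fun a b => by rw [← map_add]; exact congrArg _ (huniq (by rw [add_smul, hco, hco, hco]))
  let Φ := liftHom (C : Γ(S, U) →+* (Γ(S, U) : Type u)[X]) g fun a x => by
    change monomial 1 (co (a • x)) = C a * monomial 1 (co x)
    rw [C_mul_monomial]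
    exact congrArg _ (huniq (by rw [mul_smul, hco, hco]))
  have h0 : algebraMap Γ(S, U) _ r * SymmetricAlgebra.ι Γ(S, U) Γ(E, U) e ^ k = 0 :=
    (bijective_liftSec hj.1 hU).1 (by
      rw [map_mul, map_pow, liftSec_algebraMap, liftSec_ι, map_zero]
      exact h)
  have h1 := congrArg Φ h0
  have hce : co e = 1 := huniq (by rw [hco, one_smul])
  have hΦe : Φ (SymmetricAlgebra.ι Γ(S, U) Γ(E, U) e) = monomial 1 1 := by
    rw [← hce]
    exact liftHom_ι _ _ _ e
  rw [map_mul, map_pow, map_zero, liftHom_algebraMap, hΦe, monomial_pow, one_pow, C_mul_monomial,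
    mul_one, monomial_eq_zero_iff] at h1
  exact h1

include hj he in
theorem bijective_str_away :
    Function.Bijective (((𝒮.strZero U hU) ≫ CommRingCat.ofHom
      (HomogeneousLocalization.fromZeroRingHom (𝒮.deg U hU) (Submonoid.powers (jel 𝒮 j U e)))).hom) := by
  constructor
  · rw [injective_iff_map_eq_zero]
    intro r hr
    have h1 : (Localization.mk ((𝒮.str.app (op U)).hom r) 1 : Localization (Submonoid.powers (jel 𝒮 j U e))) = 0 :=
      congrArg HomogeneousLocalization.val hr |>.trans HomogeneousLocalization.val_zero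
    rw [Localization.mk_one_eq_algebraMap] at h1
    obtain ⟨⟨_, k, rfl⟩, hk⟩ := (IsLocalization.map_eq_zero_iff (Submonoid.powers (jel 𝒮 j U e)) _ _).1 h1
    exact eq_zero_of_mul_pow hj (hU := hU) he (k := k) (by rw [mul_comm]; exact hk)
  · intro x
    obtain ⟨n, a, ha, rfl⟩ := HomogeneousLocalization.Away.mk_surjective (𝒮.deg U hU)
      (show jel 𝒮 j U e ∈ 𝒮.deg U hU 1 from hj.2 U hU e) x
    obtain ⟨r, rfl⟩ := exists_eq_mul_pow hj he ha
    refine ⟨r, HomogeneousLocalization.val_injective _ ?_⟩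
    rw [HomogeneousLocalization.Away.val_mk]
    change Localization.mk ((𝒮.str.app (op U)).hom r) 1 = _
    rw [Localization.mk_eq_mk_iff, Localization.r_iff_exists]
    refine ⟨1, ?_⟩
    simp
    ring

include hj he in
theorem isIso_toBase : IsIso (Proj.toSpecZero (𝒮.deg U hU) ≫ Spec.map (𝒮.strZero U hU)) := by
  let ι := Proj.awayι (𝒮.deg U hU) (jel 𝒮 j U e) (hj.2 U hU e) one_pos
  have hsurj : Surjective ι := ⟨fun y => by
    have : y ∈ ι.opensRange := by rw [Proj.opensRange_awayι, basicOpen_eq_top hj he]; trivial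
    exact this⟩
  haveI : IsIso ι := (isIso_iff_isOpenImmersion_and_surjective ι).2 ⟨inferInstance, hsurj⟩
  have hb := (ConcreteCategory.isIso_iff_bijective _).2 (bijective_str_away hj (hU := hU) he)
  have : IsIso (ι ≫ Proj.toSpecZero (𝒮.deg U hU) ≫ Spec.map (𝒮.strZero U hU)) := by
    rw [reassoc_of% Proj.awayι_toSpecZero, ← Spec.map_comp]
    infer_instance
  exact IsIso.of_isIso_comp_left ι _

omit hj he [E.IsQuasicoherent] in
theorem exists_affine_gen {E : S.Modules} (hE : PicF.IsInvertible E) (x : S) :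
    ∃ (U : S.Opens) (_ : IsAffineOpen U) (e : Γ(E, U)), x ∈ U ∧ Gen E U e := by
  obtain ⟨V, s, hx, hs⟩ := (isInvertible_iff_exists_gen E).1 hE x
  obtain ⟨U, hU, hxU, hUV⟩ := exists_isAffineOpen_mem_and_subset (x := x) (U := V) hx
  exact ⟨U, hU, _, hxU, hs.res hUV⟩

include hj hP in
theorem isIso_p (hE : PicF.IsInvertible E) : IsIso p := by
  choose U hU e hx he using fun x => exists_affine_gen hE x
  refine (IsZariskiLocalAtTarget.iff_of_iSup_eq_top (P := MorphismProperty.isomorphisms Scheme.{u}) U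
    (eq_top_iff.2 fun x _ => Opens.mem_iSup.2 ⟨x, hx x⟩)).2 fun x => ?_
  change IsIso (p ∣_ U x)
  have e1 : p ∣_ U x = (chart (U x) (hU x)).hom ≫
      (Proj.toSpecZero (𝒮.deg (U x) (hU x)) ≫ Spec.map (𝒮.strZero (U x) (hU x))) ≫ (hU x).isoSpec.inv := by
    rw [← cancel_mono (U x).ι, morphismRestrict_ι, ← hP.chart_over (U x) (hU x)]
    simp only [Category.assoc, IsAffineOpen.isoSpec_inv_ι]
  rw [e1]
  have := isIso_toBase hj (hU := hU x) (he x)
  infer_instance

variable {O1 : P.Modules}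
  {lam : ∀ (U : S.Opens) (hU : IsAffineOpen U),
    O1 ⟶ (Scheme.Modules.pushforward (RelProj.emb p chart U hU)).obj (GrTwist.twist (𝒮.deg U hU) 1)}
  (hO1 : RelProj.IsRelTwist 𝒮 p chart 1 O1 lam)

include hj hP hO1 in
theorem nonempty_pullback_iso (hE : PicF.IsInvertible E) :
    Nonempty ((Scheme.Modules.pullback p).obj E ≅ O1) := by
  obtain ⟨φ, hφ⟩ := exists_phi hj hP hO1
  choose U hU e hx he using fun x => exists_affine_gen hE x
  let a := ((Scheme.Modules.pullbackPushforwardAdjunction p).homEquiv E O1).symm φ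
  have ha : ∀ U e, a.app (p ⁻¹ᵁ U) (pullSec p E e) = φ.app U e := fun U e => by
    have h0 : φ = (Scheme.Modules.pullbackPushforwardAdjunction p).unit.app E ≫
        (Scheme.Modules.pushforward p).map a :=
      ((Scheme.Modules.pullbackPushforwardAdjunction p).homEquiv E O1).apply_symm_apply φ |>.symm.trans
        (Adjunction.homEquiv_unit _ E O1 a)
    conv_rhs => rw [h0]
    rfl
  haveI : IsIso a := by
    refine isIso_of_cover (U := fun x => p ⁻¹ᵁ U x) ?_ a fun x V hV =>
      bijective_of_gen_map a ((he x).pull p) ?_ hV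
    · exact eq_top_iff.2 fun z _ => Opens.mem_iSup.2 ⟨p z, hx (p z)⟩
    · rw [ha]
      have htop : p ⁻¹ᵁ U x ≤ dPlus p chart j (U x) (hU x) (e x) := fun z hz => by
        obtain ⟨y, rfl⟩ := exists_emb_eq (chart := chart) (U x) (hU x) hz
        exact (mem_image_iff (chart := chart) (U x) (hU x) _ y).2
          ((basicOpen_eq_top hj (hU := hU x) (he x)).ge trivial)
      have := (gen_app hj hO1 hφ (U x) (hU x) (e x)).res htop
      rwa [Groth.PicAux.res_res, Groth.PicAux.res_self] at this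
  exact ⟨asIso a⟩

end Groth.RelTw
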