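import Groth.Agent.RelTwist.Coord
import Groth.Agent.RelTwist.EpiGen

/-!
# Morphisms into a projective bundle: local theory
-/

universe u

open CategoryTheory CategoryTheory.Limits AlgebraicGeometry Opposite TopologicalSpace Polynomial
open scoped HomogeneousIdeal

set_option backward.isDefEq.respectTransparency.types false

noncomputable section

namespace Groth.RelTw

open Groth.PicAux

variable {S X : Scheme.{u}}

/-- Sections of `L` attached linearly and compatibly to the sections of `E`. -/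
structure LinData (g : X ⟶ S) (E : S.Modules) (L : X.Modules) where
  /-- the section attached to `e` -/
  app : ∀ U : S.Opens, Γ(E, U) →+ Γ(L, g ⁻¹ᵁ U)
  app_smul : ∀ (U : S.Opens) (a : Γ(S, U)) (e : Γ(E, U)), app U (a • e) = g.app U a • app U e
  app_res : ∀ (U V : S.Opens) (h : V ≤ U) (e : Γ(E, U)),
    res L (g.preimage_mono h) (app U e) = app V (res E h e)

variable {g : X ⟶ S} {E : S.Modules} {L : X.Modules} (σ : LinData g E L)

/-- The locus where the section of `e` generates. -/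
def LinData.genLoc (U : S.Opens) (e : Γ(E, U)) : X.Opens :=
  ⨆ V : {V : X.Opens // ∃ h : V ≤ g ⁻¹ᵁ U, Gen L V (res L h (σ.app U e))}, V.1

theorem LinData.genLoc_le (U : S.Opens) (e : Γ(E, U)) : σ.genLoc U e ≤ g ⁻¹ᵁ U :=
  iSup_le fun V => V.2.1

theorem LinData.gen_genLoc (U : S.Opens) (e : Γ(E, U)) :
    Gen L (σ.genLoc U e) (res L (σ.genLoc_le U e) (σ.app U e)) := by
  refine Gen.of_cover (fun V : {V : X.Opens // ∃ h : V ≤ g ⁻¹ᵁ U, Gen L V (res L h (σ.app U e))} => V.1)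
    (fun V => le_iSup_of_le V le_rfl) le_rfl fun V => ?_
  rw [res_res]
  exact V.2.2

theorem LinData.le_genLoc {U : S.Opens} {e : Γ(E, U)} {V : X.Opens} (h : V ≤ g ⁻¹ᵁ U)
    (hV : Gen L V (res L h (σ.app U e))) : V ≤ σ.genLoc U e :=
  le_iSup_of_le (⟨V, h, hV⟩ : {V : X.Opens // ∃ h : V ≤ g ⁻¹ᵁ U, Gen L V (res L h (σ.app U e))}) le_rfl

/-- The ratio of the section of `e'` by that of `e`. -/
def LinData.ratio (U : S.Opens) (e e' : Γ(E, U)) : Γ(X, σ.genLoc U e) :=
  ((σ.gen_genLoc U e _ le_rfl).2 (res L (σ.genLoc_le U e) (σ.app U e'))).choose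

theorem LinData.ratio_smul (U : S.Opens) (e e' : Γ(E, U)) :
    σ.ratio U e e' • res L (σ.genLoc_le U e) (σ.app U e) = res L (σ.genLoc_le U e) (σ.app U e') := by
  refine Eq.trans ?_ ((σ.gen_genLoc U e _ le_rfl).2 (res L (σ.genLoc_le U e) (σ.app U e'))).choose_spec
  exact congrArg (fun v => σ.ratio U e e' • v) (PicAux.res_self (M := L) le_rfl _).symm

theorem LinData.eq_ratio {U : S.Opens} {e e' : Γ(E, U)} {c : Γ(X, σ.genLoc U e)}
    (h : c • res L (σ.genLoc_le U e) (σ.app U e) = res L (σ.genLoc_le U e) (σ.app U e')) :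
    c = σ.ratio U e e' := by
  refine (σ.gen_genLoc U e).smul_inj le_rfl ?_
  simpa only [PicAux.res_self] using h.trans (σ.ratio_smul U e e').symm

theorem LinData.ratio_self (U : S.Opens) (e : Γ(E, U)) : σ.ratio U e e = 1 :=
  (σ.eq_ratio (one_smul _ _)).symm

theorem LinData.ratio_add (U : S.Opens) (e a b : Γ(E, U)) :
    σ.ratio U e (a + b) = σ.ratio U e a + σ.ratio U e b :=
  (σ.eq_ratio (by rw [add_smul, σ.ratio_smul, σ.ratio_smul, map_add, res_add])).symm

theorem LinData.ratio_base_smul (U : S.Opens) (e : Γ(E, U)) (a : Γ(S, U)) (e' : Γ(E, U)) :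
    σ.ratio U e (a • e') = (g.appLE U (σ.genLoc U e) (σ.genLoc_le U e)).hom a * σ.ratio U e e' :=
  (σ.eq_ratio (by rw [mul_smul, σ.ratio_smul, σ.app_smul, res_smul]; rfl)).symm

/-- The ratios as a ring map on the symmetric algebra. -/
def LinData.symHom (U : S.Opens) (e : Γ(E, U)) :
    SymmetricAlgebra Γ(S, U) Γ(E, U) →+* Γ(X, σ.genLoc U e) :=
  Groth.SymAlg.liftHom (g.appLE U (σ.genLoc U e) (σ.genLoc_le U e)).hom
    (AddMonoidHom.mk' (σ.ratio U e) (σ.ratio_add U e)) (σ.ratio_base_smul U e)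

variable [E.IsQuasicoherent] {𝒮 : RelProj.QCGrAlg S} {j : E ⟶ 𝒮.toModule}
  (hj : RelProj.IsGrSymAlg E 𝒮 j)

/-- The same on the graded algebra. -/
def LinData.algHom {U : S.Opens} (hU : IsAffineOpen U) (e : Γ(E, U)) :
    (𝒮.presheaf.obj (op U) : Type u) →+* Γ(X, σ.genLoc U e) :=
  (σ.symHom U e).comp
    (RingEquiv.ofBijective _ (Groth.SymAlg.bijective_liftSec hj.1 hU)).symm.toRingHom

theorem LinData.algHom_liftSec {U : S.Opens} (hU : IsAffineOpen U) (e : Γ(E, U))
    (q : SymmetricAlgebra Γ(S, U) Γ(E, U)) :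
    σ.algHom hj hU e (Groth.SymAlg.liftSec 𝒮.toQCAlg j U q) = σ.symHom U e q :=
  congrArg (σ.symHom U e) ((RingEquiv.ofBijective _ (Groth.SymAlg.bijective_liftSec hj.1 hU)).symm_apply_apply q)

theorem LinData.algHom_j {U : S.Opens} (hU : IsAffineOpen U) (e e' : Γ(E, U)) :
    σ.algHom hj hU e (jel 𝒮 j U e') = σ.ratio U e e' := by
  rw [show jel 𝒮 j U e' = Groth.SymAlg.liftSec 𝒮.toQCAlg j U (SymmetricAlgebra.ι _ _ e') from
    (Groth.SymAlg.liftSec_ι _ _ U e').symm, σ.algHom_liftSec]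
  exact Groth.SymAlg.liftHom_ι _ _ _ e'

theorem LinData.algHom_str {U : S.Opens} (hU : IsAffineOpen U) (e : Γ(E, U)) (a : Γ(S, U)) :
    σ.algHom hj hU e ((𝒮.str.app (op U)).hom a) = (g.appLE U (σ.genLoc U e) (σ.genLoc_le U e)).hom a := by
  rw [show (𝒮.str.app (op U)).hom a = Groth.SymAlg.liftSec 𝒮.toQCAlg j U (algebraMap _ _ a) from
    (Groth.SymAlg.liftSec_algebraMap _ _ U a).symm, σ.algHom_liftSec]
  exact Groth.SymAlg.liftHom_algebraMap _ _ _ a

/-- The same on the fractions. -/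
def LinData.fracHom {U : S.Opens} (hU : IsAffineOpen U) (e : Γ(E, U)) :
    HomogeneousLocalization.Away (𝒮.deg U hU) (jel 𝒮 j U e) →+* Γ(X, σ.genLoc U e) :=
  (IsLocalization.Away.lift (S := Localization.Away (jel 𝒮 j U e)) (jel 𝒮 j U e) (g := σ.algHom hj hU e)
      (by rw [σ.algHom_j, σ.ratio_self]; exact isUnit_one)).comp
    (algebraMap (HomogeneousLocalization.Away (𝒮.deg U hU) (jel 𝒮 j U e))
      (Localization.Away (jel 𝒮 j U e)))

theorem LinData.fracHom_jfrac {U : S.Opens} (hU : IsAffineOpen U) (e : Γ(E, U)) (k : ℕ)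
    {x : 𝒮.presheaf.obj (op U)} (hx : x ∈ 𝒮.deg U hU k) :
    σ.fracHom hj hU e (jfrac hj U hU e k hx) = σ.algHom hj hU e x := by
  rw [LinData.fracHom, RingHom.comp_apply, HomogeneousLocalization.algebraMap_apply,
    HomogeneousLocalization.Away.val_mk, Localization.mk_eq_mk', IsLocalization.Away.lift,
    IsLocalization.lift_mk', Units.mul_inv_eq_iff_eq_mul, IsUnit.coe_liftRight]
  simp [map_pow, σ.algHom_j, σ.ratio_self]

variable {P : Scheme.{u}} (p : P ⟶ S)
  (chart : ∀ (U : S.Opens) (hU : IsAffineOpen U), (((p ⁻¹ᵁ U : P.Opens) : Scheme.{u}) ≅ Proj (𝒮.deg U hU)))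

/-- The ring map of the local piece of the morphism. -/
def LinData.rho {U : S.Opens} (hU : IsAffineOpen U) (e : Γ(E, U)) :
    Γ(P, dPlus p chart j U hU e) ⟶ Γ(X, σ.genLoc U e) :=
  (coord hj chart U hU e).inv ≫ CommRingCat.ofHom (σ.fracHom hj hU e)

theorem LinData.rho_coord {U : S.Opens} (hU : IsAffineOpen U) (e : Γ(E, U))
    (q : HomogeneousLocalization.Away (𝒮.deg U hU) (jel 𝒮 j U e)) :
    σ.rho hj p chart hU e ((coord hj chart U hU e).hom q) = σ.fracHom hj hU e q :=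
  congrArg (σ.fracHom hj hU e) (congr(($((coord hj chart U hU e).hom_inv_id)).hom q))

end Groth.RelTw
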