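import Groth.Agent.RelTwist.ProjUnivA

/-!
# Morphisms into a projective bundle: characterisation
-/

universe u

open CategoryTheory CategoryTheory.Limits AlgebraicGeometry Opposite TopologicalSpace Polynomial
open scoped HomogeneousIdeal

set_option backward.isDefEq.respectTransparency.types false

noncomputable section

namespace Groth.RelTw

open Groth.PicAux

section pull

variable {X P : Scheme.{u}} (r : X ⟶ P)

/-- Inverse image of functions. -/
abbrev rAp {V : P.Opens} {W : X.Opens} (h : W ≤ r ⁻¹ᵁ V) : Γ(P, V) →+* Γ(X, W) := (r.appLE V W h).hom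

theorem resX_rAp {V : P.Opens} {W W' : X.Opens} (h : W ≤ r ⁻¹ᵁ V) (h' : W' ≤ W) (F : Γ(P, V)) :
    resX X h' (rAp r h F) = rAp r (h'.trans h) F :=
  congr(($(Scheme.Hom.appLE_map r h (homOfLE h').op)).hom F)

theorem rAp_resX {V V' : P.Opens} {W : X.Opens} (h' : V' ≤ V) (h : W ≤ r ⁻¹ᵁ V') (F : Γ(P, V)) :
    rAp r h (resX P h' F) = rAp r (h.trans (r.preimage_mono h')) F :=
  congr(($(Scheme.Hom.map_appLE r h (homOfLE h').op)).hom F)

end pull

variable {S X P : Scheme.{u}} {g : X ⟶ S} {E : S.Modules} {L : X.Modules} (σ : LinData g E L)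
  {𝒮 : RelProj.QCGrAlg S} {j : E ⟶ 𝒮.toModule} (hj : RelProj.IsGrSymAlg E 𝒮 j) {p : P ⟶ S}
  {chart : ∀ (U : S.Opens) (hU : IsAffineOpen U), (((p ⁻¹ᵁ U : P.Opens) : Scheme.{u}) ≅ Proj (𝒮.deg U hU))}
  (hP : RelProj.IsRelProj 𝒮 p chart)
  {O1 : P.Modules}
  {lam : ∀ (U : S.Opens) (hU : IsAffineOpen U),
    O1 ⟶ (Scheme.Modules.pushforward (RelProj.emb p chart U hU)).obj (GrTwist.twist (𝒮.deg U hU) 1)}
  (hO1 : RelProj.IsRelTwist 𝒮 p chart 1 O1 lam)
  {φ : E ⟶ (Scheme.Modules.pushforward p).obj O1}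
  (hφ : ∀ (U : S.Opens) (hU : IsAffineOpen U) (e : Γ(E, U))
    (y : ↥(RelProj.emb p chart U hU ⁻¹ᵁ (p ⁻¹ᵁ U))),
    GrTwist.val (V := RelProj.emb p chart U hU ⁻¹ᵁ (p ⁻¹ᵁ U))
        ((lam U hU).app (p ⁻¹ᵁ U) ((φ.app U) e)) y =
      algebraMap (𝒮.presheaf.obj (op U)) (GrTwist.Loc (𝒮.deg U hU) y.1)
        ((j.app U) e : 𝒮.presheaf.obj (op U)))
  (r : X ⟶ P)

/-- The image of a section of `E` in `O(1)`. -/
abbrev phiSec (φ : E ⟶ (Scheme.Modules.pushforward p).obj O1) (U : S.Opens) (e : Γ(E, U)) : Γ(O1, p ⁻¹ᵁ U) :=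
  φ.app U e

variable (chart j φ) in
/-- The relations between images of sections are carried to the sections of `L`. -/
def Rel : Prop :=
  ∀ (U : S.Opens) (hU : IsAffineOpen U) (e : Γ(E, U)) (U' : S.Opens) (_ : IsAffineOpen U') (e' : Γ(E, U'))
    (V : P.Opens) (hV : V ≤ dPlus p chart j U hU e) (hV' : V ≤ p ⁻¹ᵁ U') (R : Γ(P, V)),
    res O1 hV' (phiSec φ U' e') = R • res O1 (hV.trans (dPlus_le U hU e)) (phiSec φ U e) →
      ∀ (W : X.Opens) (hW : W ≤ r ⁻¹ᵁ V) (h : W ≤ g ⁻¹ᵁ U) (h' : W ≤ g ⁻¹ᵁ U'),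
        res L h' (σ.app U' e') = rAp r hW R • res L h (σ.app U e)

variable (chart j) in
/-- The sections of `E` generate on the preimages of their loci. -/
def GenPre : Prop :=
  ∀ (U : S.Opens) (hU : IsAffineOpen U) (e : Γ(E, U)) (h : r ⁻¹ᵁ dPlus p chart j U hU e ≤ g ⁻¹ᵁ U),
    Gen L (r ⁻¹ᵁ dPlus p chart j U hU e) (res L h (σ.app U e))

variable (chart) in
/-- `r` is the morphism of the data. -/
structure Fits [E.IsQuasicoherent] : Prop where
  comp : r ≫ p = g
  pre : ∀ (U : S.Opens) (hU : IsAffineOpen U) (e : Γ(E, U)), r ⁻¹ᵁ dPlus p chart j U hU e = σ.genLoc U e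
  fn : ∀ (U : S.Opens) (hU : IsAffineOpen U) (e : Γ(E, U)) (h : σ.genLoc U e ≤ r ⁻¹ᵁ dPlus p chart j U hU e),
    r.appLE (dPlus p chart j U hU e) (σ.genLoc U e) h = σ.rho hj p chart hU e

theorem pre_le_of_comp (hc : r ≫ p = g) (U : S.Opens) : r ⁻¹ᵁ (p ⁻¹ᵁ U) = g ⁻¹ᵁ U := by
  subst hc; rfl

theorem rAp_base (hc : r ≫ p = g) {U : S.Opens} {V : P.Opens} (hV : V ≤ p ⁻¹ᵁ U) {W : X.Opens}
    (hW : W ≤ r ⁻¹ᵁ V) (a : Γ(S, U)) :
    rAp r hW (resX P hV (p.app U a)) =
      (g.appLE U W (hW.trans ((r.preimage_mono hV).trans (pre_le_of_comp r hc U).le))).hom a := by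
  subst hc
  rw [rAp_resX, rAp, Scheme.Hom.app_eq_appLE p]
  exact congr(($(Scheme.Hom.appLE_comp_appLE r p U (p ⁻¹ᵁ U) W le_rfl (hW.trans (r.preimage_mono hV)))).hom a)

theorem jfrac_mul (U : S.Opens) (hU : IsAffineOpen U) (e : Γ(E, U)) {k l : ℕ}
    {x y : 𝒮.presheaf.obj (op U)} (hx : x ∈ 𝒮.deg U hU k) (hy : y ∈ 𝒮.deg U hU l) :
    jfrac hj U hU e (k + l) (SetLike.mul_mem_graded hx hy) = jfrac hj U hU e k hx * jfrac hj U hU e l hy := by
  refine HomogeneousLocalization.val_injective _ ?_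
  rw [HomogeneousLocalization.val_mul, HomogeneousLocalization.Away.val_mk, HomogeneousLocalization.Away.val_mk,
    HomogeneousLocalization.Away.val_mk, Localization.mk_mul]
  exact congrArg₂ Localization.mk rfl (Subtype.ext (pow_add _ _ _))

theorem jfrac_add (U : S.Opens) (hU : IsAffineOpen U) (e : Γ(E, U)) {k : ℕ}
    {x y : 𝒮.presheaf.obj (op U)} (hx : x ∈ 𝒮.deg U hU k) (hy : y ∈ 𝒮.deg U hU k) :
    jfrac hj U hU e k (add_mem hx hy) = jfrac hj U hU e k hx + jfrac hj U hU e k hy := by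
  refine HomogeneousLocalization.val_injective _ ?_
  rw [HomogeneousLocalization.val_add, HomogeneousLocalization.Away.val_mk, HomogeneousLocalization.Away.val_mk,
    HomogeneousLocalization.Away.val_mk, Localization.add_mk_self]

theorem jfrac_zero (U : S.Opens) (hU : IsAffineOpen U) (e : Γ(E, U)) (k : ℕ) :
    jfrac hj U hU e k (zero_mem (𝒮.deg U hU k)) = 0 := by
  refine HomogeneousLocalization.val_injective _ ?_
  rw [HomogeneousLocalization.val_zero, HomogeneousLocalization.Away.val_mk, Localization.mk_zero]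

theorem jfrac_congr (U : S.Opens) (hU : IsAffineOpen U) (e : Γ(E, U)) {k k' : ℕ}
    {x x' : 𝒮.presheaf.obj (op U)} (ek : k = k') (ex : x = x') (hx : x ∈ 𝒮.deg U hU k)
    (hx' : x' ∈ 𝒮.deg U hU k') : jfrac hj U hU e k hx = jfrac hj U hU e k' hx' := by
  subst ek ex; rfl

include hP in
/-- Homomorphisms out of the functions of `D₊(j e)` are determined by the base and the ratios. -/
theorem hom_ext_dPlus [E.IsQuasicoherent] (U : S.Opens) (hU : IsAffineOpen U) (e : Γ(E, U)) {C : Type u}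
    [CommRing C] (f₁ f₂ : Γ(P, dPlus p chart j U hU e) →+* C)
    (h0 : ∀ a, f₁ (resX P (dPlus_le U hU e) (p.app U a)) = f₂ (resX P (dPlus_le U hU e) (p.app U a)))
    (h1 : ∀ e', f₁ ((coord hj chart U hU e).hom (jfrac hj U hU e 1 (hj.2 U hU e'))) =
      f₂ ((coord hj chart U hU e).hom (jfrac hj U hU e 1 (hj.2 U hU e')))) :
    f₁ = f₂ := by
  let u₁ := f₁.comp (coord hj chart U hU e).hom.hom
  let u₂ := f₂.comp (coord hj chart U hU e).hom.hom
  suffices hs : ∀ k x (hx : x ∈ 𝒮.deg U hU k), u₁ (jfrac hj U hU e k hx) = u₂ (jfrac hj U hU e k hx) by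
    refine RingHom.ext fun F => ?_
    obtain ⟨k, x, hx, rfl⟩ := exists_eq_coord hj U hU e F
    exact hs k x hx
  have key : ∀ q k (hq : Groth.SymAlg.liftSec 𝒮.toQCAlg j U
      ((Groth.SymAlg.symCo Γ(S, U) Γ(E, U) q).coeff k) ∈ 𝒮.deg U hU k),
      u₁ (jfrac hj U hU e k hq) = u₂ (jfrac hj U hU e k hq) := by
    have hzero : ∀ k {x} (hx : x ∈ 𝒮.deg U hU k), x = 0 → u₁ (jfrac hj U hU e k hx) = u₂ (jfrac hj U hU e k hx) :=
      fun k x hx hx0 => by
        rw [jfrac_congr hj U hU e rfl hx0 hx (zero_mem _), jfrac_zero, map_zero, map_zero]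
    intro q
    induction q using SymmetricAlgebra.induction with
    | algebraMap r =>
      intro k hq
      by_cases hk : k = 0
      · subst hk
        rw [jfrac_congr hj U hU e rfl (by rw [Groth.SymAlg.symCo_algebraMap, coeff_C_zero,
          Groth.SymAlg.liftSec_algebraMap]) hq (𝒮.str_mem U hU r)]
        simp only [u₁, u₂, RingHom.comp_apply]
        exact (congrArg f₁ (coord_str hj hP U hU e r)).trans ((h0 r).trans
          (congrArg f₂ (coord_str hj hP U hU e r)).symm)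
      · exact hzero k hq (by rw [Groth.SymAlg.symCo_algebraMap, coeff_C, if_neg hk, map_zero])
    | ι e' =>
      intro k hq
      by_cases hk : 1 = k
      · subst hk
        rw [jfrac_congr hj U hU e rfl (by rw [Groth.SymAlg.symCo_ι, coeff_monomial, if_pos rfl,
          Groth.SymAlg.liftSec_ι]) hq (hj.2 U hU e')]
        exact h1 e'
      · exact hzero k hq (by rw [Groth.SymAlg.symCo_ι, coeff_monomial, if_neg hk, map_zero])
    | mul a b ha hb =>
      have hm : ∀ q k, Groth.SymAlg.liftSec 𝒮.toQCAlg j U ((Groth.SymAlg.symCo Γ(S, U) Γ(E, U) q).coeff k) ∈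
          𝒮.deg U hU k := fun q k =>
        Groth.SymAlg.liftSec_mem_deg hj hU ((Groth.SymAlg.isWt_symCo _ _).coeff q k)
      have hterm : ∀ c d, u₁ (jfrac hj U hU e (c + d) (SetLike.mul_mem_graded (hm a c) (hm b d))) =
          u₂ (jfrac hj U hU e (c + d) (SetLike.mul_mem_graded (hm a c) (hm b d))) := fun c d => by
        rw [jfrac_mul hj U hU e (hm a c) (hm b d), map_mul, map_mul, ha c (hm a c), hb d (hm b d)]
      intro k hq
      have hmem : ∀ s : Finset (ℕ × ℕ), (∀ c ∈ s, c.1 + c.2 = k) →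
          ∃ hs : ∑ c ∈ s, Groth.SymAlg.liftSec 𝒮.toQCAlg j U ((Groth.SymAlg.symCo Γ(S, U) Γ(E, U) a).coeff c.1) *
            Groth.SymAlg.liftSec 𝒮.toQCAlg j U ((Groth.SymAlg.symCo Γ(S, U) Γ(E, U) b).coeff c.2) ∈ 𝒮.deg U hU k,
            u₁ (jfrac hj U hU e k hs) = u₂ (jfrac hj U hU e k hs) := by
        intro s hs
        induction s using Finset.cons_induction with
        | empty => exact ⟨by rw [Finset.sum_empty]; exact zero_mem _, hzero k _ Finset.sum_empty⟩
        | cons c s hc ih =>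
          obtain ⟨hs', he'⟩ := ih fun d hd => hs d (Finset.mem_cons_of_mem hd)
          have hck : c.1 + c.2 = k := hs c (Finset.mem_cons_self c s)
          have hc' := hck ▸ SetLike.mul_mem_graded (hm a c.1) (hm b c.2)
          refine ⟨by rw [Finset.sum_cons]; exact add_mem hc' hs', ?_⟩
          rw [jfrac_congr hj U hU e rfl (Finset.sum_cons hc) _ (add_mem hc' hs'), jfrac_add hj U hU e hc' hs',
            map_add, map_add, he', jfrac_congr hj U hU e hck.symm rfl hc' (SetLike.mul_mem_graded (hm a c.1) (hm b c.2)),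
            hterm]
      obtain ⟨hs, he⟩ := hmem (Finset.HasAntidiagonal.antidiagonal k) fun c hc => Finset.mem_antidiagonal.1 hc
      rwa [jfrac_congr hj U hU e rfl (by rw [map_mul, coeff_mul, map_sum]; simp only [map_mul]) hq hs]
    | add a b ha hb =>
      intro k hq
      have hm : ∀ q, Groth.SymAlg.liftSec 𝒮.toQCAlg j U ((Groth.SymAlg.symCo Γ(S, U) Γ(E, U) q).coeff k) ∈
          𝒮.deg U hU k := fun q =>
        Groth.SymAlg.liftSec_mem_deg hj hU ((Groth.SymAlg.isWt_symCo _ _).coeff q k)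
      rw [jfrac_congr hj U hU e rfl (by rw [map_add, coeff_add, map_add]) hq (add_mem (hm a) (hm b)),
        jfrac_add hj U hU e (hm a) (hm b), map_add, map_add, ha k (hm a), hb k (hm b)]
  intro k x hx
  obtain ⟨q, hq, rfl⟩ := Groth.SymAlg.exists_eq_liftSec hj hU hx
  have e : (Groth.SymAlg.symCo Γ(S, U) Γ(E, U) q).coeff k = q := by
    rw [(Groth.SymAlg.mem_wt _).1 hq, coeff_monomial, if_pos rfl]
  have := key q k (by rw [e]; exact hx)
  simpa only [e] using this

include hj hO1 hφ in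
/-- Where the image of `e` generates, `j e` does not vanish. -/
theorem mem_dPlus_of_gen [E.IsQuasicoherent] (U : S.Opens) (hU : IsAffineOpen U) (e : Γ(E, U)) {V : P.Opens}
    (hV : V ≤ p ⁻¹ᵁ U) (hgen : Gen O1 V (res O1 hV (phiSec φ U e))) {w : P} (hw : w ∈ V) :
    w ∈ dPlus p chart j U hU e := by
  obtain ⟨e', hwe'⟩ := exists_mem_dPlus (chart := chart) hj U hU (hV hw)
  let Z := V ⊓ dPlus p chart j U hU e'
  set F := (coord hj chart U hU e').hom (jfrac hj U hU e' 1 (hj.2 U hU e))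
  have e1 : res O1 (inf_le_left.trans hV : Z ≤ _) (phiSec φ U e) =
      resX P (inf_le_right : Z ≤ _) F • res O1 ((inf_le_right.trans (dPlus_le U hU e')) : Z ≤ _) (phiSec φ U e') := by
    have := congrArg (res O1 (inf_le_right : Z ≤ dPlus p chart j U hU e'))
      (res_phi_eq_smul hj hO1 hφ U hU e' e)
    rwa [res_smul, PicAux.res_res, PicAux.res_res] at this
  have hgZ := hgen.res (inf_le_left : Z ≤ V)
  rw [PicAux.res_res, e1] at hgZ
  have hg' := (gen_app hj hO1 hφ U hU e').res (inf_le_right : Z ≤ dPlus p chart j U hU e')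
  rw [PicAux.res_res] at hg'
  have hu := hg'.isUnit_of_smul hgZ
  obtain ⟨y, rfl⟩ := exists_emb_eq (chart := chart) U hU (hV hw)
  let ev : Γ(P, Z) →+* GrTwist.Loc (𝒮.deg U hU) y :=
    { toFun := fun G => (((RelProj.emb p chart U hU).app Z G).1 ⟨y, hw, hwe'⟩).val
      map_one' := by rw [map_one]; exact HomogeneousLocalization.val_one
      map_mul' := fun a b => by rw [map_mul]; exact HomogeneousLocalization.val_mul _ _
      map_zero' := by rw [map_zero]; exact HomogeneousLocalization.val_zero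
      map_add' := fun a b => by rw [map_add]; exact HomogeneousLocalization.val_add _ _ }
  have hu' := hu.map ev
  have e2 : ev (resX P inf_le_right F) =
      (Localization.mk (jel 𝒮 j U e) ⟨jel 𝒮 j U e' ^ 1, fun h => (mem_image_iff (chart := chart) U hU _ y).1 hwe'
        (y.isPrime.mem_of_pow_mem _ h)⟩ : GrTwist.Loc (𝒮.deg U hU) y) := by
    refine Eq.trans ?_ (val_coord hj U hU e' 1 (hj.2 U hU e) y hwe')
    exact congrArg (fun G => (G.1 ⟨y, hw, hwe'⟩).val)
      (congr(($((RelProj.emb p chart U hU).naturality (homOfLE (inf_le_right : Z ≤ _)).op)).hom F))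
  rw [e2, Localization.mk_eq_mk'] at hu'
  exact (mem_image_iff (chart := chart) U hU _ y).2
    ((IsLocalization.AtPrime.isUnit_mk'_iff _ _ _ _).1 hu')

variable {r}

include hj hP hO1 hφ in
theorem fits_of_gen_rel [E.IsQuasicoherent] (hc : r ≫ p = g) (hgen : GenPre σ j chart r)
    (hrel : Rel σ j chart φ r) : Fits σ hj chart r := by
  have hle : ∀ (U : S.Opens) (hU : IsAffineOpen U) (e : Γ(E, U)), r ⁻¹ᵁ dPlus p chart j U hU e ≤ g ⁻¹ᵁ U :=
    fun U hU e => (r.preimage_mono (dPlus_le U hU e)).trans (pre_le_of_comp r hc U).le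
  have hpre : ∀ (U : S.Opens) (hU : IsAffineOpen U) (e : Γ(E, U)),
      r ⁻¹ᵁ dPlus p chart j U hU e = σ.genLoc U e := by
    intro U hU e
    refine le_antisymm (σ.le_genLoc (hle U hU e) (hgen U hU e (hle U hU e))) fun z hz => ?_
    have hzU : p (r z) ∈ U := (pre_le_of_comp r hc U).ge (σ.genLoc_le U e hz)
    obtain ⟨e', hze'⟩ := exists_mem_dPlus (chart := chart) hj U hU hzU
    set D' := dPlus p chart j U hU e'
    let Z := σ.genLoc U e ⊓ r ⁻¹ᵁ D'
    set F := (coord hj chart U hU e').hom (jfrac hj U hU e' 1 (hj.2 U hU e))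
    have hF := res_phi_eq_smul hj hO1 hφ U hU e' e
    have e1 := hrel U hU e' U hU e D' le_rfl (dPlus_le U hU e') F hF Z inf_le_right
      (inf_le_left.trans (σ.genLoc_le U e)) (inf_le_left.trans (σ.genLoc_le U e))
    have hgZ := (σ.gen_genLoc U e).res (inf_le_left : Z ≤ _)
    rw [PicAux.res_res, e1] at hgZ
    have hg' := (hgen U hU e' (hle U hU e')).res (inf_le_right : Z ≤ _)
    rw [PicAux.res_res] at hg'
    have hu := hg'.isUnit_of_smul hgZ
    have hzF : r z ∈ P.basicOpen F := by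
      have h1 : z ∈ X.basicOpen (rAp r (inf_le_right : Z ≤ r ⁻¹ᵁ D') F) :=
        (Scheme.basicOpen_of_isUnit X hu).ge ⟨hz, hze'⟩
      rw [rAp, Scheme.Hom.appLE, CommRingCat.comp_apply, Scheme.basicOpen_res, ← Scheme.preimage_basicOpen] at h1
      exact h1.2
    refine mem_dPlus_of_gen hj hO1 hφ U hU e ((P.basicOpen_le F).trans (dPlus_le U hU e')) ?_ hzF
    have hgV := ((gen_app hj hO1 hφ U hU e').res (P.basicOpen_le F)).smul_unit
      (P.toRingedSpace.isUnit_res_basicOpen F)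
    rw [← PicAux.res_res (h := dPlus_le U hU e') (h' := P.basicOpen_le F)]
    rw [hF, res_smul]
    exact hgV
  refine ⟨hc, hpre, fun U hU e h => CommRingCat.hom_ext (hom_ext_dPlus hj hP U hU e _ _ (fun a => ?_) fun e' => ?_)⟩
  · refine (rAp_base r hc (dPlus_le U hU e) h a).trans ?_
    rw [show resX P (dPlus_le U hU e) (p.app U a) =
      (coord hj chart U hU e).hom (jfrac hj U hU e 0 (𝒮.str_mem U hU a)) from (coord_str hj hP U hU e a).symm]
    refine Eq.trans ?_ (σ.rho_coord hj p chart hU e _).symm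
    rw [σ.fracHom_jfrac, σ.algHom_str]
  · refine Eq.trans ?_ ((σ.rho_coord hj p chart hU e _).trans
      ((σ.fracHom_jfrac hj hU e 1 _).trans (σ.algHom_j hj hU e e'))).symm
    refine σ.eq_ratio ?_
    exact (hrel U hU e U hU e' _ le_rfl (dPlus_le U hU e) _ (res_phi_eq_smul hj hO1 hφ U hU e e') _ h
      (σ.genLoc_le U e) (σ.genLoc_le U e)).symm

include hj hO1 hφ in
/-- Rationale: relations against one chart propagate to all sections. -/
theorem rel_of_base [E.IsQuasicoherent] (hc : r ≫ p = g) (U : S.Opens) (hU : IsAffineOpen U) (e : Γ(E, U))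
    (hbase : ∀ (e' : Γ(E, U)) (W : X.Opens) (hW : W ≤ r ⁻¹ᵁ dPlus p chart j U hU e) (h : W ≤ g ⁻¹ᵁ U),
      res L h (σ.app U e') =
        rAp r hW ((coord hj chart U hU e).hom (jfrac hj U hU e 1 (hj.2 U hU e'))) • res L h (σ.app U e))
    (U' : S.Opens) (e' : Γ(E, U')) (V : P.Opens) (hV : V ≤ dPlus p chart j U hU e) (hV' : V ≤ p ⁻¹ᵁ U')
    (R : Γ(P, V))
    (hR : res O1 hV' (phiSec φ U' e') = R • res O1 (hV.trans (dPlus_le U hU e)) (phiSec φ U e))
    (W : X.Opens) (hW : W ≤ r ⁻¹ᵁ V) (h : W ≤ g ⁻¹ᵁ U) (h' : W ≤ g ⁻¹ᵁ U') :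
    res L h' (σ.app U' e') = rAp r hW R • res L h (σ.app U e) := by
  choose f hfU hzf using fun z : W => hU.exists_basicOpen_le (V := U ⊓ U') ⟨g z.1, h z.2, h' z.2⟩ (h z.2)
  refine res_ext (fun z : W => W ⊓ g ⁻¹ᵁ S.basicOpen (f z)) (fun _ => inf_le_left)
    (fun z hz => Opens.mem_iSup.2 ⟨⟨z, hz⟩, hz, hzf ⟨z, hz⟩⟩) fun z => ?_
  set Df := S.basicOpen (f z)
  have hfU₁ : Df ≤ U := S.basicOpen_le (f z)
  have hfU₂ : Df ≤ U' := (hfU z).trans inf_le_right
  obtain ⟨n, e'', he''⟩ :=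
    Groth.QCohMod.exists_pow_smul_eq_res E hU (f z) (res E hfU₂ e')
  set a : Γ(S, Df) := Groth.QCohMod.resFun S (S.basicOpen_le (f z)) (f z) ^ n
  let V1 := V ⊓ p ⁻¹ᵁ Df
  let W1 := W ⊓ g ⁻¹ᵁ Df
  have hW1 : W1 ≤ r ⁻¹ᵁ V1 := fun w hw => ⟨hW hw.1, (pre_le_of_comp r hc Df).ge hw.2⟩
  set G := (coord hj chart U hU e).hom (jfrac hj U hU e 1 (hj.2 U hU e''))
  have hP1 : resX P (inf_le_left.trans hV : V1 ≤ _) G = resX P inf_le_right (p.app Df a) * resX P inf_le_left R := by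
    refine ((gen_app hj hO1 hφ U hU e).res hV).smul_inj (inf_le_left : V1 ≤ V) ?_
    rw [mul_smul, PicAux.res_res, PicAux.res_res]
    have h1 := congrArg (res O1 ((inf_le_left.trans hV) : V1 ≤ _)) (res_phi_eq_smul hj hO1 hφ U hU e e'')
    have h2 := congrArg (res O1 (inf_le_left : V1 ≤ V)) hR
    rw [res_smul, PicAux.res_res, PicAux.res_res] at h1 h2
    refine h1.symm.trans ?_
    refine Eq.trans ?_ (congrArg (resX P inf_le_right (p.app Df a) • ·) h2)
    have h3 : phiSec φ Df (res E hfU₁ e'') = p.app Df a • phiSec φ Df (res E hfU₂ e') :=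
      (congrArg (φ.app Df) he'').trans (φ.app_smul a _)
    have h4 := congrArg (res O1 (inf_le_right : V1 ≤ p ⁻¹ᵁ Df)) h3
    rw [res_smul] at h4
    have h5 : ∀ {U₀ : S.Opens} (hle : Df ≤ U₀) (x : Γ(E, U₀)),
        res O1 (inf_le_right : V1 ≤ p ⁻¹ᵁ Df) (phiSec φ Df (res E hle x)) =
          res O1 (inf_le_right.trans (p.preimage_mono hle) : V1 ≤ p ⁻¹ᵁ U₀) (phiSec φ U₀ x) := fun hle x =>
      (congrArg (res O1 (inf_le_right : V1 ≤ p ⁻¹ᵁ Df)) (PicAux.app_res φ hle x)).trans (PicAux.res_res _ _ _)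
    rw [h5 hfU₁, h5 hfU₂] at h4
    exact h4
  have hu : IsUnit ((g.appLE Df W1 inf_le_right).hom a) :=
    ((S.toRingedSpace.isUnit_res_basicOpen (f z)).pow n).map _
  rw [res_smul, PicAux.res_res, PicAux.res_res, resX_rAp]
  refine hu.smul_left_cancel.mp ?_
  have h1 := hbase e'' W1 (hW1.trans (r.preimage_mono (inf_le_left.trans hV))) (inf_le_left.trans h)
  rw [← rAp_resX r (inf_le_left.trans hV : V1 ≤ _) hW1 G, hP1, map_mul, rAp_base r hc inf_le_right hW1,
    rAp_resX r inf_le_left hW1, mul_smul] at h1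
  refine Eq.trans ?_ h1
  have h2 : σ.app Df (res E hfU₁ e'') = g.app Df a • σ.app Df (res E hfU₂ e') :=
    (congrArg (σ.app Df) he'').trans (σ.app_smul Df a _)
  rw [← σ.app_res U Df hfU₁, ← σ.app_res U' Df hfU₂] at h2
  have h3 := congrArg (res L (inf_le_right : W1 ≤ g ⁻¹ᵁ Df)) h2
  rw [res_smul, PicAux.res_res, PicAux.res_res] at h3
  exact h3.symm

end Groth.RelTw
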